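import Groth.Agent.AlgSp.K629.Cover
import Groth.Prelude.Def_AlgSpCov

/-!
# Coverings of algebraic spaces: local lifts, standard fpqc refinements
-/

set_option autoImplicit false
universe u
open CategoryTheory CategoryTheory.Limits AlgebraicGeometry Opposite
open AlgSp K629.Basic K629.LocP K629.Cover

namespace K626.Cov

variable {S : Scheme.{u}}

/-- A jointly surjective family `X_i ⟶ X` with the property `R` (etale locally on source and target): every `h_T ⟶ X`
lifts through members of the family along a jointly surjective family `T_i ⟶ T` with `R`. -/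
theorem exists_local_lift (R : MorphismProperty Scheme.{u}) [R.IsStableUnderBaseChange]
    (hR : ∀ ⦃A B C : Scheme.{u}⦄ (e : A ⟶ B) (f : B ⟶ C), R e → Etale f → R (e ≫ f))
    {ι : Type u} {X : Sp S} (Xi : ι → Sp S) (g : ∀ i, Xi i ⟶ X) (hX : IsAlgSpace X) (hXi : ∀ i, IsAlgSpace (Xi i))
    (hg : ∀ x : Points X, ∃ i, x ∈ Set.range (Points.map (g i))) (hgR : ∀ i, LocP R (g i))
    (T : Over S) (t : (yon S).obj T ⟶ X) :
    ∃ (T' : ι → Over S) (c : ∀ i, T' i ⟶ T) (l : ∀ i, (yon S).obj (T' i) ⟶ Xi i),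
      (∀ i, R (c i).left) ∧ (∀ i, l i ≫ g i = (yon S).map (c i) ≫ t) ∧
        ∀ v : ↥T.left, ∃ i, v ∈ Set.range (c i).left := by
  obtain ⟨U, a, ha, has⟩ := hX.atlas
  obtain ⟨V, p, q, hpq, hq⟩ := exists_pb_yon ha t
  have hqs : Surjective q.left := has.2 t _ _ hpq
  obtain ⟨T', c, l, h1, h2, h3⟩ := exists_charts Xi g hXi hg a ha
  have sq : ∀ i, IsPullback (pullback.fst (c i) p) (pullback.snd (c i) p) (c i) p :=
    fun i => IsPullback.of_hasPullback _ _
  refine ⟨fun i => pullback (c i) p, fun i => pullback.snd (c i) p ≫ q,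
    fun i => (yon S).map (pullback.fst (c i) p) ≫ l i, fun i => ?_, fun i => ?_, fun v => ?_⟩
  · have h4 : R (c i).left := hgR i (l i) a (c i) (h1 i) ha (h2 i)
    have h5 : R (pullback.snd (c i) p).left := R.of_isPullback ((sq i).map (Over.forget S)) h4
    exact hR _ _ h5 hq
  · rw [Category.assoc, h2, ← Category.assoc, ← Functor.map_comp, (sq i).w, Functor.map_comp, Category.assoc,
      hpq.w, Functor.map_comp, Category.assoc]
  · obtain ⟨w, hw⟩ := hqs.surj v
    obtain ⟨i, s, hs⟩ := h3 (p.left w)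
    refine ⟨i, ?_⟩
    have h6 : Points.ofPt ((yon S).map (c i)) s = Points.ofPt ((yon S).map p) w := by
      have e1 := ofPt_comp (c i) (𝟙 _) s
      have e2 := ofPt_comp p (𝟙 _) w
      rw [Category.comp_id] at e1 e2
      rw [e1, e2, hs]
    obtain ⟨r, hr1, hr2⟩ := exists_pt_yon ((sq i).map (yon S)) s w h6
    refine ⟨r, ?_⟩
    rw [Over.comp_left, Scheme.Hom.comp_apply, hr2, hw]

/-- `Z` has a standard fpqc covering (finitely many affine schemes flat over it and jointly surjective) all of whose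
members satisfy `Q`. -/
def Std (Z : Over S) (Q : ∀ W : Over S, (W ⟶ Z) → Prop) : Prop :=
  ∃ (m : ℕ) (W : Fin m → Over S) (c : ∀ j, W j ⟶ Z),
    (∀ j, IsAffine (W j).left) ∧ (∀ j, Flat (c j).left) ∧
    (∀ z : ↥Z.left, ∃ j, z ∈ Set.range (c j).left) ∧ ∀ j, Q (W j) (c j)

theorem Std.of_finite {Z : Over S} {Q : ∀ W : Over S, (W ⟶ Z) → Prop} {κ : Type*} [Finite κ] (W : κ → Over S)
    (c : ∀ j, W j ⟶ Z) (h1 : ∀ j, IsAffine (W j).left) (h2 : ∀ j, Flat (c j).left)
    (h3 : ∀ z : ↥Z.left, ∃ j, z ∈ Set.range (c j).left) (h4 : ∀ j, Q (W j) (c j)) : Std Z Q := by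
  obtain ⟨m, ⟨e⟩⟩ := Finite.exists_equiv_fin κ
  refine ⟨m, fun j => W (e.symm j), fun j => c (e.symm j), fun j => h1 _, fun j => h2 _, fun z => ?_, fun j => h4 _⟩
  obtain ⟨j, hj⟩ := h3 z
  obtain ⟨j', rfl⟩ := e.symm.surjective j
  exact ⟨j', hj⟩

theorem Std.bind {Z : Over S} {Q Q' : ∀ W : Over S, (W ⟶ Z) → Prop} (h : Std Z Q)
    (h' : ∀ (W : Over S) (c : W ⟶ Z), IsAffine W.left → Q W c → Std W (fun V d => Q' V (d ≫ c))) : Std Z Q' := by
  obtain ⟨m, W, c, h1, h2, h3, h4⟩ := h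
  choose n V d k1 k2 k3 k4 using fun j => h' (W j) (c j) (h1 j) (h4 j)
  refine Std.of_finite (κ := Σ j : Fin m, Fin (n j)) (fun r => V r.1 r.2) (fun r => d r.1 r.2 ≫ c r.1)
    (fun r => k1 _ _) (fun r => ?_) (fun z => ?_) (fun r => k4 _ _)
  · have := k2 r.1 r.2
    have := h2 r.1
    exact inferInstanceAs (Flat ((d r.1 r.2).left ≫ (c r.1).left))
  · obtain ⟨j, w, rfl⟩ := h3 z
    obtain ⟨l, v, rfl⟩ := k3 j w
    exact ⟨⟨j, l⟩, v, by rw [Over.comp_left, Scheme.Hom.comp_apply]⟩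

theorem Std.mono {Z : Over S} {Q Q' : ∀ W : Over S, (W ⟶ Z) → Prop} (h : Std Z Q)
    (h' : ∀ (W : Over S) (c : W ⟶ Z), Q W c → Q' W c) : Std Z Q' := by
  obtain ⟨m, W, c, h1, h2, h3, h4⟩ := h
  exact ⟨m, W, c, h1, h2, h3, fun j => h' _ _ (h4 j)⟩

/-- A jointly surjective family of flat open morphisms to a quasi-compact scheme has a standard fpqc refinement. -/
theorem Std.of_open_family {Z : Over S} [CompactSpace Z.left] {Q : ∀ W : Over S, (W ⟶ Z) → Prop}
    {ι : Type*} (T : ι → Over S) (t : ∀ i, T i ⟶ Z) (h1 : ∀ i, Flat (t i).left) (h2 : ∀ i, IsOpenMap (t i).left)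
    (h3 : ∀ z : ↥Z.left, ∃ i, z ∈ Set.range (t i).left)
    (h4 : ∀ (i : ι) (V : Over S) (d : V ⟶ T i), Q V (d ≫ t i)) : Std Z Q := by
  choose i s hs using h3
  choose W hW hsW using fun z => (exists_isAffineOpen_mem_and_subset (x := s z) (U := ⊤) (by trivial))
  have hcov := isCompact_univ (X := Z.left).elim_nhds_subcover (fun z => (t (i z)).left '' (W z : Set (T (i z)).left))
    (fun z _ => (h2 (i z) _ (W z).isOpen).mem_nhds ⟨s z, (hsW z).1, hs z⟩)
  obtain ⟨F, -, hF⟩ := hcov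
  refine Std.of_finite (κ := F) (fun z => Over.mk ((W z.1).ι ≫ (T (i z.1)).hom))
    (fun z => Over.homMk (W z.1).ι rfl ≫ t (i z.1)) (fun z => hW z.1) (fun z => ?_) (fun z => ?_) (fun z => h4 _ _ _)
  · have := h1 (i z.1)
    exact inferInstanceAs (Flat ((W z.1).ι ≫ (t (i z.1)).left))
  · obtain ⟨y, hy⟩ := Set.mem_iUnion.1 (hF (Set.mem_univ z))
    obtain ⟨hy, w, hw, hwz⟩ := Set.mem_iUnion.1 hy
    refine ⟨⟨y, hy⟩, ⟨w, hw⟩, ?_⟩
    rw [Over.comp_left, Scheme.Hom.comp_apply]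
    exact hwz

/-- Refinement half of "fppf coverings are fpqc coverings". -/
theorem std_of_isFppfCover {ι : Type u} {X : Sp S} (Xi : ι → Sp S) (g : ∀ i, Xi i ⟶ X) (hX : IsAlgSpace X)
    (hXi : ∀ i, IsAlgSpace (Xi i)) (h : IsFppfCover Xi g) (Z : Over S) (hZ : IsAffine Z.left)
    (t : (yon S).obj Z ⟶ X) :
    Std Z (fun W c => ∃ (i : ι) (l : (yon S).obj W ⟶ Xi i), l ≫ g i = (yon S).map c ≫ t) := by
  have hR : ∀ i, LocP (@Flat ⊓ @LocallyOfFinitePresentation) (g i) := fun i U V a b k ha hb w =>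
    ⟨(h.1 i).1 a b k ha hb w, (h.1 i).2 a b k ha hb w⟩
  have : (@Flat ⊓ @LocallyOfFinitePresentation : MorphismProperty Scheme.{u}).IsStableUnderBaseChange := {
    of_isPullback := fun sq hh => ⟨MorphismProperty.of_isPullback (P := @Flat) sq hh.1,
      MorphismProperty.of_isPullback (P := @LocallyOfFinitePresentation) sq hh.2⟩ }
  obtain ⟨T, c, l, h1, h2, h3⟩ := exists_local_lift (@Flat ⊓ @LocallyOfFinitePresentation)
    (fun A B C e f he hf => by
      have := he.1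
      have := he.2
      have := hf
      exact ⟨inferInstanceAs (Flat (e ≫ f)), inferInstanceAs (LocallyOfFinitePresentation (e ≫ f))⟩)
    Xi g hX hXi h.2 hR Z t
  have : CompactSpace Z.left := inferInstance
  refine Std.of_open_family T c (fun i => (h1 i).1) (fun i => ?_) h3 (fun i V d => ⟨i, (yon S).map d ≫ l i, ?_⟩)
  · have := (h1 i).1
    have := (h1 i).2
    exact (c i).left.isOpenMap
  · rw [Category.assoc, h2, Functor.map_comp, Category.assoc]

end K626.Cov
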