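import Groth.Agent.AlgSp.K626.GrpDesc
import Groth.Agent.S10464
/-!
# Separated group algebraic spaces over a field are schemes, modulo the case of an algebraic closure
-/

set_option autoImplicit false
universe u v
open CategoryTheory MonoidalCategory CartesianMonoidalCategory AlgebraicGeometry
open Topology TopologicalSpace
open AlgSp
open K625.Fld (fld bcs homOf bcMap)
open Opposite

namespace K626.GrpFinal

variable {k : Type u} [Field k]

/-- Base change of representable base changes. -/
theorem exists_iso_bcs {X : Sp (Spec (CommRingCat.of k))} {K L : Type u} [Field K] [Field L]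
    [Algebra k K] [Algebra k L] (φ : K →ₐ[k] L) (h : (bcs X K).obj.IsRepresentable) :
    ∃ T₀ : Over (Spec (CommRingCat.of k)), Nonempty ((yon _).obj T₀ ≅ bcs X L) := by
  obtain ⟨H, ⟨e⟩⟩ := K610.ZarGlue.isRepresentable_iff.1 h
  have hr : RepWith @Surjective (bcMap X φ) :=
    K625.Prod.repWith_map_right @Surjective X _ (K625.Fld.surjective_homOf φ)
  obtain ⟨W, i, r, sq⟩ := hr.1 e.hom
  have : IsIso r := sq.isIso_fst_of_isIso
  exact ⟨W, ⟨asIso r⟩⟩

theorem isQuasiSeparatedSp {S : Scheme.{u}} {X : Sp S} (h : IsSeparatedSp X) :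
    IsQuasiSeparatedSp X :=
  K625.Level.repWith_mono (P := @IsClosedImmersion) (Q := @QuasiCompact)
    (fun _ _ f hf => by have : IsClosedImmersion f := hf; exact (inferInstance : QuasiCompact f)) h

theorem main (G : Over ((yon (Spec (CommRingCat.of k))).obj (Over.mk (𝟙 _)))) [GrpObj G]
    (hG : IsAlgSpace G.left) (hsep : IsSeparatedSp G.left)
    (h : (bcs G.left (AlgebraicClosure k)).obj.IsRepresentable) : G.left.obj.IsRepresentable := by
  obtain ⟨V, c, hc1, hc2⟩ := hG.atlas
  let J : Type u := Σ W : V.left.Opens, Γ(V.left, W)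
  let ι : Type u := Set J
  let K : Type u := FractionRing (MvPolynomial ι k)
  let Ω : Type u := AlgebraicClosure K
  let φ : AlgebraicClosure k →ₐ[k] Ω := IsAlgClosed.lift
  obtain ⟨T₀, ⟨e⟩⟩ := exists_iso_bcs φ h
  obtain ⟨q, hq⟩ := (yon _).map_surjective (e.hom ≫ Limits.prod.snd)
  have hcard : ∀ W : V.left.Opens, IsAffineOpen W →
      Cardinal.mk Γ(V.left, W) < Cardinal.mk Ω := by
    intro W _
    have h1 : Cardinal.mk Γ(V.left, W) ≤ Cardinal.mk J :=
      Cardinal.mk_le_of_injective (f := fun a => (⟨W, a⟩ : J)) (fun a b h =>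
        eq_of_heq (Sigma.mk.inj h).2)
    have h2 : Cardinal.mk J < Cardinal.mk ι := by
      rw [Cardinal.mk_set]
      exact Cardinal.cantor _
    have h3 : Cardinal.mk ι ≤ Cardinal.mk Ω := by
      refine Cardinal.mk_le_of_injective (f := fun i : ι =>
        algebraMap K Ω (algebraMap (MvPolynomial ι k) K (MvPolynomial.X i))) ?_
      intro a b hab
      exact MvPolynomial.X_injective (IsFractionRing.injective (MvPolynomial ι k) K
        ((algebraMap K Ω).injective hab))
    exact h1.trans_lt (h2.trans_le h3)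
  have hR := K626.GrpRat.ratDense G.left T₀ e q hq V c hc2 hcard
  have key := K626.GrpDesc.isRepresentable (K := K) G hG T₀ e q hq hR
  exact Groth.Agent.S10464.result k ⟨G.left, hG⟩ (isQuasiSeparatedSp hsep) ι key

end K626.GrpFinal
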