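import Mathlib.AlgebraicGeometry.Morphisms.FiniteType
import Mathlib.AlgebraicGeometry.Morphisms.ClosedImmersion
import Mathlib.RingTheory.Jacobson.Ring
import Mathlib.FieldTheory.IsAlgClosed.Basic

/-!
# Rational points of closed subsets of schemes locally of finite type over an algebraically closed field
-/

set_option autoImplicit false
universe u

open CategoryTheory CategoryTheory.Limits AlgebraicGeometry Opposite TopologicalSpace

namespace K626.W5

/-- A nonempty scheme locally of finite type over an algebraically closed field has a rational point. -/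
theorem exists_ratPt_of_nonempty {K : Type u} [Field K] [IsAlgClosed K] {U : Scheme.{u}} [Nonempty U]
    (h : U ⟶ Spec (CommRingCat.of K)) [LocallyOfFiniteType h] :
    ∃ q : Spec (CommRingCat.of K) ⟶ U, q ≫ h = 𝟙 _ := by
  obtain ⟨u⟩ : Nonempty U := inferInstance
  obtain ⟨W, hW, huW, -⟩ := exists_isAffineOpen_mem_and_subset (U := (⊤ : U.Opens))
    (show u ∈ (⊤ : U.Opens) from trivial)
  let ψ : K →+* Γ(U, W) := (h.appLE ⊤ W le_top).hom.comp (Scheme.ΓSpecIso (CommRingCat.of K)).inv.hom
  have hψ : ψ.FiniteType := by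
    have h1 : (h.appLE ⊤ W le_top).hom.FiniteType :=
      Scheme.Hom.finiteType_appLE h (isAffineOpen_top _) hW le_top
    exact h1.comp (RingHom.FiniteType.of_surjective _
      (ConcreteCategory.bijective_of_isIso (Scheme.ΓSpecIso (CommRingCat.of K)).inv).2)
  have : Nontrivial Γ(U, W) := by
    have : Nonempty W := ⟨⟨u, huW⟩⟩
    exact inferInstance
  obtain ⟨m, hm⟩ := Ideal.exists_maximal Γ(U, W)
  let _ := ψ.toAlgebra
  have hft : Algebra.FiniteType K Γ(U, W) := hψ
  let _ : Field (Γ(U, W) ⧸ m) := Ideal.Quotient.field m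
  have hfin : Module.Finite K (Γ(U, W) ⧸ m) := by
    have : Algebra.FiniteType K (Γ(U, W) ⧸ m) := inferInstance
    exact finite_of_finite_type_of_isJacobsonRing K (Γ(U, W) ⧸ m)
  have hbij : Function.Bijective (algebraMap K (Γ(U, W) ⧸ m)) :=
    IsAlgClosed.algebraMap_bijective_of_isIntegral
  let e : K ≃+* (Γ(U, W) ⧸ m) := RingEquiv.ofBijective _ hbij
  refine ⟨Spec.map (CommRingCat.ofHom (e.symm.toRingHom.comp (Ideal.Quotient.mk m))) ≫ hW.fromSpec, ?_⟩
  rw [Category.assoc, ← IsAffineOpen.SpecMap_appLE_fromSpec h (isAffineOpen_top _) hW le_top,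
    IsAffineOpen.fromSpec_top, Scheme.isoSpec_Spec_inv, ← Spec.map_comp, ← Spec.map_comp, ← Spec.map_id]
  congr 1
  ext a
  exact e.symm_apply_apply a

/-- every nonempty closed subset contains a rational point -/
theorem exists_ratPt {K : Type u} [Field K] [IsAlgClosed K] {U : Scheme.{u}}
    (h : U ⟶ Spec (CommRingCat.of K)) [LocallyOfFiniteType h] (C : Set U) (hC : IsClosed C) (hne : C.Nonempty) :
    ∃ q : Spec (CommRingCat.of K) ⟶ U, q ≫ h = 𝟙 _ ∧ ∀ t, q t ∈ C := by
  let I : U.IdealSheafData := Scheme.IdealSheafData.vanishingIdeal ⟨C, hC⟩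
  have hr : Set.range I.subschemeι = C := by
    rw [Scheme.IdealSheafData.range_subschemeι, Scheme.IdealSheafData.coe_support_vanishingIdeal]
    rfl
  have : Nonempty I.subscheme := by
    obtain ⟨c, hc⟩ := hne
    rw [← hr] at hc
    obtain ⟨y, -⟩ := hc
    exact ⟨y⟩
  obtain ⟨q, hq⟩ := exists_ratPt_of_nonempty (I.subschemeι ≫ h)
  refine ⟨q ≫ I.subschemeι, by rw [Category.assoc, hq], fun t => ?_⟩
  rw [Scheme.Hom.comp_apply, ← hr]
  exact ⟨_, rfl⟩

end K626.W5
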