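import Groth.Agent.AlgSp.K626.W5Pt
import Groth.Agent.AlgSp.K611.GeomPt
import Groth.Agent.AlgSp.K608.GrpSch

/-!
# Translation of the schematic locus of a group algebraic space by sections over finite extensions
-/

set_option autoImplicit false
set_option backward.isDefEq.respectTransparency false
universe u

open CategoryTheory CategoryTheory.Limits AlgebraicGeometry Opposite TopologicalSpace

namespace K626.W5

open AlgSp K610.SchLocus

theorem prop_chart {S : Scheme.{u}} {P : MorphismProperty Scheme.{u}} {F : Sp S}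
    {f : F ⟶ (yon S).obj (Over.mk (𝟙 S))} (hf : LocP P f) {U : Over S} {a : (yon S).obj U ⟶ F}
    (ha : RepWith @Etale a) : P U.hom :=
  hf a (𝟙 _) (K625.Prod.toBase U) ha (repWith_id _ _) ((K625.Prod.isTerminalBase S).hom_ext _ _)

/-- a field-valued point as a `FieldPt` -/
theorem exists_fieldPt {S : Scheme.{u}} {F : Sp S} {K : Type u} [Field K] (str : Spec (CommRingCat.of K) ⟶ S)
    (g : (yon S).obj (Over.mk str) ⟶ F) : ∃ (val : F.obj.obj (op (Over.mk str))),
      (⟨K, str, val⟩ : FieldPt F).toHom = g := by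
  refine ⟨(J S).uliftYonedaEquiv g, ?_⟩
  rw [K647.FibNoeth.toHom_eq]
  exact Equiv.symm_apply_apply _ _

theorem exists_lift_chart {S : Scheme.{u}} {F : Sp S} {K : Type u} [Field K] [IsSepClosed K]
    (str : Spec (CommRingCat.of K) ⟶ S) (g : (yon S).obj (Over.mk str) ⟶ F) {U : Over S} {a : (yon S).obj U ⟶ F}
    (ha : RepWith @Etale a) (ha' : RepWith @Surjective a) : ∃ l : Over.mk str ⟶ U, (yon S).map l ≫ a = g := by
  obtain ⟨val, rfl⟩ := exists_fieldPt str g
  exact K611.exists_lift_of_surjective ha ha' ⟨K, str, val⟩ inferInstance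

section

variable {R : Type u} [CommRing R]

/-- a morphism from the spectrum of a field to a scheme flat and locally of finite type over `R` factors through the
spectrum of a flat `R`-algebra of finite type -/
theorem exists_affine_fac {K : Type u} [Field K] [Algebra R K] (Y : Over (Spec (CommRingCat.of R)))
    [LocallyOfFiniteType Y.hom] [Flat Y.hom] (g : alg R K ⟶ Y) :
    ∃ (A : Type u) (_ : CommRing A) (_ : Algebra R A) (_ : Algebra.FiniteType R A) (_ : Module.Flat R A)
      (i : alg R A ⟶ Y) (y : A →ₐ[R] K), algHom y ≫ i = g := by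
  let y₀ : Y.left := g.left (IsLocalRing.closedPoint K)
  obtain ⟨W, hW, hy, -⟩ := exists_isAffineOpen_mem_and_subset (U := (⊤ : Y.left.Opens)) (show y₀ ∈ ⊤ from trivial)
  let ψ : R →+* Γ(Y.left, W) := (Y.hom.appLE ⊤ W le_top).hom.comp (Scheme.ΓSpecIso (CommRingCat.of R)).inv.hom
  have hψ : ψ.FiniteType := by
    have h1 : (Y.hom.appLE ⊤ W le_top).hom.FiniteType :=
      Scheme.Hom.finiteType_appLE Y.hom (isAffineOpen_top _) hW le_top
    exact h1.comp (RingHom.FiniteType.of_surjective _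
      (ConcreteCategory.bijective_of_isIso (Scheme.ΓSpecIso (CommRingCat.of R)).inv).2)
  have e0 : Spec.map (CommRingCat.ofHom ψ) = hW.fromSpec ≫ Y.hom := by
    rw [← IsAffineOpen.SpecMap_appLE_fromSpec Y.hom (isAffineOpen_top _) hW le_top,
      IsAffineOpen.fromSpec_top, Scheme.isoSpec_Spec_inv, ← Spec.map_comp]
    rfl
  have hfl : ψ.Flat := by
    have h1 : Flat (Spec.map (CommRingCat.ofHom ψ)) := by
      rw [e0]
      infer_instance
    exact (Flat.SpecMap_iff).1 h1
  let _ : Algebra R Γ(Y.left, W) := ψ.toAlgebra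
  let i : alg R Γ(Y.left, W) ⟶ Y := Over.homMk hW.fromSpec e0.symm
  have hr : Set.range g.left ⊆ Set.range hW.fromSpec := by
    rintro _ ⟨t, rfl⟩
    rw [hW.range_fromSpec]
    have : t = (IsLocalRing.closedPoint K : (alg R K).left) := Subsingleton.elim (α := PrimeSpectrum K) _ _
    rw [this]
    exact hy
  let l : (alg R K).left ⟶ Spec Γ(Y.left, W) := IsOpenImmersion.lift hW.fromSpec g.left hr
  have hl : l ≫ hW.fromSpec = g.left := IsOpenImmersion.lift_fac _ _ _
  let l' : alg R K ⟶ alg R Γ(Y.left, W) := Over.homMk l (by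
    rw [← Over.w g, ← hl, Category.assoc]
    congr 1)
  obtain ⟨y, hy⟩ := exists_algHom l'
  refine ⟨Γ(Y.left, W), inferInstance, inferInstance, hψ, hfl, i, y, ?_⟩
  rw [← hy]
  ext1
  exact hl

/-- The lifting property of an `R`-algebra `B` (absolute integral closure): points with values in residue fields of `B`
of flat `R`-algebras of finite type lift to localizations of finite subalgebras of `B`. -/
def Lifts (R : Type u) [CommRing R] (B : Type u) [CommRing B] [Algebra R B] : Prop :=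
  ∀ (q : Ideal B) [q.IsPrime] (A : Type u) [CommRing A] [Algebra R A] [Algebra.FiniteType R A] [Module.Flat R A]
    (y : A →ₐ[R] q.ResidueField), ∃ (R₁ : Subalgebra R B) (_ : Module.Finite R R₁) (h : R₁)
      (s : A →ₐ[R] Localization.Away h) (t : Localization.Away h →ₐ[R] q.ResidueField),
      (∀ r : R₁, t (algebraMap R₁ (Localization.Away h) r) = algebraMap B q.ResidueField r) ∧ t.comp s = y

variable {B : Type u} [CommRing B] [Algebra R B]
  (G : Over ((yon (Spec (CommRingCat.of R))).obj (Over.mk (𝟙 (Spec (CommRingCat.of R)))))) [GrpObj G]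

open K608.GrpSch K608.Gpd in
theorem exists_mem_W (hG : IsAlgSpace G.left) (hft : LocP @LocallyOfFiniteType G.hom) (hfl : LocP @Flat G.hom)
    (hU : ∀ s : ↥(Spec (CommRingCat.of R)), ∃ (H : Over (Spec (CommRingCat.of R))) (h : (yon _).obj H ⟶ G.left),
      RepWith @IsOpenImmersion h ∧ s ∈ Set.range H.hom)
    (X : Space (Spec (CommRingCat.of R))) (j : X.obj ⟶ G.left) (hj : RepWith @IsOpenImmersion j)
    (hB : ∀ (q : Ideal B) [q.IsPrime], IsAlgClosed q.ResidueField) (hL : Lifts R B)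
    (q : Ideal B) [q.IsPrime] (x : (yon _).obj (alg R q.ResidueField) ⟶ X.obj) (t₀ : (alg R q.ResidueField).left) :
    ∃ R₁ : Subalgebra R B, Module.Finite R R₁ ∧
      Points.ofPt (prod.lift x ((yon _).map (resPt R q))) t₀ ∈ W X R₁ := by
  have := hB q
  let κ := alg R q.ResidueField
  let 𝒢 : GroupoidSp ((yon (Spec (CommRingCat.of R))).obj (Over.mk (𝟙 (Spec (CommRingCat.of R))))) :=
    K608.GrpGpd.ofGrp G
  have hT : IsTerminal 𝒢.U := K625.Prod.isTerminalBase (Spec (CommRingCat.of R))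
  -- a point of the schematic locus
  obtain ⟨H, h, hh, t, ht⟩ := hU (κ.hom t₀)
  have hHe : RepWith @Etale h := K610.OpenImm.repWith_etale_of_open hh
  have hHft : LocallyOfFiniteType H.hom := prop_chart hft hHe
  let F : Over (Spec (CommRingCat.of R)) := Over.mk (pullback.fst H.hom κ.hom ≫ H.hom)
  let f₁ : F ⟶ H := Over.homMk (pullback.fst H.hom κ.hom) rfl
  let f₂ : F ⟶ κ := Over.homMk (pullback.snd H.hom κ.hom) pullback.condition.symm
  obtain ⟨z, -, -⟩ := Scheme.Pullback.exists_preimage_pullback t t₀ ht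
  obtain ⟨σ, hσ, -⟩ := exists_pt_chart q H F f₁ f₂ (IsPullback.of_hasPullback _ _) Set.univ isClosed_univ ⟨z, trivial⟩
  let u : (yon _).obj κ ⟶ G.left := (yon _).map (σ ≫ f₁) ≫ h
  have hu : Points.ofPt u t₀ ∈ locus ⟨G.left, hG⟩ := by
    have h1 : IsSch G.left (Set.range (Points.ofPt h)) := ⟨H, h, hh, rfl⟩
    refine (show IsSch (⟨G.left, hG⟩ : Space _).obj _ from h1).subset_locus ?_
    rw [K647.Pts.ofPt_map]
    exact ⟨_, rfl⟩
  -- the translation element
  let g : (yon _).obj κ ⟶ G.left := m 𝒢 hT (inv 𝒢 u) (x ≫ j)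
  obtain ⟨Y, pY, hY, hY'⟩ := hG.atlas
  have hYft : LocallyOfFiniteType Y.hom := prop_chart hft hY
  have hYfl : Flat Y.hom := prop_chart hfl hY
  obtain ⟨l, hl⟩ := exists_lift_chart _ g hY hY'
  obtain ⟨A, _, _, _, _, i, y, hi⟩ := exists_affine_fac Y l
  obtain ⟨R₁, hR₁, f, s, t, ht, hts⟩ := hL q A y
  refine ⟨R₁, hR₁, ?_⟩
  let T := alg R (Localization.Away f)
  let g₁ : (yon _).obj T ⟶ G.left := (yon _).map (algHom s ≫ i) ≫ pY
  let ι : κ ⟶ T := algHom t
  have hg : (yon _).map ι ≫ g₁ = g := by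
    rw [← hl, ← Category.assoc, ← Functor.map_comp, ← Category.assoc, ← algHom_comp, hts, hi]
  let ρ : T ⟶ alg R R₁ := algHom (IsScalarTower.toAlgHom R R₁ (Localization.Away f))
  have hρ : IsOpenImmersion ρ.left := by
    change IsOpenImmersion (Spec.map (CommRingCat.ofHom (algebraMap R₁ (Localization.Away f))))
    infer_instance
  have hιρ : ι ≫ ρ = resPt R q ≫ algHom R₁.val := by
    rw [← algHom_comp, ← algHom_comp]
    congr 1
    ext r
    exact ht r
  let τ : G.left ⨯ (yon _).obj T ≅ G.left ⨯ (yon _).obj T := transIso 𝒢 hT g₁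
  let P₁ : (yon _).obj κ ⟶ G.left ⨯ (yon _).obj T := prod.lift u ((yon _).map ι)
  have hP₁ : P₁ ≫ τ.hom = prod.lift (x ≫ j) ((yon _).map ι) := by
    have a1 : P₁ ≫ prod.fst = u := prod.lift_fst _ _
    have a2 : P₁ ≫ prod.snd = (yon _).map ι := prod.lift_snd _ _
    have b1 : P₁ ≫ prod.snd ≫ g₁ = g := by
      rw [← Category.assoc, a2]
      exact hg
    have e1 : m 𝒢 hT (P₁ ≫ prod.fst) (P₁ ≫ prod.snd ≫ g₁) = x ≫ j :=
      (congrArg₂ (fun (a b : (yon _).obj κ ⟶ 𝒢.R) => m 𝒢 hT a b) a1 b1).trans (m_inv_m_left 𝒢 hT u (x ≫ j))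
    exact (comp_trans 𝒢 hT g₁ P₁).trans (congrArg₂ (fun (a : (yon _).obj κ ⟶ G.left)
      (b : (yon _).obj κ ⟶ (yon _).obj T) => prod.lift a b) e1 a2)
  have m₁ : Points.ofPt P₁ t₀ ∈ locus (bc ⟨G.left, hG⟩ T) := by
    refine mem_locus_of_map (Y := ⟨G.left, hG⟩) (f := (prod.fst : G.left ⨯ (yon _).obj T ⟶ G.left))
      (K625.Prod.repWith_fst ⊤ G.left T trivial).1 ?_
    rw [Points.map_ofPt, prod.lift_fst]
    exact hu
  have m₂ : Points.ofPt (prod.lift (x ≫ j) ((yon _).map ι)) t₀ ∈ locus (bc ⟨G.left, hG⟩ T) := by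
    rw [← hP₁, ← Points.map_ofPt]
    exact map_iso_mem_locus (Y := bc ⟨G.left, hG⟩ T) (Y' := bc ⟨G.left, hG⟩ T) τ m₁
  have m₃ : Points.ofPt (prod.lift (x ≫ j) ((yon _).map (ι ≫ ρ))) t₀ ∈ locus (bc ⟨G.left, hG⟩ (alg R R₁)) := by
    have e : prod.lift (x ≫ j) ((yon _).map (ι ≫ ρ)) =
        prod.lift (x ≫ j) ((yon _).map ι) ≫ bcMap G.left ρ := by
      rw [prod.lift_map, Category.comp_id, Functor.map_comp]
    rw [e, ← Points.map_ofPt]
    exact map_mem_locus (Y := bc ⟨G.left, hG⟩ (alg R R₁)) (Y' := bc ⟨G.left, hG⟩ T) (openImm_bcMap G.left ρ) m₂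
  change Points.map (bcMap X.obj (algHom R₁.val)) _ ∈ locus (bc X (alg R R₁))
  refine mem_locus_of_map (Y := bc ⟨G.left, hG⟩ (alg R R₁)) (Y' := bc X (alg R R₁))
    (f := prod.map j (𝟙 ((yon _).obj (alg R R₁)))) (openImm_map_left hj _).1 ?_
  rw [Points.map_ofPt, Points.map_ofPt]
  have e : (prod.lift x ((yon _).map (resPt R q)) ≫ bcMap X.obj (algHom R₁.val)) ≫ prod.map j (𝟙 _) =
      prod.lift (x ≫ j) ((yon _).map (ι ≫ ρ)) := by
    rw [prod.lift_map, prod.lift_map, Category.comp_id, Category.comp_id, hιρ, Functor.map_comp]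
  rw [e]
  exact m₃

end

end K626.W5
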