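import Mathlib.AlgebraicGeometry.Morphisms.FiniteType
import Mathlib.RingTheory.Ideal.KrullsHeightTheorem
import Mathlib.RingTheory.DedekindDomain.Basic
import Mathlib.AlgebraicGeometry.Noetherian

/-!
# Points of codimension at most one in the fibres over a Dedekind base
-/

set_option autoImplicit false
universe u

open CategoryTheory CategoryTheory.Limits AlgebraicGeometry Opposite TopologicalSpace

namespace K626.W5

theorem exists_prime_height_le_one {R A : Type*} [CommRing R] [IsDedekindDomain R] [CommRing A] [IsNoetherianRing A]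
    [Algebra R A] (n₀ : Ideal A) [n₀.IsPrime] :
    ∃ n : Ideal A, n.IsPrime ∧ n.height ≤ 1 ∧ n.comap (algebraMap R A) = n₀.comap (algebraMap R A) := by
  by_cases hs : n₀.comap (algebraMap R A) = ⊥
  · obtain ⟨n, hn, hle⟩ := Ideal.exists_minimalPrimes_le (bot_le : (⊥ : Ideal A) ≤ n₀)
    have hp : n.IsPrime := hn.1.1
    refine ⟨n, hp, ?_, ?_⟩
    · have : n.height = 0 := Ideal.height_eq_zero_iff.2 hn
      rw [this]
      exact zero_le_one
    · rw [hs, eq_bot_iff, ← hs]
      exact Ideal.comap_mono hle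
  · obtain ⟨π, hπ, hπ0⟩ := Submodule.exists_mem_ne_zero_of_ne_bot hs
    obtain ⟨n, hn, hle⟩ := Ideal.exists_minimalPrimes_le
      (show Ideal.span {algebraMap R A π} ≤ n₀ by
        rw [Ideal.span_singleton_le_iff_mem]
        exact hπ)
    have hp : n.IsPrime := hn.1.1
    refine ⟨n, hp, Ideal.height_le_one_of_isPrincipal_of_mem_minimalPrimes _ n hn, ?_⟩
    have h1 : π ∈ n.comap (algebraMap R A) := by
      have := hn.1.2
      rw [Ideal.span_singleton_le_iff_mem] at this
      exact this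
    have h2 : n.comap (algebraMap R A) ≠ ⊥ := by
      intro h
      rw [h] at h1
      exact hπ0 h1
    have h3 : (n.comap (algebraMap R A)).IsMaximal :=
      Ring.DimensionLEOne.maximalOfPrime h2 inferInstance
    exact h3.eq_of_le (Ideal.IsPrime.ne_top inferInstance) (Ideal.comap_mono hle)

theorem exists_point_codim_le_one {R : Type u} [CommRing R] [IsDedekindDomain R] {Y : Scheme.{u}}
    (f : Y ⟶ Spec (CommRingCat.of R)) [LocallyOfFiniteType f] (y₀ : Y) :
    ∃ y : Y, f y = f y₀ ∧ ringKrullDim (Y.presheaf.stalk y) ≤ 1 := by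
  obtain ⟨W, hW, hy, -⟩ := exists_isAffineOpen_mem_and_subset (U := (⊤ : Y.Opens)) (show y₀ ∈ ⊤ from trivial)
  let ψ : R →+* Γ(Y, W) := (f.appLE ⊤ W le_top).hom.comp (Scheme.ΓSpecIso (CommRingCat.of R)).inv.hom
  have hψ : ψ.FiniteType := by
    have h1 : (f.appLE ⊤ W le_top).hom.FiniteType :=
      Scheme.Hom.finiteType_appLE f (isAffineOpen_top _) hW le_top
    exact h1.comp (RingHom.FiniteType.of_surjective _
      (ConcreteCategory.bijective_of_isIso (Scheme.ΓSpecIso (CommRingCat.of R)).inv).2)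
  have e0 : Spec.map (CommRingCat.ofHom ψ) = hW.fromSpec ≫ f := by
    rw [← IsAffineOpen.SpecMap_appLE_fromSpec f (isAffineOpen_top _) hW le_top,
      IsAffineOpen.fromSpec_top, Scheme.isoSpec_Spec_inv, ← Spec.map_comp]
    rfl
  let _ : Algebra R Γ(Y, W) := ψ.toAlgebra
  have : Algebra.FiniteType R Γ(Y, W) := hψ
  have : IsNoetherianRing Γ(Y, W) := Algebra.FiniteType.isNoetherianRing R Γ(Y, W)
  obtain ⟨n₀, hn₀⟩ : ∃ n₀ : Spec Γ(Y, W), hW.fromSpec n₀ = y₀ := by
    have : y₀ ∈ Set.range hW.fromSpec := by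
      rw [hW.range_fromSpec]
      exact hy
    exact this
  obtain ⟨n, hp, hh, hc⟩ := exists_prime_height_le_one (R := R) n₀.asIdeal
  let n' : Spec Γ(Y, W) := ⟨n, hp⟩
  refine ⟨hW.fromSpec n', ?_, ?_⟩
  · rw [← hn₀, ← Scheme.Hom.comp_apply, ← Scheme.Hom.comp_apply, ← e0]
    exact PrimeSpectrum.ext hc
  · have e1 : Y.presheaf.stalk (hW.fromSpec n') ≅ (Spec Γ(Y, W)).presheaf.stalk n' := asIso (hW.fromSpec.stalkMap n')
    have h1 : ringKrullDim ((Spec Γ(Y, W)).presheaf.stalk n') ≤ 1 := by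
      let _ : Algebra Γ(Y, W) ((Spec Γ(Y, W)).presheaf.stalk n') :=
        StructureSheaf.stalkAlgebra _ n'
      have : IsLocalization.AtPrime ((Spec Γ(Y, W)).presheaf.stalk n') n :=
        StructureSheaf.IsLocalization.to_stalk _ n'
      rw [IsLocalization.AtPrime.ringKrullDim_eq_height n]
      exact_mod_cast hh
    rwa [ringKrullDim_eq_of_ringEquiv e1.commRingCatIsoToRingEquiv]

end K626.W5
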