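import Groth.Agent.AlgSp.K632.LiftPt
import Groth.Agent.AlgSp.K626.W5Core

/-!
# Residue fields of absolutely integrally closed domains are algebraically closed; the lifting property
-/

set_option autoImplicit false
universe u v w

open Polynomial

namespace K626.W5

theorem isAlgClosed_residueField {B : Type*} [CommRing B] [IsDomain B] [IsIntegrallyClosed B] (Kb : Type*) [Field Kb]
    [Algebra B Kb] [IsFractionRing B Kb] [IsAlgClosed Kb] (q : Ideal B) [q.IsPrime] : IsAlgClosed q.ResidueField := by
  refine IsAlgClosed.of_exists_root _ fun p hp hirr => ?_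
  let D := B ⧸ q
  let κ := q.ResidueField
  let M := nonZeroDivisors D
  let b : M := IsLocalization.commonDenom M p.support p.coeff
  let s : κ := algebraMap D κ b
  have hs : s ≠ 0 := IsFractionRing.to_map_ne_zero_of_mem_nonZeroDivisors b.2
  have hlift : p.scaleRoots s ∈ lifts (algebraMap D κ) :=
    IsLocalization.scaleRoots_commonDenom_mem_lifts M p (by rw [hp.leadingCoeff]; exact one_mem _)
  have hm : (p.scaleRoots s).Monic := (monic_scaleRoots_iff s).2 hp
  obtain ⟨P, hP, hPd, hPm⟩ := lifts_and_degree_eq_and_monic hlift hm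
  have hlift2 : P ∈ lifts (Ideal.Quotient.mk q) := by
    rw [lifts_iff_coeff_lifts]
    exact fun k => Ideal.Quotient.mk_surjective _
  obtain ⟨Q, hQ, hQd, hQm⟩ := lifts_and_degree_eq_and_monic hlift2 hPm
  have hdeg : (Q.map (algebraMap B Kb)).degree ≠ 0 := by
    rw [hQm.degree_map, hQd, hPd, degree_scaleRoots]
    exact (degree_pos_of_irreducible hirr).ne'
  obtain ⟨x, hx⟩ := IsAlgClosed.exists_root _ hdeg
  have hint : IsIntegral B x := ⟨Q, hQm, by rwa [IsRoot, eval_map] at hx⟩
  obtain ⟨y, rfl⟩ := IsIntegrallyClosed.isIntegral_iff.1 hint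
  have hy : Q.eval y = 0 := by
    rw [IsRoot, eval_map, eval₂_at_apply] at hx
    exact (map_eq_zero_iff _ (IsFractionRing.injective B Kb)).1 hx
  let z : κ := algebraMap D κ (Ideal.Quotient.mk q y)
  have hz : (p.scaleRoots s).eval z = 0 := by
    rw [← hP, eval_map, eval₂_at_apply, ← hQ, eval_map, eval₂_at_apply, hy, map_zero, map_zero]
  refine ⟨z / s, ?_⟩
  have h1 := scaleRoots_eval_mul p (z / s) s
  rw [mul_div_cancel₀ _ hs, hz] at h1
  exact ((mul_eq_zero.1 h1.symm).resolve_left (pow_ne_zero _ hs))

theorem lifts (R B : Type u) [CommRing R] [IsDedekindDomain R] [CommRing B] [Algebra R B] [Algebra.IsIntegral R B]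
    [IsDomain B] [IsIntegrallyClosed B] (Kb : Type u) [Field Kb] [Algebra B Kb] [IsFractionRing B Kb] [IsAlgClosed Kb] :
    Lifts R B := by
  intro q _ A _ _ _ _ y
  obtain ⟨R₁, h₁, h, hq, s, hs⟩ := K632.LiftPt.exists_lift (R := R) (Rb := B) Kb q y
  have hun : IsUnit (((IsScalarTower.toAlgHom R B q.ResidueField).comp R₁.val) h) := by
    rw [isUnit_iff_ne_zero]
    change algebraMap B q.ResidueField h ≠ 0
    rwa [Ne, Ideal.algebraMap_residueField_eq_zero]
  let t₀ : Localization.Away h →+* q.ResidueField :=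
    IsLocalization.Away.lift h (g := ((IsScalarTower.toAlgHom R B q.ResidueField).comp R₁.val).toRingHom) hun
  have ht₀ : ∀ r : R₁, t₀ (algebraMap R₁ (Localization.Away h) r) = algebraMap B q.ResidueField r := fun r =>
    IsLocalization.Away.lift_eq h hun r
  let t : Localization.Away h →ₐ[R] q.ResidueField :=
    { t₀ with
      commutes' := fun r => by
        change t₀ (algebraMap R (Localization.Away h) r) = _
        rw [IsScalarTower.algebraMap_apply R R₁ (Localization.Away h), ht₀]
        exact (IsScalarTower.algebraMap_apply R B q.ResidueField r).symm }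
  refine ⟨R₁, h₁, h, s, t, ht₀, ?_⟩
  ext a
  exact hs t₀ ht₀ a

end K626.W5
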