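import Groth.Agent.AlgSp.K626.W5Main
import Groth.Agent.AlgSp.K626.W5Res
import Groth.Agent.AlgSp.K626.W5Codim

/-!
# Node (W5): quasi-compact open subspaces of a flat separated group algebraic space over a Dedekind ring
become schemes after a finite extension of the fraction field
-/

set_option autoImplicit false
set_option backward.isDefEq.respectTransparency false
universe u

open CategoryTheory CategoryTheory.Limits AlgebraicGeometry Opposite TopologicalSpace

namespace K626.W5

open AlgSp K610.SchLocus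

/-- two presentations of a point have the same image in the base -/
theorem hom_eq_of_ofPt_eq {S : Scheme.{u}} {F : Sp S} {U V : Over S} {a : (yon S).obj U ⟶ F} {b : (yon S).obj V ⟶ F}
    {x : U.left} {y : V.left} (h : Points.ofPt a x = Points.ofPt b y) : U.hom x = V.hom y := by
  let t : F ⟶ (yon S).obj (Over.mk (𝟙 S)) := (K625.Prod.isTerminalBase S).from F
  have key : ∀ {W : Over S} (c : (yon S).obj W ⟶ F) (w : W.left),
      Points.toScheme (Over.mk (𝟙 S)) (Points.map t (Points.ofPt c w)) = W.hom w := fun {W} c w => by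
    rw [Points.map_ofPt]
    have e : c ≫ t = (yon S).map (K625.Prod.toBase W) := (K625.Prod.isTerminalBase S).hom_ext _ _
    rw [e, Points.toScheme_ofPt]
    rfl
  rw [← key a x, ← key b y, h]

/-- the statement of S10454 over `S` -/
def CodimOne (S : Scheme.{u}) : Prop :=
  ∀ (X : Space S) (_ : IsSeparatedSp X.obj) (_ : IsLocNoethSp X.obj) (x : Points X.obj)
    (_ : HasAt (fun U u => ringKrullDim ↥(U.presheaf.stalk u) ≤ 1) X.obj x), x ∈ locus X

/-- the schematic locus of a separated group algebraic space meets every fibre -/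
theorem meets_fibres {R : Type u} [CommRing R] [IsDedekindDomain R]
    (G : Over ((yon (Spec (CommRingCat.of R))).obj (Over.mk (𝟙 (Spec (CommRingCat.of R)))))) [GrpObj G]
    (hG : IsAlgSpace G.left) (hft : LocP @LocallyOfFiniteType G.hom) (hsep : IsSeparatedSp G.left)
    (hC : CodimOne (Spec (CommRingCat.of R))) (s : ↥(Spec (CommRingCat.of R))) :
    ∃ (H : Over (Spec (CommRingCat.of R))) (h : (yon _).obj H ⟶ G.left),
      RepWith @IsOpenImmersion h ∧ s ∈ Set.range H.hom := by
  obtain ⟨V, p, hp, hp'⟩ := hG.atlas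
  have : LocallyOfFiniteType V.hom := prop_chart hft hp
  let e : (yon _).obj (Over.mk (𝟙 (Spec (CommRingCat.of R)))) ⟶ G.left := (MonObj.one (X := G)).left
  obtain ⟨v₀, hv₀⟩ := K647.Pts.exists_ofPt_of_surj hp' (Points.ofPt e s)
  have h1 : V.hom v₀ = s := hom_eq_of_ofPt_eq hv₀
  obtain ⟨v, hv, hd⟩ := exists_point_codim_le_one (R := R) V.hom v₀
  have : IsLocallyNoetherian V.left := LocallyOfFiniteType.isLocallyNoetherian V.hom
  have hx : Points.ofPt p v ∈ locus ⟨G.left, hG⟩ :=
    hC ⟨G.left, hG⟩ hsep ⟨V, p, hp, hp', this⟩ _ ⟨V, p, v, hp, rfl, hd⟩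
  obtain ⟨H, j, hj, hr⟩ := isSch_locus (⟨G.left, hG⟩ : Space (Spec (CommRingCat.of R)))
  rw [← hr] at hx
  obtain ⟨y, hy⟩ := hx
  exact ⟨H, j, hj, y, (hom_eq_of_ofPt_eq hy).trans (hv.trans h1)⟩

/-- Node (W5) -/
theorem main {R : Type u} [CommRing R] [IsDedekindDomain R] (K : Type u) [Field K] [Algebra R K] [IsFractionRing R K]
    (G : Over ((yon (Spec (CommRingCat.of R))).obj (Over.mk (𝟙 (Spec (CommRingCat.of R)))))) [GrpObj G]
    (hG : IsAlgSpace G.left) (hft : LocP @LocallyOfFiniteType G.hom) (hfl : LocP @Flat G.hom)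
    (hsep : IsSeparatedSp G.left) (hC : CodimOne (Spec (CommRingCat.of R)))
    (X : Space (Spec (CommRingCat.of R))) (j : X.obj ⟶ G.left) (hj : RepWith @IsOpenImmersion j)
    (hX : IsQuasiCompactSp X.obj) :
    ∃ (K₁ : Type u) (_ : Field K₁) (_ : Algebra K K₁), FiniteDimensional K K₁ ∧
      ∀ (K₂ : Type u) [Field K₂] [Algebra K K₂] [Algebra R K₂] [IsScalarTower R K K₂] (_ : K₁ →ₐ[K] K₂),
        (X.obj ⨯ (yon _).obj (alg R (integralClosure R K₂))).obj.IsRepresentable := by
  let Kb := AlgebraicClosure K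
  let B := integralClosure R Kb
  have hinj : ∀ x, algebraMap R Kb x = 0 → x = 0 := fun x hx => by
    rw [IsScalarTower.algebraMap_apply R K Kb] at hx
    exact (map_eq_zero_iff _ (IsFractionRing.injective R K)).1
      ((map_eq_zero_iff _ (algebraMap K Kb).injective).1 hx)
  have halg : Algebra.IsAlgebraic R Kb := (IsFractionRing.comap_isAlgebraic_iff (A := R) (K := K) (C := Kb)).2 inferInstance
  have : IsFractionRing B Kb := integralClosure.isFractionRing_of_algebraic hinj
  have : IsIntegrallyClosed B := (isIntegrallyClosed_iff_isIntegrallyClosedIn Kb).2 inferInstance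
  obtain ⟨R₁, h₁, hR₁⟩ := exists_isRepresentable (R := R) (B := B) G hG hft hfl
    (meets_fibres G hG hft hsep hC) X j hj hX (fun q _ => isAlgClosed_residueField Kb q) (lifts R B Kb)
  -- the finite extension
  obtain ⟨s, hs⟩ := (Module.Finite.fg_top : (⊤ : Submodule R R₁).FG)
  let t : Set Kb := (fun r : R₁ => (algebraMap B Kb r)) '' (s : Set R₁)
  have ht : t.Finite := s.finite_toSet.image _
  let E : IntermediateField K Kb := IntermediateField.adjoin K t
  have hE : FiniteDimensional K E := by
    have := ht.to_subtype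
    exact IntermediateField.finiteDimensional_adjoin fun x _ => Algebra.IsIntegral.isIntegral x
  have hm : ∀ r : R₁, algebraMap B Kb r ∈ E := fun r => by
    have hr : r ∈ Submodule.span R (s : Set R₁) := by rw [hs]; trivial
    induction hr using Submodule.span_induction with
    | mem x hx => exact IntermediateField.subset_adjoin K t ⟨x, hx, rfl⟩
    | zero => simp
    | add x y _ _ hx hy =>
      have : algebraMap B Kb ((x + y : R₁) : B) = algebraMap B Kb (x : B) + algebraMap B Kb (y : B) := by simp
      rw [this]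
      exact add_mem hx hy
    | smul a x _ hx =>
      have : algebraMap B Kb ((a • x : R₁) : B) = algebraMap K Kb (algebraMap R K a) * algebraMap B Kb (x : B) := by
        rw [← IsScalarTower.algebraMap_apply, Subalgebra.coe_smul, Algebra.smul_def, map_mul,
          ← IsScalarTower.algebraMap_apply]
      rw [this]
      exact mul_mem (E.algebraMap_mem _) hx
  refine ⟨E, inferInstance, inferInstance, hE, fun K₂ _ _ _ _ φ => ?_⟩
  let ψ₀ : R₁ →ₐ[R] Kb := (Algebra.ofId B Kb).restrictScalars R |>.comp R₁.val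
  let ψ₁ : R₁ →ₐ[R] E := AlgHom.codRestrict ψ₀ (E.toSubalgebra.restrictScalars R) hm
  let ψ₂ : R₁ →ₐ[R] K₂ := (φ.restrictScalars R).comp ψ₁
  let ψ₃ : R₁ →ₐ[R] integralClosure R K₂ := AlgHom.codRestrict ψ₂ _ fun r =>
    (Algebra.IsIntegral.isIntegral (R := R) r).map ψ₂
  exact isRepresentable_of_algHom X.obj ψ₃ hR₁

end K626.W5
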