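import Groth.Agent.AlgSp.K626.DescOpen
/-!
# Points whose fibre in a finite locally free cover lies in an affine open
-/

set_option autoImplicit false
universe u
open CategoryTheory CategoryTheory.Limits AlgebraicGeometry Topology TopologicalSpace Opposite
open AlgSp

namespace K626.FinLocus

variable {S : Scheme.{u}}

/-- The fibres of a finite morphism are finite. -/
theorem finite_fibre {F G : Sp S} {c : F ⟶ G} (c1 : RepWith @IsFinite c) (x : Points G) :
    {y : Points F | Points.map c y = x}.Finite := by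
  obtain ⟨p, rfl⟩ : ∃ p : FieldPt G, Points.mk p = x := Quotient.exists_rep x
  obtain ⟨V, snd, fst, sq⟩ := c1.1 (K625.Points.toHom p)
  have hfin : IsFinite snd.left := c1.2 _ _ _ sq
  have h1 := K625.Points.preimage_singleton_mk p sq
  have h2 : {y : Points F | Points.map c y = Points.mk p} = Set.range (Points.map fst) := h1
  rw [h2]
  have hV : Finite ↥V.left := by
    have : Finite ↥p.pt.left := inferInstanceAs (Finite (PrimeSpectrum p.K))
    have h3 : (Set.univ : Set ↥V.left).Finite := by
      have : (Set.univ : Set ↥V.left) = ⋃ s : ↥p.pt.left, snd.left ⁻¹' {s} := by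
        ext z; simp
      rw [this]
      exact Set.finite_iUnion fun s => Scheme.Hom.finite_preimage_singleton _ s
    exact Set.finite_univ_iff.1 h3
  have h4 : Set.range (Points.map fst) ⊆ Set.range (fun v : ↥V.left => Points.ofPt fst v) := by
    rintro _ ⟨z, rfl⟩
    obtain ⟨v, rfl⟩ := K625.Points.points_yon_surj z
    exact ⟨v, Points.ofPt_eq_map_ofScheme fst v⟩
  exact (Set.finite_range _).subset h4

/-- `x` lies in the schematic locus if its fibre in some finite locally free cover lies in an affine
open subspace. -/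
theorem mem_locus {X Y : Space S} (c : Y.obj ⟶ X.obj) (c1 : RepWith @IsFinite c)
    (c2 : RepWith @Flat c) (c3 : RepWith @LocallyOfFinitePresentation c)
    (c4 : RepWith @Surjective c) (V' : Over S) (hV' : IsAffine V'.left)
    (g : (yon _).obj V' ⟶ Y.obj) (hg : RepWith @IsOpenImmersion g) (x : Points X.obj)
    (hx : ∀ y : Points Y.obj, Points.map c y = x → y ∈ Set.range (Points.ofPt g)) :
    x ∈ K610.SchLocus.locus X := by
  have hfin := finite_fibre c1 x
  have hcl : IsClosedMap (Points.map c) := K625.Prod.isClosedMap_of_repWith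
    (K625.Level.repWith_mono (P := @IsFinite) (Q := @UniversallyClosed)
      (fun _ _ f hf => by have : IsFinite f := hf; exact (inferInstance : UniversallyClosed f)) c1)
  set O : Set (Points Y.obj) := Set.range (Points.ofPt g) with hOdef
  have hO : IsOpen O := (K610.Base.isOpenMap_ofPt_etale
    (K610.OpenImm.repWith_etale_of_open hg)).isOpen_range
  let Vx : Set (Points X.obj) := (Points.map c '' Oᶜ)ᶜ
  have hVx : IsOpen Vx := (hcl _ hO.isClosed_compl).isOpen_compl
  have hxV : x ∈ Vx := by
    rintro ⟨y, hy, hyx⟩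
    exact hy (hx y hyx)
  obtain ⟨X₁, j₁, hj₁, hr₁⟩ := K610.Sub.exists_open_subspace X Vx hVx
  let P := pullback c j₁.hom
  let m : P ⟶ Y.obj := pullback.fst c j₁.hom
  let c' : P ⟶ X₁.obj := pullback.snd c j₁.hom
  have sqP : IsPullback m c' c j₁.hom := IsPullback.of_hasPullback _ _
  have hm : RepWith @IsOpenImmersion m := MorphismProperty.of_isPullback sqP.flip hj₁
  have hmono : Mono g := K610.Factor.mono_of_isOpenImmersion hg
  obtain ⟨r, hr⟩ := (K610.Factor.factors_open_iff hg m).2 (by
    rw [← K610.SchLocus.range_ofPt]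
    rintro _ ⟨p, rfl⟩
    by_contra hp
    have h1 : Points.map c (Points.map m p) ∈ Vx := by
      rw [← Points.map_comp, sqP.w, Points.map_comp, ← hr₁]
      exact ⟨_, rfl⟩
    exact h1 ⟨_, hp, rfl⟩)
  have hr' : RepWith @IsOpenImmersion r := K610.OpenImm.repWith_of_comp_mono (j := g) (hr ▸ hm)
  obtain ⟨M, s, i, sq⟩ := hr'.1 (𝟙 _)
  have hs : IsOpenImmersion s.left := hr'.2 (𝟙 _) _ _ sq
  have hi : IsIso i := sq.isIso_fst_of_isIso
  let a : (yon _).obj M ⟶ X₁.obj := i ≫ c'
  have ha : ∀ (P : MorphismProperty Scheme.{u}) [P.IsStableUnderBaseChange],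
      RepWith P c → RepWith P a := by
    intro P _ hP
    exact (MorphismProperty.cancel_left_of_respectsIso (RepWith P) i _).2
      (MorphismProperty.of_isPullback sqP hP)
  obtain ⟨x₁, hx₁⟩ : x ∈ Set.range (Points.map j₁.hom) := hr₁ ▸ hxV
  obtain ⟨y₁, hy₁⟩ := K625.Prod.surjective_ofPt (ha @Surjective c4) x₁
  have hinj : Function.Injective (Points.map m) :=
    (K610.OpenImm.isEmbedding_points Y.property (K610.OpenImm.repWith_isImmersion_of_open hm)).1.injective
  have hF : {y : ↥M.left | Points.ofPt a y = x₁}.Finite := by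
    refine Set.Finite.of_finite_image (f := fun y => Points.map m (Points.ofPt i y))
      (hfin.subset ?_) ?_
    · rintro _ ⟨y, hy, rfl⟩
      change Points.map c (Points.map m (Points.ofPt i y)) = x
      rw [← Points.map_comp, sqP.w, Points.map_comp, Points.map_ofPt,
        show Points.ofPt (i ≫ c') y = x₁ from hy, hx₁]
    · intro y _ y' _ h
      have h1 := hinj h
      have h2 : Points.map (inv i) (Points.ofPt i y) = Points.map (inv i) (Points.ofPt i y') := by
        rw [h1]
      rw [Points.map_ofPt, Points.map_ofPt, IsIso.hom_inv_id] at h2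
      have h3 := congrArg (Points.toScheme M) h2
      have h4 : ∀ z, Points.toScheme M (Points.ofPt (𝟙 _) z) = z := fun z =>
        Points.toScheme_ofScheme M z
      rwa [h4, h4] at h3
  obtain ⟨D, hD, hDT⟩ := Groth.Agent.S0411.result s.left hF.toFinset
  have key := K610.InvOpen.exists_isSch (ha @IsFinite c1) (ha @Flat c2)
    (ha @LocallyOfFinitePresentation c3) (ha @Surjective c4) y₁ D hD
    (fun y hy => hDT y (by simpa [hy₁] using hy))
  rw [hy₁] at key
  obtain ⟨W, ⟨H, f, hf, hfW⟩, hxW⟩ := K610.SchLocus.mem_locus_iff.1 key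
  refine K610.SchLocus.mem_locus_iff.2 ⟨_, ⟨H, f ≫ j₁.hom,
    MorphismProperty.comp_mem (RepWith @IsOpenImmersion) _ _ hf hj₁, rfl⟩, ?_⟩
  rw [← hfW] at hxW
  obtain ⟨w, hw⟩ := hxW
  refine ⟨w, ?_⟩
  rw [← Points.map_ofPt, hw, hx₁]

end K626.FinLocus
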