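import Groth.Agent.AlgSp.K597.LocP
import Groth.Agent.AlgSp.K597.EtLoc
import Groth.Agent.AlgSp.K629.Cover
import Groth.Prelude.Def_AlgSpCov

/-!
# Iterated fibre products of representable maps and Cech descent of properties
-/

set_option autoImplicit false
universe v u

open CategoryTheory CategoryTheory.Limits AlgebraicGeometry Opposite
open AlgSp

namespace K626.Cech

section Cat

variable {C : Type u} [Category.{v} C] {G : C}

theorem isPullback_succ {n : ℕ} {Y : Fin (n + 1) → C} (g : ∀ k, Y k ⟶ G) [HasWidePullback G Y g]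
    [HasWidePullback G (fun k : Fin n => Y k.succ) (fun k => g k.succ)] :
    IsPullback (WidePullback.π g 0)
      (WidePullback.lift (WidePullback.base g) (fun k : Fin n => WidePullback.π g k.succ)
        (fun k => WidePullback.π_arrow g k.succ) :
        widePullback G Y g ⟶ widePullback G (fun k : Fin n => Y k.succ) (fun k => g k.succ))
      (g 0) (WidePullback.base (fun k : Fin n => g k.succ)) := by
  refine ⟨⟨?_⟩, ⟨PullbackCone.IsLimit.mk _
    (fun s => WidePullback.lift (s.fst ≫ g 0)
      (fun k => Fin.cases (motive := fun k => s.pt ⟶ Y k) s.fst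
        (fun k => s.snd ≫ WidePullback.π (fun k : Fin n => g k.succ) k) k) ?_) ?_ ?_ ?_⟩⟩
  · rw [WidePullback.lift_base, WidePullback.π_arrow]
  · intro k
    refine Fin.cases ?_ (fun k => ?_) k
    · rfl
    · change (s.snd ≫ WidePullback.π (fun k : Fin n => g k.succ) k) ≫ g k.succ = s.fst ≫ g 0
      rw [Category.assoc, WidePullback.π_arrow (fun k : Fin n => g k.succ) k]
      exact s.condition.symm
  · intro s
    rw [WidePullback.lift_π]
    rfl
  · intro s
    apply WidePullback.hom_ext
    · intro k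
      rw [Category.assoc, WidePullback.lift_π, WidePullback.lift_π]
      rfl
    · rw [Category.assoc, WidePullback.lift_base, WidePullback.lift_base]
      exact s.condition
  · intro s m h1 h2
    apply WidePullback.eq_lift_of_comp_eq
    · intro k
      refine Fin.cases ?_ (fun k => ?_) k
      · exact h1
      · change m ≫ WidePullback.π g k.succ = s.snd ≫ WidePullback.π (fun k : Fin n => g k.succ) k
        rw [← h2, Category.assoc, WidePullback.lift_π]
    · rw [← h1, Category.assoc, WidePullback.π_arrow]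

theorem isIso_base_zero {Y : Fin 0 → C} (g : ∀ k, Y k ⟶ G) [HasWidePullback G Y g] :
    IsIso (WidePullback.base g) := by
  refine ⟨WidePullback.lift (𝟙 G) (fun k => k.elim0) (fun k => k.elim0), ?_, ?_⟩
  · apply WidePullback.hom_ext
    · intro k
      exact k.elim0
    · rw [Category.assoc, WidePullback.lift_base, Category.id_comp, Category.comp_id]
  · exact WidePullback.lift_base _ _ _ _

end Cat

variable {S : Scheme.{u}}

theorem repWith_base (R : MorphismProperty Scheme.{u}) [R.IsStableUnderBaseChange] [R.IsMultiplicative] :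
    ∀ (n : ℕ) {G : Sp S} {Y : Fin n → Sp S} (g : ∀ k, Y k ⟶ G), (∀ k, RepWith R (g k)) →
      RepWith R (WidePullback.base g) := by
  intro n
  induction n with
  | zero =>
    intro G Y g h
    have := isIso_base_zero g
    have h1 : (RepWith (S := S) R).IsMultiplicative := inferInstance
    have h2 : (RepWith (S := S) R).RespectsIso := MorphismProperty.IsStableUnderBaseChange.respectsIso
    exact MorphismProperty.of_isIso (RepWith (S := S) R) (WidePullback.base g)
  | succ n ih =>
    intro G Y g h
    have h1 := ih (fun k : Fin n => g k.succ) (fun k => h k.succ)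
    have h2 : RepWith R (WidePullback.π g 0) :=
      (repWith_isStableUnderBaseChange (S := S) R).of_isPullback (isPullback_succ g).flip h1
    have h3 := (repWith_isMultiplicative (S := S) R).comp_mem _ _ h2 (h 0)
    rwa [WidePullback.π_arrow] at h3

theorem repWith_π (R : MorphismProperty Scheme.{u}) [R.IsStableUnderBaseChange] [R.IsMultiplicative]
    {n : ℕ} {G : Sp S} {Y : Fin (n + 1) → Sp S} (g : ∀ k, Y k ⟶ G) (h : ∀ k, RepWith R (g k)) :
    RepWith R (WidePullback.π g 0) :=
  (repWith_isStableUnderBaseChange (S := S) R).of_isPullback (isPullback_succ g).flip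
    (repWith_base R n (fun k : Fin n => g k.succ) (fun k => h k.succ))

/-- A sheaf with a representable map to a scheme is a scheme. -/
theorem exists_iso_of_repWith (R : MorphismProperty Scheme.{u}) {W : Sp S} {T : Over S} (f : W ⟶ (yon S).obj T)
    (hf : RepWith R f) : ∃ (T' : Over S) (_ : W ≅ (yon S).obj T') (t : T' ⟶ T), R t.left := by
  obtain ⟨T', a, b, sq, hb⟩ := K629.Basic.exists_pb hf (𝟙 _)
  have : IsIso a := sq.isIso_fst_of_isIso inferInstance
  exact ⟨T', (asIso a).symm, b, hb⟩

theorem isAlgSpace_of_iso {U : Sp S} {T : Over S} (e : U ≅ (yon S).obj T) : IsAlgSpace U :=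
  (IsAlgSpace.yon_obj T).of_iso e.symm

/-- One step of Cech descent: from a jointly surjective family of flat, locally finitely presented `R`-morphisms
`h_{T_i} ⟶ U`, with `Q` passing from `T_i` to schemes with an `R`-morphism to `T_i`. -/
theorem step (R : MorphismProperty Scheme.{u}) [R.IsStableUnderBaseChange] [R.IsMultiplicative]
    (hRf : ∀ ⦃A B : Scheme.{u}⦄ (f : A ⟶ B), R f → Etale f)
    {X : Sp S} (hX : IsAlgSpace X)
    (P : ∀ ⦃U : Sp S⦄, (U ⟶ X) → Prop)
    (hP : ∀ ⦃U : Sp S⦄ (a : U ⟶ X), IsAlgSpace U →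
      ∀ ⦃ι : Type u⦄ (Ui : ι → Sp S) (g : ∀ i, Ui i ⟶ U), (∀ i, IsAlgSpace (Ui i)) →
      IsFppfCover Ui g →
      (∀ (n : ℕ) (c : Fin (n + 1) → ι),
        P (WidePullback.base (fun k : Fin (n + 1) => g (c k)) ≫ a)) → P a)
    (Q : Over S → Prop)
    (hQ : ∀ ⦃U : Sp S⦄ (a : U ⟶ X) (T : Over S) (e : U ≅ (yon S).obj T), Q T →
      LocP @Flat a → LocP @LocallyOfFinitePresentation a → P a)
    {U : Sp S} (hU : IsAlgSpace U) (a : U ⟶ X) (ha : LocP @Flat a) (ha' : LocP @LocallyOfFinitePresentation a)
    {ι : Type u} (T : ι → Over S) (g : ∀ i, (yon S).obj (T i) ⟶ U) (hg : ∀ i, RepWith R (g i))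
    (hs : ∀ x : Points U, ∃ i, x ∈ Set.range (Points.map (g i)))
    (hT : ∀ (i : ι) (T' : Over S) (t : T' ⟶ T i), R t.left → Q T') : P a := by
  have hflat : R ≤ @Flat := fun A B f hf => by
    have := hRf f hf
    exact inferInstanceAs (Flat f)
  have hlfp : R ≤ @LocallyOfFinitePresentation := fun A B f hf => by
    have := hRf f hf
    exact inferInstanceAs (LocallyOfFinitePresentation f)
  have h1 : ∀ {F G : Sp S} {f : F ⟶ G}, RepWith R f → LocP @Flat f := fun hf =>
    K597.locP_of_repWith (P := @Flat) K597.etLoc_flat.precomp (K597.repWith_mono hflat hf)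
  have h2 : ∀ {F G : Sp S} {f : F ⟶ G}, RepWith R f → LocP @LocallyOfFinitePresentation f := fun hf =>
    K597.locP_of_repWith (P := @LocallyOfFinitePresentation) K597.etLoc_lfp.precomp (K597.repWith_mono hlfp hf)
  refine hP a hU (fun i => (yon S).obj (T i)) g (fun i => IsAlgSpace.yon_obj _)
    ⟨fun i => ⟨h1 (hg i), h2 (hg i)⟩, hs⟩ fun n c => ?_
  obtain ⟨T', e, t, ht⟩ := exists_iso_of_repWith R (T := T (c 0))
    (WidePullback.π (fun k : Fin (n + 1) => g (c k)) 0) (repWith_π R _ fun k => hg (c k))
  have hb := repWith_base R (n + 1) (fun k : Fin (n + 1) => g (c k)) fun k => hg (c k)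
  have hW := isAlgSpace_of_iso e
  exact hQ _ T' e (hT _ T' t ht)
    (K597.locP_comp K597.etLoc_flat hW.hasAtlas hU.hasAtlas hX.hasAtlas (h1 hb) ha)
    (K597.locP_comp K597.etLoc_lfp hW.hasAtlas hU.hasAtlas hX.hasAtlas (h2 hb) ha')

/-- The affine open cover of a scheme as a family of maps to a sheaf isomorphic to it. -/
theorem exists_affine_family {U : Sp S} {T : Over S} (e : U ≅ (yon S).obj T)
    (R : MorphismProperty Scheme.{u}) [R.IsStableUnderBaseChange] [R.IsMultiplicative]
    (hR : ∀ V : T.left.affineOpens, R (V.1.ι)) :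
    ∃ (V : T.left.affineOpens → Over S) (g : ∀ i, (yon S).obj (V i) ⟶ U), (∀ i, IsAffine (V i).left) ∧
      (∀ i, RepWith R (g i)) ∧ ∀ x : Points U, ∃ i, x ∈ Set.range (Points.map (g i)) := by
  have h2 : (RepWith (S := S) R).RespectsIso := MorphismProperty.IsStableUnderBaseChange.respectsIso
  refine ⟨fun V => Over.mk (V.1.ι ≫ T.hom),
    fun V => (yon S).map (Over.homMk V.1.ι rfl : Over.mk (V.1.ι ≫ T.hom) ⟶ T) ≫ e.inv,
    fun V => V.2, fun V => ?_, fun x => ?_⟩
  · exact MorphismProperty.RespectsIso.postcomp _ _ _ ((repWith_yon_map_iff R _).2 (hR V))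
  · obtain ⟨t, ht⟩ := (Points.schemeEquiv T).surjective (Points.map e.hom x)
    obtain ⟨V, hV, htV, -⟩ := exists_isAffineOpen_mem_and_subset (x := t) (U := ⊤) (by trivial)
    refine ⟨⟨V, hV⟩, Points.ofScheme (Over.mk (V.ι ≫ T.hom)) ⟨t, htV⟩, ?_⟩
    have h3 : x = Points.map e.inv (Points.map e.hom x) := by
      rw [← Points.map_comp, e.hom_inv_id, Points.map_id]
    rw [h3, ← ht, Points.map_comp]
    congr 1
    exact Points.map_yon_map_apply (Over.homMk V.ι rfl : Over.mk (V.ι ≫ T.hom) ⟶ T) ⟨t, htV⟩

end K626.Cech
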