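import Groth.Agent.AlgSp.K626.GrpTrans
import Mathlib.AlgebraicGeometry.Morphisms.Integral
import Mathlib.FieldTheory.IsAlgClosed.Basic
/-!
# Integral families of points of a group scheme lie in an affine open

Let `G` be a group scheme over an algebraically closed field `K` in which the rational points are
dense in every locally closed subset, and `f : T ⟶ G` a morphism with `T` integral over `K`. Then
some affine open of `G` contains the image of `f`.
-/

set_option autoImplicit false
universe u v
open CategoryTheory MonoidalCategory CartesianMonoidalCategory MonObj GrpObj AlgebraicGeometry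
open Topology TopologicalSpace

namespace K626.GrpAff

open Groth.Agent.Localalg.GrpSchComp Groth.Agent.Localalg.GrpSchPts
open Groth.Agent.Localalg K626.GrpTrans

variable {K : Type u} [Field K]

/-- All points of a scheme integral over an algebraically closed field are rational. -/
theorem exists_ratPoint [IsAlgClosed K] (T : Over (Spec (CommRingCat.of K))) [IsIntegralHom T.hom]
    (t : T.left) : ∃ σ : 𝟙_ (Over (Spec (CommRingCat.of K))) ⟶ T, ev σ = t := by
  have haff : IsAffine T.left := isAffine_of_isAffineHom T.hom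
  let A := Γ(T.left, ⊤)
  let e := T.left.isoSpec
  obtain ⟨φ, hφ⟩ : ∃ φ : CommRingCat.of K ⟶ A, Spec.map φ = e.inv ≫ T.hom := ⟨_, Spec.map_preimage _⟩
  have hint : φ.hom.IsIntegral := by
    rw [← IsIntegralHom.SpecMap_iff, hφ]
    infer_instance
  let _ : Algebra K A := φ.hom.toAlgebra
  let p : PrimeSpectrum A := e.hom t
  have : Algebra.IsIntegral K A := ⟨hint⟩
  have hb : Function.Bijective (algebraMap K (A ⧸ p.asIdeal)) :=
    IsAlgClosed.algebraMap_bijective_of_isIntegral
  let r : (A ⧸ p.asIdeal) ≃+* K := (RingEquiv.ofBijective _ hb).symm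
  let ψ : A →+* K := (r : (A ⧸ p.asIdeal) →+* K).comp (Ideal.Quotient.mk p.asIdeal)
  have hψ : ψ.comp φ.hom = RingHom.id K := by
    ext x
    exact (RingEquiv.ofBijective _ hb).symm_apply_apply x
  let σ : 𝟙_ (Over (Spec (CommRingCat.of K))) ⟶ T :=
    Over.homMk (Spec.map (CommRingCat.ofHom ψ) ≫ e.inv) (by
      change (Spec.map (CommRingCat.ofHom ψ) ≫ e.inv) ≫ T.hom = 𝟙 (Spec (CommRingCat.of K))
      rw [Category.assoc, ← hφ, ← Spec.map_comp]
      have : φ ≫ CommRingCat.ofHom ψ = 𝟙 _ := CommRingCat.hom_ext hψ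
      rw [this]
      exact Spec.map_id _)
  refine ⟨σ, ?_⟩
  have h1 : Spec.map (CommRingCat.ofHom ψ) (IsLocalRing.closedPoint K) = p := by
    refine PrimeSpectrum.ext (Ideal.ext fun a => ?_)
    change ψ a ∈ IsLocalRing.maximalIdeal K ↔ _
    rw [IsLocalRing.maximalIdeal_eq_bot, Ideal.mem_bot]
    change r (Ideal.Quotient.mk p.asIdeal a) = 0 ↔ _
    rw [map_eq_zero_iff r r.injective, Ideal.Quotient.eq_zero_iff_mem]
  change (Spec.map (CommRingCat.ofHom ψ) ≫ e.inv) (IsLocalRing.closedPoint K) = t
  rw [Scheme.Hom.comp_apply, h1]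
  change (e.hom ≫ e.inv) t = t
  rw [e.hom_inv_id]
  rfl

variable {G : Over (Spec (CommRingCat.of K))} [GrpObj G]

omit [GrpObj G] in
theorem exists_eq_lift (T : Over (Spec (CommRingCat.of K)))
    (σ : 𝟙_ (Over (Spec (CommRingCat.of K))) ⟶ T) (w : (T ⊗ G).left)
    (hw : (fst T G).left w = ev σ) :
    (lift (toUnit G ≫ σ) (𝟙 G)).left ((snd T G).left w) = w := by
  have h1 : w ∈ Set.range (σ ⊗ₘ 𝟙 G).left := by
    rw [Over.tensorHom_left, Scheme.Pullback.range_map]
    exact ⟨⟨_, hw.symm⟩, ⟨_, rfl⟩⟩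
  obtain ⟨v, rfl⟩ := h1
  have key : (σ ⊗ₘ 𝟙 G) ≫ snd T G ≫ lift (toUnit G ≫ σ) (𝟙 G) = σ ⊗ₘ 𝟙 G := by
    refine CartesianMonoidalCategory.hom_ext _ _ ?_ ?_
    · rw [Category.assoc, Category.assoc, lift_fst, tensorHom_fst, ← Category.assoc,
        ← Category.assoc]
      congr 1
      exact toUnit_unique _ _
    · rw [Category.assoc, Category.assoc, lift_snd, Category.comp_id]
  rw [← comp_left_apply, ← comp_left_apply, key]

/-- The members of an integral family of points of `G` in one irreducible component lie in an affine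
open. -/
theorem exists_affine_fibre [IsAlgClosed K] (hR : RatDense G) (T : Over (Spec (CommRingCat.of K)))
    [IsIntegralHom T.hom] (f : T ⟶ G) (t₀ : T.left) :
    ∃ U : G.left.Opens, IsAffineOpen U ∧
      ∀ t, gen G (f.left t) = gen G (f.left t₀) → f.left t ∈ U := by
  have hg := gen_gen G
  let ζ : G.left := gen G (f.left t₀)
  let F : Set T.left := f.left ⁻¹' closure {ζ}
  have hF : IsClosed F := isClosed_closure.preimage f.left.continuous
  have hFiff : ∀ t, t ∈ F ↔ gen G (f.left t) = ζ := by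
    intro t
    constructor
    · intro ht
      rw [← hg.eq (specializes_iff_mem_closure.2 ht)]
      exact hg.idem _
    · intro ht
      exact specializes_iff_mem_closure.1 (ht ▸ hg.spec _)
  obtain ⟨T', i, hi, hiF⟩ := exists_isClosedImmersion T.left F hF
  let T'' : Over (Spec (CommRingCat.of K)) := Over.mk (i ≫ T.hom)
  have hint : IsIntegralHom T''.hom := inferInstanceAs (IsIntegralHom (i ≫ T.hom))
  let f' : T'' ⟶ G := Over.homMk (i ≫ f.left) (by
    change (i ≫ f.left) ≫ G.hom = i ≫ T.hom
    rw [Category.assoc, Over.w])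
  have hf' : ∀ t' : T''.left, gen G (f'.left t') = ζ := by
    intro t'
    have h1 : i t' ∈ F := hiF ▸ ⟨t', rfl⟩
    have h2 := (hFiff _).1 h1
    rwa [show f'.left t' = f.left (i t') from Scheme.Hom.comp_apply i f.left t']
  obtain ⟨U, hU, hUt, -⟩ := exists_isAffineOpen_mem_and_subset (X := G.left) (U := ⊤)
    (x := f.left t₀) trivial
  have hUζ : ζ ∈ U := (hg.spec _).mem_open U.2 hUt
  let m : T'' ⊗ G ⟶ G := (fst T'' G ≫ f') * snd T'' G
  have hsnd : IsIntegralHom (snd T'' G).left :=
    MorphismProperty.of_isPullback (P := @IsIntegralHom) (isPullback_tensor T'' G) hint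
  let B : Set G.left := (snd T'' G).left '' (m.left ⁻¹' (U : Set G.left)ᶜ)
  have hB : IsClosed B := (snd T'' G).left.isClosedMap _
    (U.2.isClosed_compl.preimage m.left.continuous)
  have hξ : gen G (ev 1) ∉ B := by
    rintro ⟨w, hw, hw2⟩
    obtain ⟨σ, hσ⟩ := exists_ratPoint T'' ((fst T'' G).left w)
    have h1 := exists_eq_lift T'' σ w hσ.symm
    apply hw
    rw [← h1, ← comp_left_apply, hw2]
    have h2 : lift (toUnit G ≫ σ) (𝟙 G) ≫ m = (bt G (σ ≫ f') 1).hom := by
      change _ = (toUnit G ≫ σ ≫ f') * 𝟙 G * (toUnit G ≫ 1)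
      rw [comp_mul, ← Category.assoc, lift_fst, lift_snd, comp_one, _root_.mul_one, Category.assoc]
    rw [h2, ← bth_apply, ← gen_ev, ev_comp, hf']
    exact hUζ
  obtain ⟨g, -, hgB⟩ := hR Set.univ Bᶜ isClosed_univ hB.isOpen_compl ⟨_, trivial, hξ⟩
  refine ⟨(bt G 1 g).hom.left ⁻¹ᵁ U, ?_, ?_⟩
  · have : IsIso (bt G 1 g).hom.left := inferInstance
    exact hU.preimage_of_isIso _
  · intro t ht
    obtain ⟨t', rfl⟩ : t ∈ Set.range i := hiF ▸ (hFiff t).2 ht
    by_contra hc
    refine hgB ⟨(lift (𝟙 T'') (toUnit T'' ≫ g)).left t', ?_, ?_⟩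
    · rw [Set.mem_preimage, ← comp_left_apply]
      have h2 : lift (𝟙 T'') (toUnit T'' ≫ g) ≫ m = f' ≫ (bt G 1 g).hom := by
        rw [comp_bt, comp_mul, ← Category.assoc, lift_fst, lift_snd, comp_one, _root_.one_mul,
          Category.id_comp]
      rw [h2, comp_left_apply]
      exact hc
    · rw [← comp_left_apply, lift_snd, comp_left_apply]
      unfold ev
      congr 1
      exact Subsingleton.elim (α := PrimeSpectrum K) _ _

/-- **Integral families of points lie in an affine open.** -/
theorem exists_affine [IsAlgClosed K] (hR : RatDense G) (T : Over (Spec (CommRingCat.of K)))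
    [IsIntegralHom T.hom] (f : T ⟶ G) :
    ∃ U : G.left.Opens, IsAffineOpen U ∧ ∀ t, f.left t ∈ U := by
  have := Groth.Agent.Localalg.GrpSchComp2.quasiSeparatedSpace G
  have : IsAffine T.left := isAffine_of_isAffineHom T.hom
  exact GenCont.exists_affine_of_fibres (gen_gen G) (continuous_gen hR) f.left f.left.continuous
    (exists_affine_fibre hR T f)

end K626.GrpAff
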