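import Groth.Agent.AlgSp.K626.HomFA
import Groth.Agent.AlgSp.K626.GrpAff
import Mathlib.AlgebraicGeometry.Morphisms.Finite
import Mathlib.RingTheory.Jacobson.Ring

/-!
# Preimages of closed points under extensions to algebraically closed fields
-/

set_option autoImplicit false
set_option backward.isDefEq.respectTransparency false
universe u

open CategoryTheory CategoryTheory.Limits AlgebraicGeometry Opposite TopologicalSpace Topology

namespace K626.ClosedPt

open AlgSp K610.SchLocus K626.W5 K626.HomAct K626.HomPt K626.HomFld K626.HomFA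

/-- a closed point of a scheme locally of finite type over `Spec R` lying over a closed point -/
theorem isFinite_of_isClosed {R : Type u} [CommRing R] {V : Scheme.{u}} (f : V ⟶ Spec (CommRingCat.of R))
    [LocallyOfFiniteType f] (v : V) (hv : IsClosed ({v} : Set V)) (hs : IsClosed ({f v} : Set _)) :
    IsFinite (V.fromSpecResidueField v ≫ f) := by
  have := isClosed_singleton_iff_isClosedImmersion.mp hv
  let g : Spec (V.residueField v) ⟶ Spec (CommRingCat.of R) := V.fromSpecResidueField v ≫ f
  have hg : LocallyOfFiniteType g := inferInstanceAs (LocallyOfFiniteType (V.fromSpecResidueField v ≫ f))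
  change IsFinite g
  obtain ⟨ψ, hψ⟩ := Spec.map_surjective g
  rw [← hψ] at hg ⊢
  rw [IsFinite.SpecMap_iff]
  rw [HasRingHomProperty.Spec_iff (P := @LocallyOfFiniteType)] at hg
  let m : Ideal R := RingHom.ker ψ.hom
  have hm : m.IsMaximal := by
    have h1 : (g (IsLocalRing.closedPoint (V.residueField v))) = f v := by
      change (V.fromSpecResidueField v ≫ f) _ = _
      rw [Scheme.Hom.comp_apply, Scheme.fromSpecResidueField_apply]
    have h2 : (f v).asIdeal = m := by
      rw [← h1, ← hψ]
      change Ideal.comap ψ.hom (IsLocalRing.maximalIdeal _) = _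
      rw [IsLocalRing.maximalIdeal_eq_bot]
      rfl
    rw [← h2]
    exact (PrimeSpectrum.isClosed_singleton_iff_isMaximal _).1 hs
  let _ : Field (R ⧸ m) := Ideal.Quotient.field m
  let φ : R ⧸ m →+* V.residueField v := Ideal.Quotient.lift m ψ.hom fun r hr => hr
  have hφ : φ.comp (Ideal.Quotient.mk m) = ψ.hom := Ideal.Quotient.lift_comp_mk _ _ _
  let _ : Algebra (R ⧸ m) (V.residueField v) := φ.toAlgebra
  have hft : Algebra.FiniteType (R ⧸ m) (V.residueField v) := by
    have h1 : (φ.comp (Ideal.Quotient.mk m)).FiniteType := by rw [hφ]; exact hg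
    exact RingHom.FiniteType.of_comp_finiteType h1
  have hfin : Module.Finite (R ⧸ m) (V.residueField v) := finite_of_finite_type_of_isJacobsonRing _ _
  rw [← hφ]
  exact RingHom.Finite.comp (show φ.Finite from hfin) (RingHom.Finite.of_surjective _ Ideal.Quotient.mk_surjective)

section pts

variable {S : Scheme.{u}} {κ : Type u} [Field κ] (str : Spec (CommRingCat.of κ) ⟶ S)

theorem isPullback_chMap {V : Over S} {X : Sp S} (p : (yon S).obj V ⟶ X) :
    IsPullback (chMap str p) ((yon S).map (chT₁ str V)) prod.fst p := by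
  have h1 := (K625.Prod.isPullback_map_left ((yon S).obj (Over.mk str)) p).flip
  have := isIso_prodLift str (V := V)
  refine IsPullback.of_iso h1 (asIso (prod.lift ((yon S).map (chT₁ str V)) ((yon S).map (chT₂ str V)))).symm
    (Iso.refl _) (Iso.refl _) (Iso.refl _) ?_ ?_ ?_ ?_
  · rw [Iso.refl_hom, Category.comp_id, Iso.symm_hom, asIso_inv, IsIso.eq_inv_comp, prod.lift_map, Category.comp_id]
  · rw [Iso.refl_hom, Category.comp_id, Iso.symm_hom, asIso_inv, IsIso.eq_inv_comp, prod.lift_fst]
  · simp
  · simp

end pts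

theorem exists_finite_pts {R : Type u} [CommRing R] {κ : Type u} [Field κ] [IsAlgClosed κ]
    (str : Spec (CommRingCat.of κ) ⟶ Spec (CommRingCat.of R)) [IsIntegralHom str] {X : Sp (Spec (CommRingCat.of R))}
    {V : Over (Spec (CommRingCat.of R))} {p : (yon _).obj V ⟶ X} (hp' : RepWith @Surjective p)
    [LocallyOfFiniteType V.hom] [CompactSpace V.left] (x : Points X) (hx : IsClosed ({x} : Set (Points X))) :
    ∃ (ι : Type u) (_ : Finite ι) (y : ι → ((yon _).obj (Over.mk str) ⟶ X)),
      ∀ z : Points (X ⨯ (yon _).obj (Over.mk str)), Points.map prod.fst z = x → ∃ i, z = pX str (y i) := by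
  classical
  by_cases hF : ∃ z : Points (X ⨯ (yon _).obj (Over.mk str)), Points.map prod.fst z = x
  swap
  · exact ⟨PEmpty, inferInstance, fun i => i.elim, fun z hz => (hF ⟨z, hz⟩).elim⟩
  obtain ⟨v₀, hv₀⟩ := K610.Base.surjective_ofPt hp' x
  obtain ⟨v, hvx, hv⟩ := IsClosed.exists_closed_singleton (S := Points.ofPt p ⁻¹' {x})
    (hx.preimage (Points.continuous_ofPt p)) ⟨v₀, hv₀⟩
  have hlift : ∀ z : Points (X ⨯ (yon _).obj (Over.mk str)), Points.map prod.fst z = x →
      ∃ w : (chT str V).left, Points.ofPt (chMap str p) w = z ∧ (chT₁ str V).left w = v := by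
    intro z hz
    exact K647.Pts.exists_point_rep (isPullback_chMap str p) z v (hz.trans (show Points.ofPt p v = x from hvx).symm)
  have hs : IsClosed ({V.hom v} : Set _) := by
    obtain ⟨z, hz⟩ := hF
    obtain ⟨w, -, hw⟩ := hlift z hz
    have h1 : V.hom v = str ((chT₂ str V).left w) := by
      rw [← hw, ← Scheme.Hom.comp_apply]
      have := pullback.condition (f := V.hom) (g := str)
      exact congrArg (fun f => f w) this
    have h2 : (chT₂ str V).left w = t₀ str := Subsingleton.elim (α := PrimeSpectrum κ) _ _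
    rw [h1, h2]
    have h3 := (str.isClosedMap) _ (IsLocalRing.isClosed_singleton_closedPoint κ)
    rwa [Set.image_singleton] at h3
  have hfin := isFinite_of_isClosed V.hom v hv hs
  let g : Spec (V.left.residueField v) ⟶ Spec (CommRingCat.of R) := V.left.fromSpecResidueField v ≫ V.hom
  have hg : IsFinite g := hfin
  let P := pullback g str
  have hP : IsFinite (pullback.snd g str) := MorphismProperty.pullback_snd (P := @IsFinite) _ _ hg
  have hPf : Finite P := by
    have h1 := (pullback.snd g str).finite_preimage_singleton (t₀ str)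
    have h2 : (pullback.snd g str) ⁻¹' {t₀ str} = Set.univ := by
      ext q
      exact ⟨fun _ => trivial, fun _ => Subsingleton.elim (α := PrimeSpectrum κ) _ _⟩
    rw [h2] at h1
    exact Set.finite_univ_iff.1 h1
  let j : P ⟶ pullback V.hom str := pullback.map g str V.hom str (V.left.fromSpecResidueField v) (𝟙 _) (𝟙 _)
    (by rw [Category.comp_id]) (by rw [Category.comp_id, Category.id_comp])
  have hj : ∀ w : (chT str V).left, (chT₁ str V).left w = v → w ∈ Set.range j := by
    intro w hw
    change w ∈ Set.range (pullback.map g str V.hom str (V.left.fromSpecResidueField v) (𝟙 _) (𝟙 _)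
      (by rw [Category.comp_id]) (by rw [Category.comp_id, Category.id_comp]))
    rw [Scheme.Pullback.range_map]
    refine ⟨?_, ?_⟩
    · change (pullback.fst V.hom str) w ∈ Set.range (V.left.fromSpecResidueField v)
      rw [Scheme.range_fromSpecResidueField]
      exact hw
    · exact ⟨_, rfl⟩
  have hint : IsIntegralHom (Over.mk (pullback.snd g str) : Over (Spec (CommRingCat.of κ))).hom :=
    inferInstanceAs (IsIntegralHom (pullback.snd g str))
  have hσ := fun q : P => GrpAff.exists_ratPoint (Over.mk (pullback.snd g str) : Over (Spec (CommRingCat.of κ))) q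
  choose σ hσ using hσ
  let s : P → (Over.mk str ⟶ chT str V) := fun q => Over.homMk ((σ q).left ≫ j) (by
    have h1 : (σ q).left ≫ pullback.snd g str = 𝟙 _ := Over.w (σ q)
    change ((σ q).left ≫ j) ≫ pullback.fst V.hom str ≫ V.hom = str
    rw [pullback.condition]
    change ((σ q).left ≫ pullback.map _ _ _ _ _ _ _ _ _) ≫ pullback.snd V.hom str ≫ str = str
    rw [Category.assoc, pullback.lift_snd_assoc, Category.comp_id, reassoc_of% h1])
  have hs2 : ∀ q, s q ≫ chT₂ str V = 𝟙 _ := by
    intro q
    ext1
    have h1 : (σ q).left ≫ pullback.snd g str = 𝟙 _ := Over.w (σ q)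
    change ((σ q).left ≫ pullback.map _ _ _ _ _ _ _ _ _) ≫ pullback.snd V.hom str = _
    rw [Category.assoc, pullback.lift_snd, Category.comp_id, h1]
    rfl
  refine ⟨P, hPf, fun q => (yon _).map (s q ≫ chT₁ str V) ≫ p, fun z hz => ?_⟩
  obtain ⟨w, hw, hwv⟩ := hlift z hz
  obtain ⟨q, rfl⟩ := hj w hwv
  refine ⟨q, ?_⟩
  have e : prod.lift ((yon _).map (s q ≫ chT₁ str V) ≫ p) (𝟙 _) = (yon _).map (s q) ≫ chMap str p := by
    apply Limits.prod.hom_ext
    · rw [prod.lift_fst, Category.assoc, prod.lift_fst, Functor.map_comp, Category.assoc]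
    · rw [prod.lift_snd, Category.assoc, prod.lift_snd, ← Functor.map_comp, hs2, CategoryTheory.Functor.map_id]
  unfold pX
  rw [e, K647.Pts.ofPt_map, ← hw]
  congr 1
  change j q = ((σ q).left ≫ j) _
  rw [Scheme.Hom.comp_apply]
  congr 1
  exact (hσ q).symm

end K626.ClosedPt
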