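import Groth.Agent.AlgSp.K648.Cartier
import Groth.Agent.AlgSp.K647.FibNoeth

/-!
# The points of the closed subspace cut out by a power of an ideal
-/

set_option autoImplicit false
set_option backward.isDefEq.respectTransparency false
universe u

open CategoryTheory CategoryTheory.Limits AlgebraicGeometry Opposite TopologicalSpace

namespace K626.CutPow

open AlgSp

variable {S : Scheme.{u}} {X Z Zn : Sp S} {I : IdealEt X} {iZ : Z ⟶ X} {iZn : Zn ⟶ X}

/-- `V(I^n) ⊆ V(I)` on points -/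
theorem range_subset (hX : IsAlgSpace X) (hZ : IsCutOutBy I iZ) {n : ℕ} (hn : IsCutOutBy (I ^ n) iZn)
    (hpos : 1 ≤ n) : Set.range (Points.map iZn) ⊆ Set.range (Points.map iZ) := by
  intro x hx
  obtain ⟨V, b, hb, hb'⟩ := hX.atlas
  obtain ⟨y, rfl⟩ := K647.Pts.surjective_of_repWith hb' x
  obtain ⟨v, rfl⟩ := K647.Pts.exists_ofPt y
  rw [← Points.ofPt_eq_map_ofScheme] at hx ⊢
  obtain ⟨O, hO, hv, -⟩ := exists_isAffineOpen_mem_and_subset (U := ⊤) (x := v) trivial
  let E : EtOver X := K648.Chart.opn (EtOver.mk b hb) O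
  have hE : IsAffine E.obj.left.left := hO
  let w : E.obj.left.left := ⟨v, hv⟩
  have e : Points.ofPt E.obj.hom w = Points.ofPt b v := K647.Pts.ofPt_map _ _ _
  rw [← e, ← K647.Idl.mem_support_idl_iff hn.1] at hx
  rw [← e, ← K647.Idl.mem_support_idl_iff hZ.1]
  let O' : E.obj.left.left.affineOpens := ⟨⊤, isAffineOpen_top _⟩
  rw [Scheme.IdealSheafData.mem_support_iff_of_mem (U := O') trivial, Scheme.mem_zeroLocus_iff] at hx ⊢
  intro f hf hwf
  refine hx (f ^ n) ?_ ?_
  · have h1 : (K647.Idl.idl hn.1 E.obj.hom).ideal O' = (K647.Idl.idl hZ.1 E.obj.hom).ideal O' ^ n := by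
      rw [K648.Cartier.ideal_idl hn.1 E hE, K648.Cartier.ideal_idl hZ.1 E hE, hn.2, hZ.2]
      rfl
    rw [h1]
    exact Ideal.pow_mem_pow hf n
  · rw [Scheme.basicOpen_pow _ _ hpos]
    exact hwf

end K626.CutPow
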