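import Groth.Agent.AlgSp.K625.Galois
import Groth.Agent.AlgSp.K628.Props
import Groth.Agent.AlgSp.K610.InvOpen
import Groth.Agent.AlgSp.K606.Boot
import Groth.Agent.S0411
/-!
# Descent of affine open subspaces along extensions of the ground field
-/

set_option autoImplicit false
universe u
open CategoryTheory CategoryTheory.Limits AlgebraicGeometry Topology TopologicalSpace Opposite
open AlgSp
open K625.Fld (fld bcs homOf bcMap)

namespace K626.DescOpen

variable {k : Type u} [Field k] {K : Type u} [Field K] [Algebra k K]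
  {K' : Type u} [Field K'] [Algebra k K']

theorem fqC_homOf (ι : K' →ₐ[k] K) : K628.Fqc.FqC (homOf ι) where
  flat := by
    rw [K625.Fld.homOf_left]
    refine Flat.SpecMap_iff.2 ?_
    let _ : Algebra K' K := ι.toRingHom.toAlgebra
    change Module.Flat K' K
    infer_instance
  qc := by
    rw [K625.Fld.homOf_left]
    exact (inferInstance : QuasiCompact (Spec.map (CommRingCat.ofHom ι.toRingHom)))
  surj := K625.Fld.surjective_homOf ι

/-- An open subset of `|X_{K'}|` whose preimage in the scheme `X_K` is affine is an affine open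
subspace. -/
theorem exists_affine_open (X : Space (Spec (CommRingCat.of k))) (ι : K' →ₐ[k] K)
    (T : Over (Spec (CommRingCat.of k))) (e : (yon _).obj T ≅ bcs X.obj K) (q : T ⟶ fld k K)
    (hq : (yon _).map q = e.hom ≫ prod.snd) (W : T.left.Opens) (hW : IsAffineOpen W)
    (O : Set (Points (bcs X.obj K'))) (hO : IsOpen O)
    (hOW : Points.ofPt (e.hom ≫ bcMap X.obj ι) ⁻¹' O = (W : Set ↥T.left)) :
    ∃ (V : Over (Spec (CommRingCat.of k))) (g : (yon _).obj V ⟶ bcs X.obj K'), IsAffine V.left ∧
      RepWith @IsOpenImmersion g ∧ Set.range (Points.ofPt g) = O := by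
  have hA : IsAlgSpace (bcs X.obj K') :=
    K606.Boot.isAlgSpace_prod X.property (IsAlgSpace.yon_obj (fld k K'))
  obtain ⟨G, j, hj, hjr⟩ := K610.Sub.exists_open_subspace ⟨_, hA⟩ O hO
  -- the pullback to `T`
  obtain ⟨V₀, v, a, sq⟩ := hj.1 (e.hom ≫ bcMap X.obj ι)
  have hv : IsOpenImmersion v.left := hj.2 _ a v sq
  have hvr : Set.range v.left = (W : Set ↥T.left) := by
    rw [← hOW]
    ext t
    constructor
    · rintro ⟨z, rfl⟩
      rw [Set.mem_preimage, ← hjr, ← K625.Points.ofPt_yon_map_comp v, ← sq.w, ← Points.map_ofPt]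
      exact ⟨_, rfl⟩
    · intro ht
      rw [Set.mem_preimage, ← hjr] at ht
      obtain ⟨y, hy⟩ := ht
      obtain ⟨z, -, hz⟩ := K610.Base.exists_of_isPullback_yon sq y t hy
      exact ⟨z, hz⟩
  have hV₀ : IsAffine V₀.left := by
    have h1 : v.left.opensRange = W := TopologicalSpace.Opens.ext hvr
    exact K610.InvOpen.isAffine_of_opensRange v.left (h1 ▸ hW)
  -- the base change of `G ⟶ Spec K'` to `Spec K` is affine
  have sq2 : IsPullback (e.hom ≫ bcMap X.obj ι) ((yon _).map q)
      (prod.snd : bcs X.obj K' ⟶ _) ((yon _).map (homOf ι)) := by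
    have h1 := (K625.Prod.isPullback_map_right X.obj ((yon _).map (homOf ι))).flip
    refine IsPullback.of_iso h1 e.symm (Iso.refl _) (Iso.refl _) (Iso.refl _) ?_ ?_ ?_ ?_
    · simp
    · simp [hq]
    · simp
    · simp
  have sq3 := sq.paste_vert sq2
  rw [← Functor.map_comp] at sq3
  have H : K628.ZarRep.RepAt @IsAffineHom (j.hom ≫ (prod.snd : bcs X.obj K' ⟶ _))
      ((yon _).map (homOf ι) ≫ 𝟙 _) := by
    rw [Category.comp_id]
    refine ⟨V₀, a, v ≫ q, sq3, ?_⟩
    have : IsAffine (fld k K).left := inferInstanceAs (IsAffine (Spec (CommRingCat.of K)))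
    exact isAffineHom_of_isAffine (v ≫ q).left
  have := Groth.Agent.Desc.MorDescent.descendsAlong_isAffineHom.{u}
  obtain ⟨V, g, s, sqV, hs⟩ := K628.Cover.repAt_of_single G.property (IsAlgSpace.yon_obj (fld k K'))
    (j.hom ≫ (prod.snd : bcs X.obj K' ⟶ _)) @IsAffineHom K628.Props.isAffineHom_le (𝟙 _) (homOf ι)
    (fqC_homOf ι) H
  have hg : IsIso g := sqV.isIso_fst_of_isIso
  have hV : IsAffine V.left := by
    have h1 : IsAffineHom s.left := hs
    have : IsAffine (fld k K').left := inferInstanceAs (IsAffine (Spec (CommRingCat.of K')))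
    exact isAffine_of_isAffineHom s.left
  refine ⟨V, g ≫ j.hom, hV, MorphismProperty.comp_mem (RepWith @IsOpenImmersion) _ _
    (K610.SchLocus.repWith_iso (asIso g)) hj, ?_⟩
  exact (K610.SchLocus.range_comp_of_surjective g j.hom
    (K610.SchLocus.surjective_ofPt_iso (asIso g))).trans hjr

/-- `x` lies in the schematic locus if the finitely many points of `X_{K'}` over it lie in an affine
open subspace, for `K'` a finite extension. -/
theorem mem_locus_of_finite [FiniteDimensional k K'] (X : Space (Spec (CommRingCat.of k)))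
    (V' : Over (Spec (CommRingCat.of k))) (hV' : IsAffine V'.left) (g : (yon _).obj V' ⟶ bcs X.obj K')
    (hg : RepWith @IsOpenImmersion g) (x : Points X.obj)
    (hx : ∀ y : Points (bcs X.obj K'), Points.map prod.fst y = x → y ∈ Set.range (Points.ofPt g))
    (hfin : {y : Points (bcs X.obj K') | Points.map prod.fst y = x}.Finite) :
    x ∈ K610.SchLocus.locus X := by
  let c : bcs X.obj K' ⟶ X.obj := prod.fst
  have h0 : IsFinite (fld k K').hom := by
    change IsFinite (Spec.map (CommRingCat.ofHom (algebraMap k K')))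
    rw [IsFinite.SpecMap_iff]
    change (algebraMap k K').Finite
    rw [RingHom.finite_algebraMap]
    infer_instance
  have hfl : Flat (fld k K').hom := by
    change Flat (Spec.map (CommRingCat.ofHom (algebraMap k K')))
    infer_instance
  have hlfp : LocallyOfFinitePresentation (fld k K').hom := by
    change LocallyOfFinitePresentation (Spec.map (CommRingCat.ofHom (algebraMap k K')))
    rw [LocallyOfFinitePresentation.SpecMap_iff]
    change (algebraMap k K').FinitePresentation
    rw [RingHom.finitePresentation_algebraMap]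
    exact Algebra.FinitePresentation.of_finiteType.1 inferInstance
  have hsj : Surjective (fld k K').hom := K625.Fld.surjective_specMap (algebraMap k K')
  have c1 : RepWith @IsFinite c := K625.Prod.repWith_fst @IsFinite X.obj _ h0
  have c2 : RepWith @Flat c := K625.Prod.repWith_fst @Flat X.obj _ hfl
  have c3 : RepWith @LocallyOfFinitePresentation c :=
    K625.Prod.repWith_fst @LocallyOfFinitePresentation X.obj _ hlfp
  have c4 : RepWith @Surjective c := K625.Prod.repWith_fst @Surjective X.obj _ hsj
  have hcl : IsClosedMap (Points.map c) := K625.Prod.isClosedMap_of_repWith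
    (K625.Prod.repWith_fst @UniversallyClosed X.obj _ inferInstance)
  -- the open subspace of `X` whose preimage lies in the affine open
  set O : Set (Points (bcs X.obj K')) := Set.range (Points.ofPt g) with hOdef
  have hO : IsOpen O := (K610.Base.isOpenMap_ofPt_etale
    (K610.OpenImm.repWith_etale_of_open hg)).isOpen_range
  let Vx : Set (Points X.obj) := (Points.map c '' Oᶜ)ᶜ
  have hVx : IsOpen Vx := (hcl _ hO.isClosed_compl).isOpen_compl
  have hxV : x ∈ Vx := by
    rintro ⟨y, hy, hyx⟩
    exact hy (hx y hyx)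
  obtain ⟨X₁, j₁, hj₁, hr₁⟩ := K610.Sub.exists_open_subspace X Vx hVx
  let m : bcs X₁.obj K' ⟶ bcs X.obj K' := prod.map j₁.hom (𝟙 _)
  have hm : RepWith @IsOpenImmersion m := MorphismProperty.of_isPullback
    (K625.Prod.isPullback_map_left ((yon _).obj (fld k K')) j₁.hom) hj₁
  have hmono : Mono g := K610.Factor.mono_of_isOpenImmersion hg
  obtain ⟨r, hr⟩ := (K610.Factor.factors_open_iff hg m).2 (by
    rw [← K610.SchLocus.range_ofPt]
    rintro _ ⟨p, rfl⟩
    by_contra hp
    have h1 : Points.map c (Points.map m p) ∈ Vx := by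
      rw [← Points.map_comp, show m ≫ c = prod.fst ≫ j₁.hom from prod.map_fst _ _, Points.map_comp,
        ← hr₁]
      exact ⟨_, rfl⟩
    exact h1 ⟨_, hp, rfl⟩)
  have hr' : RepWith @IsOpenImmersion r := K610.OpenImm.repWith_of_comp_mono (j := g) (hr ▸ hm)
  obtain ⟨M, s, i, sq⟩ := hr'.1 (𝟙 _)
  have hs : IsOpenImmersion s.left := hr'.2 (𝟙 _) _ _ sq
  have hi : IsIso i := sq.isIso_fst_of_isIso
  let a : (yon _).obj M ⟶ X₁.obj := i ≫ prod.fst
  have ha : ∀ (P : MorphismProperty Scheme.{u}) [P.IsStableUnderBaseChange],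
      P (fld k K').hom → RepWith P a := by
    intro P _ hP
    exact (MorphismProperty.cancel_left_of_respectsIso (RepWith P) i _).2
      (K625.Prod.repWith_fst P X₁.obj _ hP)
  obtain ⟨x₁, hx₁⟩ : x ∈ Set.range (Points.map j₁.hom) := hr₁ ▸ hxV
  obtain ⟨y₁, hy₁⟩ := K625.Prod.surjective_ofPt (ha @Surjective hsj) x₁
  -- the fibre is finite
  have hinj : Function.Injective (Points.map m) :=
    (K610.OpenImm.isEmbedding_points (K606.Boot.isAlgSpace_prod X.property
      (IsAlgSpace.yon_obj (fld k K'))) (K610.OpenImm.repWith_isImmersion_of_open hm)).1.injective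
  have hF : {y : ↥M.left | Points.ofPt a y = x₁}.Finite := by
    refine Set.Finite.of_finite_image (f := fun y => Points.map m (Points.ofPt i y))
      (hfin.subset ?_) ?_
    · rintro _ ⟨y, hy, rfl⟩
      change Points.map prod.fst (Points.map m (Points.ofPt i y)) = x
      rw [← Points.map_comp, show m ≫ prod.fst = prod.fst ≫ j₁.hom from prod.map_fst _ _,
        Points.map_comp, Points.map_ofPt, show Points.ofPt (i ≫ prod.fst) y = x₁ from hy, hx₁]
    · intro y _ y' _ h
      have h1 := hinj h
      have h2 : Points.map (inv i) (Points.ofPt i y) = Points.map (inv i) (Points.ofPt i y') := by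
        rw [h1]
      rw [Points.map_ofPt, Points.map_ofPt, IsIso.hom_inv_id] at h2
      have h3 := congrArg (Points.toScheme M) h2
      have h4 : ∀ z, Points.toScheme M (Points.ofPt (𝟙 _) z) = z := fun z =>
        Points.toScheme_ofScheme M z
      rwa [h4, h4] at h3
  obtain ⟨D, hD, hDT⟩ := Groth.Agent.S0411.result s.left hF.toFinset
  have key := K610.InvOpen.exists_isSch (ha @IsFinite h0) (ha @Flat hfl)
    (ha @LocallyOfFinitePresentation hlfp) (ha @Surjective hsj) y₁ D hD
    (fun y hy => hDT y (by simpa [hy₁] using hy))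
  rw [hy₁] at key
  obtain ⟨W, ⟨H, f, hf, hfW⟩, hxW⟩ := K610.SchLocus.mem_locus_iff.1 key
  refine K610.SchLocus.mem_locus_iff.2 ⟨_, ⟨H, f ≫ j₁.hom,
    MorphismProperty.comp_mem (RepWith @IsOpenImmersion) _ _ hf hj₁, rfl⟩, ?_⟩
  rw [← hfW] at hxW
  obtain ⟨w, hw⟩ := hxW
  refine ⟨w, ?_⟩
  rw [← Points.map_ofPt, hw, hx₁]

end K626.DescOpen
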