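import Groth.Agent.AlgSp.K625.Galois
/-!
# Points of `X_K` over a point with finite residue field
-/

set_option autoImplicit false
universe u
open CategoryTheory CategoryTheory.Limits AlgebraicGeometry Topology TopologicalSpace Opposite
open AlgSp
open K625.Fld (fld bcs homOf bcMap)

namespace K626.DescPts

variable {k : Type u} [Field k] {K : Type u} [Field K] [Algebra k K]
  {L : Type u} [Field L] [Algebra k L]

/-- The `K`-rational point of `X_K` given by an `L`-point of `X` and a `k`-embedding `L → K`. -/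
noncomputable def ptHom {X : Sp (Spec (CommRingCat.of k))} (x : (yon _).obj (fld k L) ⟶ X)
    (φ : L →ₐ[k] K) : (yon _).obj (fld k K) ⟶ bcs X K :=
  prod.lift ((yon _).map (homOf φ) ≫ x) (𝟙 _)

theorem ptHom_fst {X : Sp (Spec (CommRingCat.of k))} (x : (yon _).obj (fld k L) ⟶ X)
    (φ : L →ₐ[k] K) : ptHom x φ ≫ prod.fst = (yon _).map (homOf φ) ≫ x := prod.lift_fst _ _

theorem ptHom_snd {X : Sp (Spec (CommRingCat.of k))} (x : (yon _).obj (fld k L) ⟶ X)
    (φ : L →ₐ[k] K) : ptHom x φ ≫ prod.snd = 𝟙 _ := prod.lift_snd _ _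

theorem ptHom_comp_bcMap {X : Sp (Spec (CommRingCat.of k))} (x : (yon _).obj (fld k L) ⟶ X)
    (φ : L →ₐ[k] K) (σ : K ≃ₐ[k] K) :
    ptHom x φ ≫ bcMap X σ.toAlgHom =
      (yon _).map (homOf σ.toAlgHom) ≫ ptHom x ((σ⁻¹ : K ≃ₐ[k] K).toAlgHom.comp φ) := by
  have h1 : homOf (k := k) σ.toAlgHom ≫ homOf ((σ⁻¹ : K ≃ₐ[k] K).toAlgHom.comp φ) = homOf φ := by
    rw [K625.Tensor.homOf_comp]
    congr 1
    ext y
    exact σ.apply_symm_apply (φ y)
  apply Limits.prod.hom_ext
  · rw [Category.assoc, Category.assoc, ptHom_fst, prod.map_fst, Category.comp_id, ptHom_fst, ← h1,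
      Functor.map_comp, Category.assoc]
  · rw [Category.assoc, Category.assoc, ptHom_snd, prod.map_snd, ← Category.assoc, ptHom_snd,
      Category.id_comp, Category.comp_id]

instance (K : Type u) [Field K] [Algebra k K] : Subsingleton ↥(fld k K).left :=
  inferInstanceAs (Subsingleton (PrimeSpectrum K))

theorem ofPt_comp_homOf {X : Sp (Spec (CommRingCat.of k))} {A B : Type u} [Field A] [Field B]
    [Algebra k A] [Algebra k B] (f : A →ₐ[k] B) (x : (yon _).obj (fld k A) ⟶ X)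
    (s : ↥(fld k B).left) (t : ↥(fld k A).left) :
    Points.ofPt ((yon _).map (homOf f) ≫ x) s = Points.ofPt x t := by
  rw [K625.Points.ofPt_yon_map_comp]
  congr 1
  exact Subsingleton.elim _ _

/-- Every point of `X_K` over the point of `X` given by `x` is one of the points `ptHom x φ`. -/
theorem exists_ptHom [Normal k K] {X : Sp (Spec (CommRingCat.of k))} (x : (yon _).obj (fld k L) ⟶ X)
    (φ₀ : L →ₐ[k] K) (y : Points (bcs X K)) (t : ↥(fld k L).left) (s : ↥(fld k K).left)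
    (hy : Points.map (prod.fst : bcs X K ⟶ X) y = Points.ofPt x t) :
    ∃ φ : L →ₐ[k] K, y = Points.ofPt (ptHom x φ) s := by
  have h0 : Points.map (prod.fst : bcs X K ⟶ X) (Points.ofPt (ptHom x φ₀) s) = Points.ofPt x t := by
    rw [Points.map_ofPt, ptHom_fst]
    exact ofPt_comp_homOf φ₀ x s t
  obtain ⟨σ, rfl⟩ := K625.Galois.exists_conj X (Points.ofPt (ptHom x φ₀) s) y (h0.trans hy.symm)
  refine ⟨(σ⁻¹ : K ≃ₐ[k] K).toAlgHom.comp φ₀, ?_⟩
  rw [Points.map_ofPt, ptHom_comp_bcMap]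
  exact ofPt_comp_homOf _ _ _ _

/-- The fibre is finite. -/
theorem finite_fibre [Normal k K] [FiniteDimensional k L] {X : Sp (Spec (CommRingCat.of k))}
    (x : (yon _).obj (fld k L) ⟶ X)
    (φ₀ : L →ₐ[k] K) (t : ↥(fld k L).left) (s : ↥(fld k K).left) :
    {y : Points (bcs X K) | Points.map (prod.fst : bcs X K ⟶ X) y = Points.ofPt x t}.Finite := by
  refine Set.Finite.subset (Set.finite_range fun φ : L →ₐ[k] K => Points.ofPt (ptHom x φ) s) ?_
  intro y hy
  obtain ⟨φ, rfl⟩ := exists_ptHom x φ₀ y t s hy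
  exact ⟨φ, rfl⟩

end K626.DescPts
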