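import Groth.Prelude.Def_AlgSpDec
import Groth.Agent.AlgSp.K647.Idl
import Groth.Agent.AlgSp.K647.FibNoeth
import Groth.Agent.AlgSp.K640.FpqcIso
import Groth.Agent.AlgSp.K619.ElemNbhd
import Groth.Agent.S3694

/-!
# Elementary etale neighbourhoods: the local ring as a flat neighbourhood of the point

If `a : h_U ⟶ X` is etale, `u` is the only point of `U` over `z` and `Spec κ(u) ⟶ X` is a monomorphism, then every
`Z ⟶ X` all of whose points lie over `z` pulls back isomorphically to `U` and to `Spec O_{U,u}`.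
-/

set_option autoImplicit false
set_option backward.isDefEq.respectTransparency false
universe u

open CategoryTheory CategoryTheory.Limits AlgebraicGeometry Opposite TopologicalSpace

namespace K626.ElemNbhd

open AlgSp

/-- a morphism of schemes all of whose values are `x` factors through the local scheme at `x` -/
theorem exists_fac_stalk {W U : Scheme.{u}} (f : W ⟶ U) (x : U) (h : ∀ w, f w = x) :
    ∃ g : W ⟶ Spec (U.presheaf.stalk x), g ≫ U.fromSpecStalk x = f := by
  obtain ⟨V, hV, hx, -⟩ := exists_isAffineOpen_mem_and_subset (U := ⊤) (x := x) trivial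
  have hle : (⊤ : W.Opens) ≤ f ⁻¹ᵁ V := fun w _ => by
    change f w ∈ V
    rw [h w]
    exact hx
  let θ : Γ(U, V) ⟶ Γ(W, ⊤) := f.appLE V ⊤ hle
  let y : V := ⟨x, hx⟩
  let : Algebra Γ(U, V) (U.presheaf.stalk x) := (U.presheaf.germ V x hx).hom.toAlgebra
  have hloc : IsLocalization.AtPrime (U.presheaf.stalk x) (hV.primeIdealOf y).asIdeal :=
    hV.isLocalization_stalk y
  have hun : ∀ s : (hV.primeIdealOf y).asIdeal.primeCompl, IsUnit (θ.hom s.1) := by
    intro s
    have h1 : x ∈ U.basicOpen s.1 := by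
      rw [Scheme.mem_basicOpen _ _ _ hx]
      exact IsLocalization.map_units (M := (hV.primeIdealOf y).asIdeal.primeCompl) (U.presheaf.stalk x) s
    refine RingedSpace.isUnit_of_isUnit_germ W.toRingedSpace ⊤ (θ.hom s.1) fun w hw => ?_
    have h2 : w ∈ W.basicOpen (θ.hom s.1) := by
      change w ∈ W.basicOpen ((f.appLE V ⊤ hle).hom s.1)
      rw [Scheme.Hom.appLE, CommRingCat.hom_comp, RingHom.comp_apply, Scheme.basicOpen_res]
      refine ⟨trivial, ?_⟩
      rw [← Scheme.preimage_basicOpen]
      change f w ∈ U.basicOpen s.1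
      rw [h w]
      exact h1
    exact (Scheme.mem_basicOpen _ _ _ hw).1 h2
  let ψ : U.presheaf.stalk x →+* Γ(W, ⊤) := IsLocalization.lift hun
  have hψ : U.presheaf.germ V x hx ≫ CommRingCat.ofHom ψ = θ := by
    ext s
    exact IsLocalization.lift_eq hun s
  have e1 : (⊤ : W.Opens).toSpecΓ ≫ Spec.map θ = f.resLE V ⊤ hle ≫ V.toSpecΓ :=
    Scheme.Opens.toSpecΓ_SpecMap_appLE f V ⊤ hle
  refine ⟨W.topIso.inv ≫ (⊤ : W.Opens).toSpecΓ ≫ Spec.map (CommRingCat.ofHom ψ), ?_⟩
  rw [← hV.fromSpecStalk_eq_fromSpecStalk hx, IsAffineOpen.fromSpecStalk]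
  simp only [Category.assoc]
  rw [← Spec.map_comp_assoc, hψ, reassoc_of% e1, hV.toSpecΓ_fromSpec, Scheme.Hom.resLE_comp_ι,
    ← Scheme.topIso_hom, Iso.inv_hom_id_assoc]

/-- base change of the local scheme along such a morphism is an isomorphism -/
theorem isIso_snd_stalk {W U P : Scheme.{u}} (f : W ⟶ U) (x : U) (h : ∀ w, f w = x)
    {p : P ⟶ Spec (U.presheaf.stalk x)} {q : P ⟶ W} (sq : IsPullback p q (U.fromSpecStalk x) f) : IsIso q := by
  obtain ⟨g, hg⟩ := exists_fac_stalk f x h
  have e1 : sq.lift g (𝟙 W) (by rw [hg, Category.id_comp]) ≫ q = 𝟙 W := sq.lift_snd _ _ _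
  have : Mono q := MorphismProperty.of_isPullback (P := MorphismProperty.monomorphisms Scheme.{u}) sq
    (inferInstanceAs (Mono (U.fromSpecStalk x)))
  refine ⟨⟨sq.lift g (𝟙 W) (by rw [hg, Category.id_comp]), ?_, e1⟩⟩
  rw [← cancel_mono q, Category.assoc, e1, Category.comp_id, Category.id_comp]

theorem exists_desc {L : Type u} [Field L] {V : Scheme.{u}} (f : Spec (CommRingCat.of L) ⟶ V) (v : V)
    (h : f (IsLocalRing.closedPoint L) = v) :
    ∃ m : Spec (CommRingCat.of L) ⟶ Spec (V.residueField v), m ≫ V.fromSpecResidueField v = f := by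
  subst h
  exact K619.ElemNbhd.exists_descResidue f

variable {S : Scheme.{u}} {X : Sp S} {U : Over S} {a : (yon S).obj U ⟶ X} {x : ↥U.left} {z : Points X}

/-- two field-valued points of the chart over the same point of the space over `z` are equal -/
theorem eq_of_over (he : IsElemEtaleNbhd a x z) (hu : Points.ofPt a ⁻¹' {z} = {x}) {T : Over S} {K : Type u}
    [Field K] (hT : T.left = Spec (CommRingCat.of K)) (v w : T ⟶ U) (h : (yon S).map v ≫ a = (yon S).map w ≫ a)
    (hz : ∀ t, Points.ofPt ((yon S).map v ≫ a) t = z) : v = w := by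
  obtain ⟨T, ⟨⟨⟩⟩, str⟩ := T
  obtain rfl : T = Spec (CommRingCat.of K) := hT
  have key : ∀ v : (Over.mk str : Over S) ⟶ U, (∀ t, Points.ofPt ((yon S).map v ≫ a) t = z) →
      ∃ v' : (Over.mk str : Over S) ⟶ K619.ElemNbhd.kpt U x, v' ≫ K619.ElemNbhd.kι U x = v := by
    intro v hv
    have h1 : v.left (IsLocalRing.closedPoint K) = x := by
      have : v.left (IsLocalRing.closedPoint K) ∈ Points.ofPt a ⁻¹' {z} := by
        change Points.ofPt a (v.left (IsLocalRing.closedPoint K)) = z
        rw [← hv (IsLocalRing.closedPoint K), K647.Pts.ofPt_map]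
      rw [hu] at this
      exact this
    obtain ⟨m, hm⟩ := exists_desc v.left x h1
    refine ⟨Over.homMk m ?_, ?_⟩
    · have := Over.w v
      rw [← this, ← hm]
      simp
    · ext1
      exact hm
  obtain ⟨v', hv'⟩ := key v hz
  obtain ⟨w', hw'⟩ := key w (by rw [← h]; exact hz)
  have hm := he.mono
  rw [K647.FibNoeth.toHom_ofPt] at hm
  have h2 : (yon S).map v' = (yon S).map w' := by
    rw [← cancel_mono ((yon S).map (Over.homMk (U.left.fromSpecResidueField x) rfl :
      (FieldPt.ofPt a x).pt ⟶ U) ≫ a)]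
    have e1 := congrArg ((yon S).map · ≫ a) hv'
    have e2 := congrArg ((yon S).map · ≫ a) hw'
    simp only [Functor.map_comp, Category.assoc] at e1 e2
    exact e1.trans (h.trans e2.symm)
  rw [← hv', ← hw', (yon S).map_injective h2]

/-- every test scheme all of whose points lie over `z` pulls back isomorphically to the chart -/
theorem isIso_chart (he : IsElemEtaleNbhd a x z) (hu : Points.ofPt a ⁻¹' {z} = {x}) {T W : Over S}
    {g : (yon S).obj T ⟶ X} (hg : ∀ t, Points.ofPt g t = z) {p : W ⟶ U} {q : W ⟶ T}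
    (sq : IsPullback ((yon S).map p) ((yon S).map q) a g) : IsIso q.left := by
  have het : Etale q.left := he.etale.2 _ _ _ sq
  have hsurj : Surjective q.left := ⟨fun t => (K647.Pts.mem_range_iff sq t).2 (by
    rw [hg t, ← he.ofPt_eq, Points.ofPt_eq_map_ofScheme]
    exact ⟨_, rfl⟩)⟩
  have hinj : UniversallyInjective q.left := by
    refine ((tfae_universallyInjective q.left).out 0 1).2 fun K instK w₁ w₂ hw => ?_
    have hw' : w₁ ≫ q.left = w₂ ≫ q.left := hw
    have es : w₁ ≫ W.hom = w₂ ≫ W.hom := by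
      rw [← Over.w q, reassoc_of% hw']
    let k : Over S := Over.mk (w₁ ≫ W.hom)
    let v₁ : k ⟶ W := Over.homMk w₁ rfl
    let v₂ : k ⟶ W := Over.homMk w₂ es.symm
    have hq : v₁ ≫ q = v₂ ≫ q := by
      ext1
      exact hw'
    have hp : v₁ ≫ p = v₂ ≫ p := by
      refine @eq_of_over _ _ _ _ _ _ he hu k K instK rfl _ _ ?_ fun t => ?_
      · rw [Functor.map_comp, Functor.map_comp, Category.assoc, Category.assoc, sq.w, ← Category.assoc,
          ← Functor.map_comp, hq, Functor.map_comp, Category.assoc]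
      · rw [Functor.map_comp, Category.assoc, sq.w, ← Category.assoc, ← Functor.map_comp, K647.Pts.ofPt_map]
        exact hg _
    have : v₁ = v₂ := (yon S).map_injective (sq.hom_ext
      (by rw [← Functor.map_comp, ← Functor.map_comp, hp]) (by rw [← Functor.map_comp, ← Functor.map_comp, hq]))
    exact congrArg CommaMorphism.left this
  have : IsOpenImmersion q.left := Groth.Agent.S3694.result q.left
  exact (isIso_iff_isOpenImmersion_and_epi_base _).2 ⟨this, (TopCat.epi_iff_surjective _).2 hsurj.surj⟩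

/-- the flat neighbourhood: the local scheme of the chart at the point -/
noncomputable abbrev loc (U : Over S) (x : ↥U.left) : Over S := Over.mk (U.left.fromSpecStalk x ≫ U.hom)

noncomputable abbrev locι (U : Over S) (x : ↥U.left) : loc U x ⟶ U := Over.homMk (U.left.fromSpecStalk x) rfl

noncomputable abbrev locφ (a : (yon S).obj U ⟶ X) (x : ↥U.left) : (yon S).obj (loc U x) ⟶ X :=
  (yon S).map (locι U x) ≫ a

theorem isIso_loc (he : IsElemEtaleNbhd a x z) (hu : Points.ofPt a ⁻¹' {z} = {x}) {T P : Over S}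
    {g : (yon S).obj T ⟶ X} (hg : ∀ t, Points.ofPt g t = z) {p : P ⟶ loc U x} {q : P ⟶ T}
    (sq : IsPullback ((yon S).map p) ((yon S).map q) (locφ a x) g) : IsIso q.left := by
  obtain ⟨W, p₁, q₁, sq₁⟩ := K647.Idl.exists_prod (a := a) (b := g) he.etale.1
  have h1 : IsIso q₁.left := isIso_chart he hu hg sq₁
  have hW : ∀ w, p₁.left w = x := fun w => by
    have : p₁.left w ∈ Points.ofPt a ⁻¹' {z} := by
      change Points.ofPt a (p₁.left w) = z
      rw [← K647.Pts.ofPt_map, sq₁.w, K647.Pts.ofPt_map]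
      exact hg _
    rw [hu] at this
    exact this
  -- the upper square
  let r' : (yon S).obj P ⟶ (yon S).obj W := sq₁.lift ((yon S).map (p ≫ locι U x)) ((yon S).map q) (by
    rw [Functor.map_comp, Category.assoc]; exact sq.w)
  obtain ⟨r, hr⟩ := (yon S).map_surjective r'
  have e2 : r ≫ q₁ = q := (yon S).map_injective (by rw [Functor.map_comp, hr]; exact sq₁.lift_snd _ _ _)
  have e1 : r ≫ p₁ = p ≫ locι U x := (yon S).map_injective (by
    rw [Functor.map_comp, hr]; exact sq₁.lift_fst _ _ _)
  have sq₂ : IsPullback p r (locι U x) p₁ := by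
    have h2 : IsPullback ((yon S).map p) ((yon S).map r) ((yon S).map (locι U x)) ((yon S).map p₁) := by
      refine (IsPullback.of_right ?_ ?_ sq₁.flip).flip
      · rw [← Functor.map_comp, e2]
        exact sq.flip
      · rw [← Functor.map_comp, ← Functor.map_comp, e1]
    exact IsPullback.of_map (yon S) e1.symm h2
  have h3 : IsPullback p.left r.left (U.left.fromSpecStalk x) p₁.left := sq₂.map (Over.forget S)
  have h4 : IsIso r.left := isIso_snd_stalk _ x hW h3
  rw [← e2]
  exact inferInstanceAs (IsIso (r.left ≫ q₁.left))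

theorem flat_fromSpecStalk (X : Scheme.{u}) (x : X) : Flat (X.fromSpecStalk x) := by
  obtain ⟨_, ⟨U, hU, rfl⟩, hx, -⟩ :=
    X.isBasis_affineOpens.exists_subset_of_mem_open (Set.mem_univ x) isOpen_univ
  have h : Flat (Spec.map (X.presheaf.germ U x hx)) := by
    rw [Flat.SpecMap_iff]
    let _ : Algebra Γ(X, U) (X.presheaf.stalk x) := (X.presheaf.germ U x hx).hom.toAlgebra
    have := hU.isLocalization_stalk ⟨x, hx⟩
    exact IsLocalization.flat (X.presheaf.stalk x) (hU.primeIdealOf ⟨x, hx⟩).asIdeal.primeCompl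
  rw [← hU.fromSpecStalk_eq_fromSpecStalk hx]
  have : IsOpenImmersion hU.fromSpec := hU.isOpenImmersion_fromSpec
  have : Flat hU.fromSpec := inferInstance
  exact MorphismProperty.comp_mem @Flat _ _ h this

theorem repWith_flat_locφ (ha : RepWith @Etale a) : RepWith @Flat (locφ a x) := by
  have h1 : Flat (locι U x).left := flat_fromSpecStalk U.left x
  refine K647.Idl.repWith_comp ((repWith_yon_map_iff _ _).2 h1) ⟨ha.1, fun {_ _} _ _ snd sq => ?_⟩
  have : Etale snd.left := ha.2 _ _ _ sq
  exact inferInstanceAs (Flat snd.left)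

theorem ofPt_locφ (h : Points.ofPt a x = z) :
    Points.ofPt (locφ a x) (IsLocalRing.closedPoint (U.left.presheaf.stalk x)) = z := by
  rw [K647.Pts.ofPt_map, ← h]
  exact congrArg (Points.ofPt a) Scheme.fromSpecStalk_closedPoint

/-- every `Z ⟶ X` all of whose points lie over `z` pulls back isomorphically to the local scheme of the chart -/
theorem isIso_snd (he : IsElemEtaleNbhd a x z) (hu : Points.ofPt a ⁻¹' {z} = {x}) {Z P : Sp S} {i : Z ⟶ X}
    (hi : ∀ y, Points.map i y = z) {fst : P ⟶ (yon S).obj (loc U x)} {snd : P ⟶ Z}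
    (sq : IsPullback fst snd (locφ a x) i) : IsIso snd := by
  apply K640.FpqcIso.isIso_of_repWith
  have hr := repWith_flat_locφ (x := x) he.etale
  refine ⟨(K647.Idl.repWith_snd sq hr).1, fun {T P'} g fst' snd' sq' => ?_⟩
  obtain ⟨t, ht⟩ := (yon S).map_surjective (fst' ≫ fst)
  have sq2 := sq'.flip.paste_vert sq.flip
  have sq3 : IsPullback ((yon S).map t) ((yon S).map snd') (locφ a x) (g ≫ i) := by
    rw [ht]
    exact sq2.flip
  have h1 : IsIso snd'.left := isIso_loc he hu (fun y => by
    rw [← Points.map_ofPt]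
    exact hi _) sq3
  exact h1

end K626.ElemNbhd
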