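import Groth.Agent.AlgSp.K609.Sep
import Groth.Agent.AlgSp.K610.SchLocus
import Groth.Agent.AlgSp.K647.EtLoc
import Groth.Agent.S10248
import Groth.Agent.S0217

/-!
# Finite sets of points of codimension at most one of the schematic locus lie in an affine open
-/

set_option autoImplicit false
set_option backward.isDefEq.respectTransparency false
universe u

open CategoryTheory CategoryTheory.Limits AlgebraicGeometry Opposite TopologicalSpace

namespace K626.FinCodim1

open AlgSp

variable {S : Scheme.{u}}

/-- a scheme with a monomorphism into a separated space is separated over the base -/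
theorem isSeparated_hom {X : Sp S} (hX : IsSeparatedSp X) {H : Over S} (j : (yon S).obj H ⟶ X) [Mono j] :
    IsSeparated H.hom := by
  have h : IsPullback ((yon S).map (𝟙 H)) ((yon S).map (𝟙 H)) j j := by
    rw [CategoryTheory.Functor.map_id]
    exact IsKernelPair.id_of_mono j
  have h1 := K609.Diag.prop_of_repWith_diag @IsClosedImmersion hX h
  have e : pullback.lift (𝟙 H : H ⟶ H).left (𝟙 H : H ⟶ H).left ((Over.w (𝟙 H)).trans (Over.w (𝟙 H)).symm) =
      pullback.diagonal H.hom := by
    apply pullback.hom_ext <;> simp [pullback.diagonal]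
  rw [e] at h1
  exact ⟨h1⟩

theorem finite_irreducibleComponents {H : Scheme.{u}} [IsLocallyNoetherian H] (U : H.Opens)
    (hU : IsCompact (U : Set H)) : (irreducibleComponents (U : Set H)).Finite := by
  have : CompactSpace U := isCompact_iff_compactSpace.1 hU
  have : IsLocallyNoetherian (U : Scheme.{u}) := inferInstance
  have : IsNoetherian (U : Scheme.{u}) := { }
  exact TopologicalSpace.NoetherianSpace.finite_irreducibleComponents (α := U)

theorem main [S.IsSeparated] (X : Space S) (hsep : IsSeparatedSp X.obj) (hN : IsLocNoethSp X.obj)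
    (s : Finset (Points X.obj))
    (hs : ∀ x ∈ s, HasAt (fun U u => ringKrullDim ↥(U.presheaf.stalk u) ≤ 1) X.obj x)
    (hloc : ∀ x ∈ s, x ∈ K610.SchLocus.locus X) :
    ∃ (T : Over S) (j : (AlgSp.yon S).obj T ⟶ X.obj), IsAffine T.left ∧
      AlgSp.RepWith @IsOpenImmersion j ∧ ∀ x ∈ s, x ∈ Set.range (AlgSp.Points.ofPt j) := by
  classical
  obtain ⟨H, j, hj, hr⟩ := K610.SchLocus.isSch_locus X
  have hm : Mono j := K610.Factor.mono_of_isOpenImmersion hj
  have hHs : IsSeparated H.hom := isSeparated_hom hsep j
  have hH : H.left.IsSeparated := by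
    have : IsSeparated (H.hom ≫ terminal.from S) := inferInstance
    refine ⟨?_⟩
    convert this
    exact Subsingleton.elim _ _
  have hje : RepWith @Etale j := K610.OpenImm.repWith_etale_of_open hj
  have hHN : IsLocallyNoetherian H.left := K647.EtLoc.isLocallyNoetherian_chart hN hje
  have hex : ∀ x : s, ∃ h : H.left, Points.ofPt j h = x.1 := fun x => by
    have := hloc x.1 x.2
    rw [← hr] at this
    exact this
  choose h hh using hex
  let t : Finset H.left := Finset.univ.image h
  obtain ⟨U, hU, hU'⟩ := Groth.Agent.S0217.result H.left (fun U hU => finite_irreducibleComponents U hU) t (by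
    intro y hy
    simp only [t, Finset.mem_image, Finset.mem_univ, true_and] at hy
    obtain ⟨x, rfl⟩ := hy
    refine ⟨inferInstance, ?_⟩
    obtain ⟨U, a, u, ha, hu, hd⟩ := hs x.1 x.2
    have := (Groth.Agent.S10248.result X x.1 (ringKrullDim ↥(U.left.presheaf.stalk u))).1 ⟨U, a, u, ha, hu, rfl⟩
      H j (h x) hje (hh x)
    rw [this]
    exact hd)
  have : IsAffine (U : Scheme.{u}) := hU
  let i : Over.mk (U.ι ≫ H.hom) ⟶ H := Over.homMk U.ι rfl
  refine ⟨Over.mk (U.ι ≫ H.hom), (yon S).map i ≫ j, this, ?_, fun x hx => ?_⟩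
  · exact K647.Idl.repWith_comp ((repWith_yon_map_iff _ _).2 (show IsOpenImmersion U.ι from inferInstance)) hj
  · refine ⟨⟨h ⟨x, hx⟩, hU' _ (by simp [t])⟩, ?_⟩
    rw [K647.Pts.ofPt_map]
    exact hh ⟨x, hx⟩

end K626.FinCodim1
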