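import Groth.Agent.AlgSp.K626.GenOpen
import Groth.Agent.AlgSp.K617.FinLoc
import Groth.Agent.AlgSp.K613.Chart
import Groth.Agent.AlgSp.K623.Pts
import Groth.Agent.S10400
/-!
# Morphisms finite over a nonempty open
-/

set_option autoImplicit false
universe u
open CategoryTheory CategoryTheory.Limits AlgebraicGeometry Topology TopologicalSpace Opposite
open AlgSp

namespace K626.FinOpen

variable {S : Scheme.{u}}

/-- An open immersion has open range. -/
theorem isOpen_range {V Y : Sp S} {j : V ⟶ Y} (hj : RepWith @IsOpenImmersion j) :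
    IsOpen (Set.range (Points.map j)) :=
  (K623.Pts.isOpenMap_map_of_repWith_isOpenImmersion hj).isOpen_range

theorem mem_of_isOpen {Y : Sp S} {y : Points Y} (hy : IsGenericPoint y (Set.univ : Set (Points Y)))
    {s : Set (Points Y)} (hs : IsOpen s) (hne : s.Nonempty) : y ∈ s := by
  obtain ⟨z, hz⟩ := hne
  refine (specializes_iff_mem_closure.2 ?_ : y ⤳ z).mem_open hs hz
  rw [hy.def]
  trivial

/-- If `f` is finite over an open containing the generic point, then it is finite over an affine open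
containing the generic point. -/
theorem exists_affine_chart {X Y V X' : Space S} {f : X ⟶ Y} {j : V ⟶ Y} {fst : X' ⟶ V} {snd : X' ⟶ X}
    (hY : IsDecent Y.obj) (hj : RepWith @IsOpenImmersion j.hom)
    (sq : IsPullback fst.hom snd.hom j.hom f.hom) (hfin : IsFiniteMor fst.hom) {y : Points Y.obj}
    (hy : IsGenericPoint y (Set.univ : Set (Points Y.obj))) (hyr : y ∈ Set.range (Points.map j.hom)) :
    ∃ (V₀ : Over S) (b : (yon S).obj V₀ ⟶ Y.obj) (U : Over S) (g : U ⟶ V₀) (a : (yon S).obj U ⟶ X.obj),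
        IsAffine V₀.left ∧ y ∈ Set.range (Points.ofPt b) ∧ RepWith @IsOpenImmersion b ∧
          IsPullback a ((yon S).map g) f.hom b ∧ IsAffine U.left ∧ IsFinite g.left := by
  obtain ⟨V₁, b₁, v₁, hV₁, hb₁, hv₁⟩ := K626.GenOpen.exists_affine_open hY hy
  obtain ⟨R, i, r, sqR⟩ := hj.1 b₁
  have hi : IsOpenImmersion i.left := hj.2 _ _ i sqR
  obtain ⟨v', hv'⟩ := hyr
  obtain ⟨w, hw1, hw2⟩ := K621.Base.exists_point_of_isPullback' sqR v₁ v' (by rw [hv₁, hv'])
  obtain ⟨W, hwW, -, hW⟩ := K621.Base.exists_affine_openChart w ⊤ trivial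
  have hia : RepWith @IsOpenImmersion ((yon S).map i ≫ b₁) :=
    MorphismProperty.comp_mem (RepWith @IsOpenImmersion) _ _ ((repWith_yon_map_iff _ _).2 hi) hb₁
  have hb : RepWith @IsOpenImmersion (((yon S).map (K621.Base.openChartι R W) ≫ r) ≫ j.hom) := by
    rw [Category.assoc, sqR.w]
    exact K626.GenOpen.repWith_open_openChart hia W
  obtain ⟨U, g, q, sqU⟩ := (K617.FinLoc.isFiniteMor_iff.1 hfin).1
    ((yon S).map (K621.Base.openChartι R W) ≫ r)
  have hg : IsFinite g.left := (K617.FinLoc.isFiniteMor_iff.1 hfin).2 _ _ g sqU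
  have hVa : IsAffine (K621.Base.openChart R W).left := hW
  refine ⟨K621.Base.openChart R W, _, U, g, q ≫ snd.hom, hW, ?_, hb, sqU.paste_horiz sq.flip,
    isAffine_of_isAffineHom g.left, hg⟩
  refine ⟨⟨w, hwW⟩, ?_⟩
  rw [← Points.map_ofPt, K621.Base.ofPt_openChart r W ⟨w, hwW⟩, hw2, hv']

/-- If `x` is the only point over `y`, then `f` is finite over an open subspace containing `y`. -/
theorem exists_open_finite {X Y : Space S} (hXi : IsIntegralSp X.obj) (hYi : IsIntegralSp Y.obj)
    (f : X ⟶ Y) (hft : LocP @LocallyOfFiniteType f.hom) (hd : IsDominantMor f.hom)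
    {x : Points X.obj} (hx : IsGenericPoint x (Set.univ : Set (Points X.obj)))
    {y : Points Y.obj} (hy : IsGenericPoint y (Set.univ : Set (Points Y.obj)))
    (hqs : IsQuasiCompactMor f.hom ∨ IsSeparatedMor f.hom)
    (h : ∀ x' : Points X.obj, Points.map f.hom x' = y → x' = x) :
    ∃ (V X' : Space S) (j : V ⟶ Y) (fst : X' ⟶ V) (snd : X' ⟶ X), RepWith @IsOpenImmersion j.hom ∧
      y ∈ Set.range (Points.map j.hom) ∧ IsPullback fst.hom snd.hom j.hom f.hom ∧
      IsFiniteMor fst.hom := by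
  have hX := X.property
  have hY := Y.property
  have hxy := K626.IntSp.map_generic hY hYi.2.1 hd hx hy
  have e1 := fun x' : Points X.obj => K626.IntSp.codimZero_iff_eq_generic hX hXi.2.1 hx (x' := x')
  have e2 := fun y' : Points Y.obj => K626.IntSp.codimZero_iff_eq_generic hY hYi.2.1 hy (x' := y')
  obtain ⟨V, X', j, fst, snd, hj, hdense, sq, hfin⟩ := Groth.Agent.S10400.result f hft hYi.2.1
    ((Set.finite_singleton x).subset fun x' hx' => (e1 x').1 hx')
    ((Set.finite_singleton y).subset fun y' hy' => (e2 y').1 hy')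
    (fun x' => (e1 x').trans (Iff.trans ⟨fun hh => hh ▸ hxy, fun hh => h x' hh⟩
      (e2 (Points.map f.hom x')).symm)) hqs
  refine ⟨V, X', j, fst, snd, hj, mem_of_isOpen hy (isOpen_range hj) ?_, sq, hfin⟩
  have : Nonempty (Points Y.obj) := ⟨y⟩
  exact hdense.nonempty

theorem isFiniteMor_of_isPullback {X Y V P P' : Sp S} {f : X ⟶ Y} {j : V ⟶ Y} {fst : P ⟶ V}
    {snd : P ⟶ X} {fst' : P' ⟶ V} {snd' : P' ⟶ X} (sq : IsPullback fst snd j f)
    (sq' : IsPullback fst' snd' j f) (h : IsFiniteMor fst) : IsFiniteMor fst' := by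
  rw [K617.FinLoc.isFiniteMor_iff] at h ⊢
  have e : fst' = (sq'.isoIsPullback _ _ sq).hom ≫ fst := by simp
  rw [e]
  exact (MorphismProperty.cancel_left_of_respectsIso (RepWith @IsFinite) _ _).2 h

end K626.FinOpen
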