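import Groth.Agent.AlgSp.K626.HomMain
import Groth.Agent.AlgSp.K624.AnBC
import Groth.Agent.AlgSp.K632.DimOne

/-!
# Homogeneous spaces and group algebraic spaces over locally Noetherian bases of dimension at most one

Everything here is relative to Theorem B (`K622.AnDefs.ThmB`).
-/

set_option autoImplicit false
set_option backward.isDefEq.respectTransparency false
universe u

open CategoryTheory CategoryTheory.Limits AlgebraicGeometry Opposite TopologicalSpace
open MonoidalCategory CartesianMonoidalCategory MonObj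

namespace K626.GrpDim1

open AlgSp K622.AnDefs

variable {S : Scheme.{u}}

/-- finite sets of points of the base changes of a homogeneous space to semi-local Dedekind schemes -/
theorem inAffine_R (hB : ThmB.{u}) {G M : Over ((yon S).obj (Over.mk (𝟙 S)))} [GrpObj G] (act : GAction G M)
    (hG : IsAlgSpace G.left) (hGf : LocP @LocallyOfFiniteType G.hom)
    (hGs : IsSeparatedSp G.left ∨ G.left.obj.IsRepresentable) (hM : IsAlgSpace M.left)
    (hMf : LocP @LocallyOfFiniteType M.hom) (hMs : IsSeparatedSp M.left)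
    (he : Epi (lift act.act (snd G M)).left)
    (C : Type u) [CommRing C] [IsDedekindDomain C] [Finite (MaximalSpectrum C)] (g : Spec (CommRingCat.of C) ⟶ S)
    (E : Set (Points ((K595.ChBase.R g).obj M.left))) (hE : E.Finite) :
    K650.Sat.InAffine ((K595.ChBase.R g).obj M.left) E :=
  K626.HomMain.main (G := (K624.GrpBC.F g).obj G) (M := (K624.GrpBC.F g).obj M) (act := K624.GrpBC.gact g act) hB
    (K595.ChBase.isAlgSpace_R (g := g) hG) (K624.AnBC.locP_hom g K597.etLoc_lft hG hGf)
    (hGs.imp (fun h => K624.AnBC.isSeparatedSp_R g h) (fun h => K624.AnBC.isRepresentable_R g h))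
    (K595.ChBase.isAlgSpace_R (g := g) hM) (K624.AnBC.locP_hom g K597.etLoc_lft hM hMf)
    (K624.AnBC.isSeparatedSp_R g hMs) (K624.GrpBC.epi_lift_act g act he) E hE

/-- **Homogeneous spaces over bases of dimension at most one** are schemes, with property (FA). -/
theorem main (hB : ThmB.{u}) [IsLocallyNoetherian S] (hS : topologicalKrullDim ↥S ≤ 1)
    {G M : Over ((yon S).obj (Over.mk (𝟙 S)))} [GrpObj G] (act : GAction G M)
    (hG : IsAlgSpace G.left) (hGf : LocP @LocallyOfFiniteType G.hom)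
    (hGs : IsSeparatedSp G.left ∨ G.left.obj.IsRepresentable) (hM : IsAlgSpace M.left)
    (hMf : LocP @LocallyOfFiniteType M.hom) (hMs : IsSeparatedSp M.left)
    (he : Epi (lift act.act (snd G M)).left) :
    ∃ (Q : Over S) (_ : (yon S).obj Q ≅ M.left), ∀ (E : Set ↥Q.left), E.Finite →
      (∃ V : S.Opens, IsAffineOpen V ∧ E ⊆ (Q.hom ⁻¹ᵁ V : Set ↥Q.left)) →
        ∃ U : Q.left.Opens, IsAffineOpen U ∧ E ⊆ (U : Set ↥Q.left) := by
  refine K632.DimOne.main_R hS hM (K608.GrpSch.isQuasiSeparatedSp_of_isSeparatedSp hMs) ?_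
    (fun C _ _ _ g E hE => inAffine_R hB act hG hGf hGs hM hMf hMs he C g E hE)
  have : (K625.Prod.isTerminalBase S).from M.left = M.hom := (K625.Prod.isTerminalBase S).hom_ext _ _
  rw [this]
  exact hMf

/-- a group is a homogeneous space under itself -/
theorem epi_self (G : Over ((yon S).obj (Over.mk (𝟙 S)))) [GrpObj G] :
    Epi (lift (selfAct G).act (snd G G)).left := by
  have h1 : lift (fst G G / snd G G) (snd G G) ≫ lift μ[G] (snd G G) = 𝟙 (G ⊗ G) := by
    rw [comp_lift, ← Hom.mul_def, div_mul_cancel, lift_snd, lift_fst_snd]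
  have h2 : (lift (fst G G / snd G G) (snd G G)).left ≫ (lift μ[G] (snd G G)).left = 𝟙 _ :=
    congrArg (fun f => f.left) h1
  change Epi (lift μ[G] (snd G G)).left
  refine ⟨fun {Z} a b hab => ?_⟩
  rw [← Category.id_comp a, ← Category.id_comp b, ← h2, Category.assoc, Category.assoc, hab]

/-- local finite type from a chart -/
theorem locP_of_chart' {F : Sp S} (t : F ⟶ (yon S).obj (Over.mk (𝟙 S))) {U : Over S} {p : (yon S).obj U ⟶ F}
    (hp : RepWith @Etale p) (hps : RepWith @Surjective p) (hU : LocallyOfFiniteType U.hom) :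
    LocP @LocallyOfFiniteType t :=
  K597.locP_of_chart K597.etLoc_lft t p (𝟙 _)
    (Over.homMk U.hom (Category.comp_id _)) hp hps (repWith_id _ _) ((K596.QC2.isTerminalYon S).hom_ext _ _) hU

/-- **Group algebraic spaces over bases of dimension at most one.** -/
theorem grp (hB : ThmB.{u}) [IsLocallyNoetherian S] (hS : topologicalKrullDim ↥S ≤ 1)
    (G : Over ((yon S).obj (Over.mk (𝟙 S)))) [GrpObj G]
    (hG : IsAlgSpace G.left) (hGf : LocP @LocallyOfFiniteType G.hom) (hsep : IsSeparatedSp G.left) :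
    ∃ (Q : Over S) (_ : (yon S).obj Q ≅ G.left), ∀ (E : Set ↥Q.left), E.Finite →
      (∃ V : S.Opens, IsAffineOpen V ∧ E ⊆ (Q.hom ⁻¹ᵁ V : Set ↥Q.left)) →
        ∃ U : Q.left.Opens, IsAffineOpen U ∧ E ⊆ (U : Set ↥Q.left) :=
  main hB hS (selfAct G) hG hGf (Or.inl hsep) hG hGf hsep (epi_self G)

/-- S16026 relative to Theorem B -/
theorem s16026 (hB : ThmB.{u})
    (S : Scheme.{u}) [IsLocallyNoetherian S] (hS : topologicalKrullDim ↥S ≤ 1)
    (G : Over ((AlgSp.yon S).obj (Over.mk (𝟙 S)))) [GrpObj G]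
    (hG : AlgSp.IsAlgSpace G.left) (hsep : AlgSp.IsSeparatedSp G.left)
    (hpres : ∃ (Y : Over S) (p : (AlgSp.yon S).obj Y ⟶ G.left),
      AlgSp.RepWith @Etale p ∧ AlgSp.RepWith @Surjective p ∧ AlgSp.RepWith @QuasiCompact p ∧
        LocallyOfFinitePresentation Y.hom) :
    G.left.obj.IsRepresentable := by
  obtain ⟨Y, p, hp, hp', -, hY⟩ := hpres
  obtain ⟨Q, e, -⟩ := grp hB hS G hG (locP_of_chart' G.hom hp hp' inferInstance) hsep
  exact (K610.ZarGlue.isRepresentable_iff).2 ⟨Q, ⟨e⟩⟩

end K626.GrpDim1
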