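import Groth.Agent.AlgSp.K626.FqDed
import Groth.Agent.AlgSp.K626.GrpDim1
import Groth.Agent.AlgSp.K612.ArcUp
import Groth.Agent.AlgSp.K632.FqCover
import Groth.Agent.S10526
import Groth.Agent.S10535
import Groth.Agent.S10733

/-!
# Fpqc sheaves which become schemes: change of base and descent of properties

* `isFpqcSh_R` : the restriction of an fpqc sheaf to a scheme over the base is an fpqc sheaf.
* `exists_square_R` : restriction of the cartesian square.
* `isSeparatedSp`, `locP_lft` : fpqc descent of separatedness and of local finite type.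
* `isAlgSpace_R` : algebraicity over Dedekind schemes.
-/

set_option autoImplicit false
set_option backward.isDefEq.respectTransparency false
universe u
open CategoryTheory CategoryTheory.Limits AlgebraicGeometry Topology TopologicalSpace Opposite
open AlgSp

namespace K626.FqBase

open K628.Fqc K625.Prod K651.FpqcSh K595.ChBase K624.AnBC K612.ArcUp

section R

variable {S S' : Scheme.{u}} (g : S ⟶ S')

theorem fqC_map {T T' : Over S} {d : T' ⟶ T} (h : FqC d) : FqC ((Over.map g).map d) :=
  ⟨h.flat, h.qc, h.surj⟩

/-- The restriction of an fpqc sheaf is an fpqc sheaf. -/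
theorem isFpqcSh_R {X : Sp S'} (h : IsFpqcSh X) : IsFpqcSh ((R g).obj X) := by
  intro T T' d hd x hx
  obtain ⟨y, hy, hy'⟩ := h ((Over.map g).map d) (fqC_map g hd) (fl x) (by
    intro W a b hab
    have h1 : a.left ≫ T'.hom = b.left ≫ T'.hom := by
      rw [← Over.w d, ← Category.assoc, ← Category.assoc]
      congr 1
      exact congrArg (·.left) hab
    let W₀ : Over S := Over.mk (a.left ≫ T'.hom)
    let e : (Over.map g).obj W₀ ≅ W := Over.isoMk (Iso.refl _) (by
      have := Over.w a
      change 𝟙 _ ≫ W.hom = (a.left ≫ T'.hom) ≫ g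
      rw [Category.id_comp, ← this, Category.assoc]
      rfl)
    let a₀ : W₀ ⟶ T' := Over.homMk a.left rfl
    let b₀ : W₀ ⟶ T' := Over.homMk b.left h1.symm
    have ha : e.hom ≫ a = (Over.map g).map a₀ := by
      ext1
      exact Category.id_comp _
    have hb : e.hom ≫ b = (Over.map g).map b₀ := by
      ext1
      exact Category.id_comp _
    rw [← cancel_epi ((yon S').map e.hom), ← Category.assoc, ← Category.assoc, ← Functor.map_comp, ← Functor.map_comp,
      ha, hb, ← fl_pre, ← fl_pre]
    congr 1
    refine hx W₀ a₀ b₀ ?_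
    ext1
    exact congrArg (·.left) hab)
  refine ⟨sh y, ?_, fun z hz => ?_⟩
  · apply fl_injective
    rw [fl_pre, fl_sh]
    exact hy
  · apply fl_injective
    rw [fl_sh]
    refine hy' _ ?_
    dsimp only
    rw [← fl_pre]
    congr 1

/-- Restriction of the cartesian square. -/
theorem exists_square_R {G : Sp S'} {T X' : Over S'} {q : X' ⟶ T} {p : (yon S').obj X' ⟶ G}
    (sq : IsPullback p ((yon S').map q) ((isTerminalBase S').from G) ((yon S').map (toBase T))) :
    ∃ (q' : Over.mk (pullback.snd X'.hom g) ⟶ Over.mk (pullback.snd T.hom g))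
      (p' : (yon S).obj (Over.mk (pullback.snd X'.hom g)) ⟶ (R g).obj G),
      IsPullback p' ((yon S).map q') ((isTerminalBase S).from ((R g).obj G)) ((yon S).map (toBase _)) ∧
      ∀ (P : MorphismProperty Scheme.{u}) [P.IsStableUnderBaseChange], P q.left → P q'.left := by
  obtain ⟨q', hq'⟩ := (yon S).map_surjective
    ((yonIsoR (g := g) X').hom ≫ (R g).map ((yon S').map q) ≫ (yonIsoR (g := g) T).inv)
  have sq1 := sq.map (R g)
  refine ⟨q', (yonIsoR (g := g) X').hom ≫ (R g).map p, ?_, fun P _ hP => ?_⟩
  · refine IsPullback.of_iso sq1 (yonIsoR (g := g) X').symm (Iso.refl _) (yonIsoR (g := g) T).symm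
      (K624.GrpBC.ptIso g) ?_ ?_ ?_ ?_
    · simp
    · rw [hq']
      simp
    · exact (isTerminalBase S).hom_ext _ _
    · exact (isTerminalBase S).hom_ext _ _
  · have h1 : RepWith P ((R g).map ((yon S').map q)) := repWith_R (g := g) ((repWith_yon_map_iff _ _).2 hP)
    have h2 : RepWith P ((yon S).map q') := by
      rw [hq']
      exact K606.RepWithBasic.precomp_iso _ (K606.RepWithBasic.postcomp_iso (yonIsoR (g := g) T).symm h1)
    exact (repWith_yon_map_iff _ _).1 h2

end R

section Desc

variable {S : Scheme.{u}} {G : Sp S} {T X' : Over S} [Flat T.hom] [Surjective T.hom] [QuasiCompact T.hom] {q : X' ⟶ T}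
  {p : (yon S).obj X' ⟶ G}

/-- A faithfully flat quasi-compact scheme over the base is an fpqc covering of the final object. -/
theorem isFpqcCover (T : Over S) [Flat T.hom] [Surjective T.hom] [QuasiCompact T.hom] :
    IsFpqcCover (S := S) (X := (yon S).obj (Over.mk (𝟙 S))) (fun _ : PUnit.{u + 1} => (yon S).obj T)
      (fun _ => (yon S).map (toBase T)) := by
  refine ⟨fun _ => K597.locP_of_repWith K597.etLoc_flat.precomp
    ((repWith_yon_map_iff _ _).2 (inferInstanceAs (Flat T.hom))), fun Z hZ h => ?_⟩
  obtain ⟨Z', c, t, hZ', hc⟩ := K632.Fq.exists_affine_cover hZ T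
  refine ⟨1, fun _ => Z', fun _ => c, fun _ => hZ', fun _ => hc.flat, fun z => ⟨0, ?_⟩,
    fun _ => ⟨PUnit.unit, (yon S).map t, (isTerminalBase S).hom_ext _ _⟩⟩
  have := hc.surj
  exact c.left.surjective z

/-- Fpqc descent of separatedness. -/
theorem isSeparatedSp (hG : IsAlgSpace G) [IsSeparated q.left]
    (sq : IsPullback p ((yon S).map q) ((isTerminalBase S).from G) ((yon S).map (toBase T))) : IsSeparatedSp G := by
  refine Groth.Agent.S10733.isSeparatedSp ((isTerminalBase S).from G) ?_
  exact (Groth.Agent.S10535.result S (fun _ => (yon S).obj T) (fun _ => (yon S).map (toBase T))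
    (IsAlgSpace.yon_obj _) (fun _ => IsAlgSpace.yon_obj _) (isFpqcCover T) _ hG (fun _ => (yon S).obj X')
    (fun _ => (yon S).map q) (fun _ => p) (fun _ => IsAlgSpace.yon_obj _) (fun _ => sq)).2
      fun _ => (isSeparatedMor_yon_map_iff q).2 inferInstance

/-- Fpqc descent of local finite type. -/
theorem locP_lft (hG : IsAlgSpace G) [LocallyOfFiniteType q.left]
    (sq : IsPullback p ((yon S).map q) ((isTerminalBase S).from G) ((yon S).map (toBase T))) :
    LocP @LocallyOfFiniteType ((isTerminalBase S).from G) := by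
  exact (Groth.Agent.S10526.result S (fun _ => (yon S).obj T) (fun _ => (yon S).map (toBase T))
    (IsAlgSpace.yon_obj _) (fun _ => IsAlgSpace.yon_obj _) (isFpqcCover T) _ hG (fun _ => (yon S).obj X')
    (fun _ => (yon S).map q) (fun _ => p) (fun _ => IsAlgSpace.yon_obj _) (fun _ => sq)).2
      fun _ => K597.locP_of_repWith K597.etLoc_lft.precomp ((repWith_yon_map_iff _ _).2 inferInstance)

end Desc

section Ded

variable {S : Scheme.{u}} {G : Sp S} {T X' : Over S} [Flat T.hom] [Surjective T.hom] [QuasiCompact T.hom] {q : X' ⟶ T}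
  {p : (yon S).obj X' ⟶ G}

/-- **Fpqc sheaves which become schemes are algebraic spaces over Dedekind schemes.** -/
theorem isAlgSpace_R (hG : IsFpqcSh G) [LocallyOfFinitePresentation q.left] [QuasiSeparated q.left]
    (sq : IsPullback p ((yon S).map q) ((isTerminalBase S).from G) ((yon S).map (toBase T)))
    (C : Type u) [CommRing C] [IsDedekindDomain C] (g : Spec (CommRingCat.of C) ⟶ S) :
    IsAlgSpace ((R g).obj G) := by
  obtain ⟨q', p', sq', hP⟩ := exists_square_R g sq
  have h1 : LocallyOfFinitePresentation q'.left := hP @LocallyOfFinitePresentation inferInstance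
  have h2 : QuasiSeparated q'.left := hP @QuasiSeparated inferInstance
  have h3 : Flat (Over.mk (pullback.snd T.hom g)).hom := inferInstanceAs (Flat (pullback.snd T.hom g))
  have h4 : Surjective (Over.mk (pullback.snd T.hom g)).hom := inferInstanceAs (Surjective (pullback.snd T.hom g))
  have h5 : QuasiCompact (Over.mk (pullback.snd T.hom g)).hom :=
    inferInstanceAs (QuasiCompact (pullback.snd T.hom g))
  exact K626.FqDed.isAlgSpace (isFpqcSh_R g hG) sq'

/-- Separatedness of the restriction. -/
theorem isSeparatedSp_R (hG : IsFpqcSh G) [LocallyOfFinitePresentation q.left] [IsSeparated q.left]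
    (sq : IsPullback p ((yon S).map q) ((isTerminalBase S).from G) ((yon S).map (toBase T)))
    (C : Type u) [CommRing C] [IsDedekindDomain C] (g : Spec (CommRingCat.of C) ⟶ S) :
    IsSeparatedSp ((R g).obj G) ∧ LocP @LocallyOfFiniteType ((isTerminalBase _).from ((R g).obj G)) := by
  have ha := isAlgSpace_R hG sq C g
  obtain ⟨q', p', sq', hP⟩ := exists_square_R g sq
  have h1 : LocallyOfFiniteType q'.left := hP @LocallyOfFiniteType inferInstance
  have h2 : IsSeparated q'.left := hP @IsSeparated inferInstance
  have h3 : Flat (Over.mk (pullback.snd T.hom g)).hom := inferInstanceAs (Flat (pullback.snd T.hom g))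
  have h4 : Surjective (Over.mk (pullback.snd T.hom g)).hom := inferInstanceAs (Surjective (pullback.snd T.hom g))
  have h5 : QuasiCompact (Over.mk (pullback.snd T.hom g)).hom :=
    inferInstanceAs (QuasiCompact (pullback.snd T.hom g))
  exact ⟨isSeparatedSp ha sq', locP_lft ha sq'⟩

end Ded

end K626.FqBase
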