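import Groth.Agent.AlgSp.K634.FpqcAff
import Groth.Agent.AlgSp.K609.FppfDesc
import Groth.Agent.AlgSp.K632.FqCover
import Groth.Agent.Cons9.K119.FgIso
import Groth.Agent.S10103

/-!
# Fpqc sheaves over a Dedekind domain which become schemes are algebraic spaces

Let `A` be a Dedekind domain (a field is allowed) and `G` an fpqc sheaf over `Spec A` which becomes a quasi-separated
scheme locally of finite presentation after a faithfully flat quasi-compact base change. Then `G` is an algebraic space.
-/

set_option autoImplicit false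
universe u
open CategoryTheory CategoryTheory.Limits AlgebraicGeometry Topology TopologicalSpace Opposite
open AlgSp

namespace K626.FqDed

open K628.Fqc K625.Prod K651.FpqcSh K613.Basic K634.FpqcOpn K634.FpqcAff K119.FgIso Groth.Agent.Etcore.FGLim

section FgSys

variable (A B : Type u) [CommRing A] [CommRing B] [Algebra A B]

/-- The system of the spectra of the finitely generated subalgebras over `Spec A`. -/
noncomputable def D : (FGSub A B)ᵒᵖ ⥤ Over (Spec (CommRingCat.of A)) where
  obj j := Over.mk (fgT A B j)
  map {i j} φ := Over.homMk ((fgD A B).map φ) (fgD_map_fgT A B φ)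
  map_id i := by
    ext1
    exact (fgD A B).map_id i
  map_comp φ ψ := by
    ext1
    exact (fgD A B).map_comp φ ψ

/-- The cone with vertex `Spec B`. -/
noncomputable def cone : Cone (D A B) where
  pt := spec A B
  π :=
    { app := fun j => Over.homMk ((fgC A B).π.app j) (fgC_π_fgT A B j)
      naturality := fun i j φ => by
        ext1
        exact (fgC A B).π.naturality φ }

/-- `Spec B` is the limit. -/
noncomputable def isLimitCone : IsLimit ((Over.forget _).mapCone (cone A B)) := isLimitFgC A B

theorem isAffine_D (j : (FGSub A B)ᵒᵖ) : IsAffine ((D A B).obj j).left :=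
  inferInstanceAs (IsAffine (Spec (CommRingCat.of j.unop.1)))

end FgSys

section OpnIm

variable {S : Scheme.{u}} {G : Sp S} {Z D Y : Over S} {f : G ⟶ (yon S).obj Z} {t : D ⟶ Z} {y : (yon S).obj Y ⟶ G}
  {r : Y ⟶ D}

/-- An open subsheaf of `G ×_Z D` is a chart of `G` with the properties of `D ⟶ Z`. -/
theorem repWith_of_opnIm {P : MorphismProperty Scheme.{u}} [P.IsStableUnderComposition] [P.IsStableUnderBaseChange]
    (hP : ∀ ⦃X Y : Scheme.{u}⦄ (j : X ⟶ Y), IsOpenImmersion j → P j) (h : OpnIm f t y r) (ht : P t.left) :
    RepWith P y := by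
  obtain ⟨Q, a, b, l, sq, h1, h2, h3⟩ := h
  rw [← h1]
  exact MorphismProperty.comp_mem (RepWith P) _ _ (K606.RepWithBasic.mono hP h3)
    (MorphismProperty.of_isPullback sq.flip ((repWith_yon_map_iff _ _).2 ht))

end OpnIm

section Flat

variable {A : Type u} [CommRing A] [IsDedekindDomain A] {B : Type u} [CommRing B] [Algebra A B] [Module.Flat A B]

theorem flat_D (j : (FGSub A B)ᵒᵖ) : Flat (toBase ((D A B).obj j)).left := by
  have h1 : Module.Flat A j.unop.1 := inferInstance
  change Flat (Spec.map (CommRingCat.ofHom (algebraMap A j.unop.1)))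
  rw [HasRingHomProperty.Spec_iff (P := @Flat)]
  exact RingHom.flat_algebraMap_iff.2 h1

omit [Module.Flat A B] in
theorem lfp_D (j : (FGSub A B)ᵒᵖ) : LocallyOfFinitePresentation (toBase ((D A B).obj j)).left := by
  have h0 : Algebra.FiniteType A j.unop.1 := (Subalgebra.fg_iff_finiteType j.unop.1).1 j.unop.2
  have h1 : Algebra.FinitePresentation A j.unop.1 := Algebra.FinitePresentation.of_finiteType.1 h0
  change LocallyOfFinitePresentation (Spec.map (CommRingCat.ofHom (algebraMap A j.unop.1)))
  rw [HasRingHomProperty.Spec_iff (P := @LocallyOfFinitePresentation)]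
  exact RingHom.finitePresentation_algebraMap.2 h1

end Flat

section Main

variable {A : Type u} [CommRing A] {G : Sp (Spec (CommRingCat.of A))} {B : Type u} [CommRing B] [Algebra A B]

/-- Every affine open of the scheme over `B` comes from an open subsheaf over a finitely generated subalgebra. -/
theorem exists_chart (hG : IsFpqcSh G) {X' : Over (Spec (CommRingCat.of A))} {q : X' ⟶ spec A B}
    [LocallyOfFinitePresentation q.left] [QuasiSeparated q.left] {p : (yon _).obj X' ⟶ G}
    (hc : FqC (toBase (spec A B)))
    (sq : IsPullback p ((yon _).map q) ((isTerminalBase _).from G) ((yon _).map (toBase (spec A B))))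
    (U : X'.left.Opens) (hU : IsAffineOpen U) :
    ∃ (j : (FGSub A B)ᵒᵖ) (Y : Over (Spec (CommRingCat.of A))) (y : (yon _).obj Y ⟶ G) (r : Y ⟶ (D A B).obj j)
      (ρ : opnObj U ⟶ Y), OpnIm ((isTerminalBase _).from G) (toBase ((D A B).obj j)) y r ∧
        (yon _).map ρ ≫ y = (yon _).map (opnInc U) ≫ p := by
  have hU' : IsAffine (opnObj U).left := hU
  have haff : IsAffineHom (toBase (spec A B)).left :=
    inferInstanceAs (IsAffineHom (Spec.map (CommRingCat.ofHom (algebraMap A B))))
  have hB : IsAffine (cone A B).pt.left := inferInstanceAs (IsAffine (Spec (CommRingCat.of B)))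
  have hB' : IsAffine (spec A B).left := hB
  have h1 : IsOpenImmersion (opnInc U).left := inferInstanceAs (IsOpenImmersion U.ι)
  let q' : opnObj U ⟶ (cone A B).pt := opnInc U ≫ q
  have h2 : LocallyOfFinitePresentation q'.left := inferInstanceAs (LocallyOfFinitePresentation ((opnInc U).left ≫ q.left))
  have h3 : IsAffineHom q'.left := inferInstance
  let i₀ : (FGSub A B)ᵒᵖ := Opposite.op ⊥
  have h4 : (cone A B).π.app i₀ ≫ toBase ((D A B).obj i₀) = toBase (cone A B).pt := toBase_ext _ _
  have h5 : OpnIm ((isTerminalBase _).from G) ((cone A B).π.app i₀ ≫ toBase ((D A B).obj i₀))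
      ((yon _).map (opnInc U) ≫ p) q' := by
    rw [h4]
    exact OpnIm.of_scheme sq (opnInc U) h1
  obtain ⟨j, φ, Y, y, r, ρ, k1, k2, k3, -⟩ := exists_opn (D A B) (cone A B) hG hc haff sq (isLimitCone A B)
    (isAffine_D A B) i₀ (toBase _) h5
  have h6 : (D A B).map φ ≫ toBase ((D A B).obj i₀) = toBase ((D A B).obj j) := toBase_ext _ _
  rw [h6] at k1
  exact ⟨j, Y, y, r, ρ, k1, k3⟩

/-- **Fpqc sheaves over a Dedekind domain which become schemes are algebraic spaces.** -/
theorem isAlgSpace [IsDedekindDomain A] (hG : IsFpqcSh G) {T X' : Over (Spec (CommRingCat.of A))} [Flat T.hom]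
    [Surjective T.hom] [QuasiCompact T.hom] {q : X' ⟶ T} [LocallyOfFinitePresentation q.left] [QuasiSeparated q.left]
    {p : (yon _).obj X' ⟶ G}
    (sq : IsPullback p ((yon _).map q) ((isTerminalBase _).from G) ((yon _).map (toBase T))) : IsAlgSpace G := by
  obtain ⟨B, _, _, t, hBf, hBs, hc, haff, sq'⟩ := exists_square sq
  have hl : IsPullback (pullback.fst q t).left (pullback.snd q t).left q.left t.left :=
    (IsPullback.of_hasPullback q t).map (Over.forget _)
  have h1 : LocallyOfFinitePresentation (pullback.snd q t).left :=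
    MorphismProperty.of_isPullback (P := @LocallyOfFinitePresentation) hl inferInstance
  have h2 : QuasiSeparated (pullback.snd q t).left :=
    MorphismProperty.of_isPullback (P := @QuasiSeparated) hl inferInstance
  choose j Y y r ρ k1 k2 using fun U : (pullback q t).left.affineOpens => exists_chart hG hc sq' U.1 U.2
  refine K609.FppfDesc.isAlgSpace_of_repWith_family
    (fun S R U s t h _ _ _ _ => Groth.Agent.S10103.result S s t h) y (fun U => ?_) (fun U => ?_) fun x => ?_
  · exact repWith_of_opnIm (fun _ _ j hj => by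
      have := hj
      infer_instance) (k1 U) (flat_D _)
  · exact repWith_of_opnIm (fun _ _ j hj => by
      have := hj
      infer_instance) (k1 U) (lfp_D _)
  · have hs : Surjective (spec A B).hom := hc.surj
    obtain ⟨t', ht'⟩ := K632.Fq.surjective_map_toBase (spec A B) (Points.map ((isTerminalBase _).from G) x)
    obtain ⟨z, hz, -⟩ := K647.Pts.exists_point sq' x t' ht'.symm
    obtain ⟨x', rfl⟩ := K647.Pts.exists_ofPt z
    obtain ⟨U, hU, hxU, -⟩ := exists_isAffineOpen_mem_and_subset (U := ⊤) (show x' ∈ (⊤ : (pullback q t).left.Opens) from trivial)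
    let u : (opnObj U).left := (⟨x', hxU⟩ : U)
    have hu : (opnInc U).left u = x' := rfl
    refine ⟨⟨U, hU⟩, Points.map ((yon _).map (ρ ⟨U, hU⟩)) (Points.ofScheme (opnObj U) u), ?_⟩
    rw [← Points.map_comp, k2, Points.map_comp, K609.Points.map_yon_map_ofScheme, hu]
    exact hz

end Main

end K626.FqDed
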