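import Groth.Agent.AlgSp.K626.FqBase
import Groth.Agent.AlgSp.K632.FqHom

/-!
# The Dedekind case in the form used by the assembly
-/

set_option autoImplicit false
universe u
open CategoryTheory CategoryTheory.Limits AlgebraicGeometry
open AlgSp

namespace K626.FqBase

theorem fqR (S : Scheme.{u}) : K632.FqHom.FqR S := by
  intro C _ _ g X hX T X' _ _ _ q _ _ p sq
  exact ⟨isAlgSpace_R hX sq C g, isSeparatedSp_R hX sq C g⟩

end K626.FqBase
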