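import Groth.Agent.AlgSp.K609.Points
import Groth.Prelude.Def_AlgSpDec
import Groth.Prelude.Def_AlgSpOX
import Mathlib.AlgebraicGeometry.Morphisms.Flat

/-!
# Global functions on an algebraic space: values on charts, non-vanishing locus, gluing
-/

set_option autoImplicit false
set_option backward.isDefEq.respectTransparency false

universe u

open CategoryTheory CategoryTheory.Limits AlgebraicGeometry Opposite AlgSp

namespace K626.GammaDom

variable {S : Scheme.{u}} {X : Sp S}

/-- The restriction of a global function of `X` to an object of the small etale site. -/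
noncomputable def ev (E : EtOver X) : ↥(gsectEt (OEt X)) →+* Γ(E.obj.left.left, ⊤) :=
  (ULift.ringEquiv (R := Γ(E.obj.left.left, ⊤))).toRingHom.comp (limit.π (OEt X).obj (op E)).hom

theorem ev_def (E : EtOver X) (f : ↥(gsectEt (OEt X))) :
    ev E f = ((limit.π (OEt X).obj (op E)).hom f).down := rfl

theorem ev_map {E E' : EtOver X} (g : E ⟶ E') (f : ↥(gsectEt (OEt X))) :
    g.hom.left.left.appTop.hom (ev E' f) = ev E f := by
  have h := congrArg (fun k => k.hom f) (limit.w (OEt X).obj g.op)
  have h' : (limit.π (OEt X).obj (op E)).hom f =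
      (OEt X).obj.map g.op ((limit.π (OEt X).obj (op E')).hom f) := h.symm
  rw [ev_def, ev_def, h', OEt_map]

theorem ev_ext {f g : ↥(gsectEt (OEt X))} (h : ∀ E : EtOver X, ev E f = ev E g) : f = g := by
  apply Concrete.limit_ext
  intro E
  exact ULift.down_injective (h E.unop)

theorem exists_of_compat (s : ∀ E : EtOver X, Γ(E.obj.left.left, ⊤))
    (h : ∀ ⦃E E' : EtOver X⦄ (g : E ⟶ E'), g.hom.left.left.appTop.hom (s E') = s E) :
    ∃ f : ↥(gsectEt (OEt X)), ∀ E, ev E f = s E := by
  let x : ((OEt X).obj ⋙ forget CommRingCat).sections :=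
    ⟨fun E => ULift.up (s E.unop), fun {E E'} g => by
      have := OEt_map g.unop (ULift.up (s E.unop))
      change (OEt X).obj.map g (ULift.up (s E.unop)) = ULift.up (s E'.unop)
      rw [show g = g.unop.op from rfl, this]
      congr 1
      exact h g.unop⟩
  let y := (Types.limitEquivSections _).symm x
  let z := (preservesLimitIso (forget CommRingCat) (OEt X).obj).inv y
  refine ⟨z, fun E => ?_⟩
  rw [ev_def]
  have h1 : (forget CommRingCat).map (limit.π (OEt X).obj (op E)) z =
      limit.π ((OEt X).obj ⋙ forget CommRingCat) (op E) y := by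
    have := congrArg (fun k => k y) (preservesLimitIso_inv_π (forget CommRingCat) (OEt X).obj (op E))
    exact this
  have h2 : limit.π ((OEt X).obj ⋙ forget CommRingCat) (op E) y = ULift.up (s E) :=
    Types.limitEquivSections_symm_apply _ _ _
  have h3 : (limit.π (OEt X).obj (op E)).hom z = ULift.up (s E) := h1.trans h2
  rw [h3]

/-- The non-vanishing locus of a global function. -/
def D (f : ↥(gsectEt (OEt X))) : Set (Points X) :=
  {x | ∃ (E : EtOver X) (u : ↥E.obj.left.left), Points.ofPt E.obj.hom u = x ∧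
    u ∈ E.obj.left.left.basicOpen (ev E f)}

theorem mem_basicOpen_map {E E' : EtOver X} (g : E ⟶ E') (f : ↥(gsectEt (OEt X))) (u : ↥E.obj.left.left) :
    g.hom.left.left u ∈ E'.obj.left.left.basicOpen (ev E' f) ↔ u ∈ E.obj.left.left.basicOpen (ev E f) := by
  have h := Scheme.preimage_basicOpen g.hom.left.left (ev E' f)
  have h' : g.hom.left.left ⁻¹ᵁ E'.obj.left.left.basicOpen (ev E' f) =
      E.obj.left.left.basicOpen (ev E f) := by
    rw [h]
    congr 1
    exact ev_map g f
  rw [← h']
  rfl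

theorem ofPt_mem_D_iff (E : EtOver X) (f : ↥(gsectEt (OEt X))) (u : ↥E.obj.left.left) :
    Points.ofPt E.obj.hom u ∈ D f ↔ u ∈ E.obj.left.left.basicOpen (ev E f) := by
  constructor
  · rintro ⟨E', u', he, hu'⟩
    obtain ⟨fst', hfst'⟩ := (yon S).map_surjective (E'.property.1.fst E.obj.hom)
    have sq := E'.property.1.isPullback E.obj.hom
    rw [← hfst'] at sq
    obtain ⟨r, hr1, hr2⟩ := (K609.Points.ofPt_eq_ofPt_iff sq u' u).1 he
    have h1 := mem_basicOpen_map (EtOver.prodFst E E') f r
    have h2 := mem_basicOpen_map (EtOver.prodSnd E E') f r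
    have h3 : (EtOver.prodSnd E E').hom.left = fst' := (yon S).map_injective (by
      rw [hfst']
      exact Functor.relativelyRepresentable.map_fst' _ _)
    have h4 : (EtOver.prodSnd E E').hom.left.left r = u' := by
      rw [h3]
      exact hr1
    rw [← hr2]
    exact h1.2 (h2.1 (h4.symm ▸ hu'))
  · intro h
    exact ⟨E, u, rfl, h⟩

theorem isOpen_D (f : ↥(gsectEt (OEt X))) : IsOpen (D f) := by
  have : D f = ⋃ E : EtOver X, Points.ofPt E.obj.hom '' (E.obj.left.left.basicOpen (ev E f) : Set _) := by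
    ext x
    simp only [D, Set.mem_ofPred_eq, Set.mem_iUnion, Set.mem_image]
    constructor
    · rintro ⟨E, u, h1, h2⟩
      exact ⟨E, u, h2, h1⟩
    · rintro ⟨E, u, h1, h2⟩
      exact ⟨E, u, h2, h1⟩
  rw [this]
  refine isOpen_iUnion fun E => ?_
  exact K609.Points.isOpenMap_ofPt E.property _ (E.obj.left.left.basicOpen (ev E f)).isOpen

theorem D_mul (f g : ↥(gsectEt (OEt X))) : D (f * g) = D f ∩ D g := by
  ext x
  constructor
  · rintro ⟨E, u, rfl, hu⟩
    rw [map_mul, Scheme.basicOpen_mul] at hu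
    exact ⟨⟨E, u, rfl, hu.1⟩, ⟨E, u, rfl, hu.2⟩⟩
  · rintro ⟨⟨E, u, rfl, hu⟩, h2⟩
    rw [ofPt_mem_D_iff] at h2
    refine ⟨E, u, rfl, ?_⟩
    rw [map_mul, Scheme.basicOpen_mul]
    exact ⟨hu, h2⟩

theorem D_zero : D (0 : ↥(gsectEt (OEt X))) = ∅ := by
  ext x
  simp only [Set.mem_empty_iff_false, iff_false]
  rintro ⟨E, u, rfl, hu⟩
  rw [map_zero, Scheme.basicOpen_zero] at hu
  exact hu

theorem D_one (hX : IsAlgSpace X) : D (1 : ↥(gsectEt (OEt X))) = Set.univ := by
  obtain ⟨U, p, hp, hps⟩ := hX.atlas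
  refine Set.eq_univ_of_forall fun x => ?_
  obtain ⟨u, rfl⟩ := K609.Points.surjective_ofPt_of_repWith_surjective hps x
  refine ⟨EtOver.mk p hp, u, rfl, ?_⟩
  rw [map_one, Scheme.basicOpen_one]
  trivial

/-- An epimorphism of schemes is injective on global functions. -/
theorem appTop_injective {X Y : Scheme.{u}} (f : X ⟶ Y) [Epi f] :
    Function.Injective f.appTop.hom := by
  have hm : Mono f.appTop := by
    constructor
    intro T α β h
    have h1 : f ≫ Y.toSpecΓ ≫ Spec.map α = f ≫ Y.toSpecΓ ≫ Spec.map β := by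
      rw [Scheme.toSpecΓ_naturality_assoc, Scheme.toSpecΓ_naturality_assoc, ← Spec.map_comp,
        ← Spec.map_comp, h]
    rw [cancel_epi] at h1
    have h2 := congrArg (fun q => q.appTop) h1
    simp only [Scheme.Hom.comp_appTop, Scheme.toSpecΓ_appTop] at h2
    rw [cancel_mono] at h2
    have h3 := Scheme.ΓSpecIso_naturality α
    have h4 := Scheme.ΓSpecIso_naturality β
    have h5 : (Scheme.ΓSpecIso T).inv ≫ (Scheme.ΓSpecIso T).hom ≫ α = (Scheme.ΓSpecIso T).inv ≫ (Scheme.ΓSpecIso T).hom ≫ β := by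
      rw [← h3, ← h4, h2]
    simpa using h5
  exact (ConcreteCategory.mono_iff_injective_of_preservesPullback _).1 hm

/-- A global function vanishing on one etale surjective chart is zero. -/
theorem eq_of_ev_eq {U : Over S} {p : (yon S).obj U ⟶ X} (hp : RepWith @Etale p) (hps : RepWith @Surjective p)
    {f g : ↥(gsectEt (OEt X))} (h : ev (EtOver.mk p hp) f = ev (EtOver.mk p hp) g) : f = g := by
  refine ev_ext fun E => ?_
  have hs : Surjective (EtOver.prodFst E (EtOver.mk p hp)).hom.left.left :=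
    hps.2 E.obj.hom _ _ ((EtOver.mk p hp).property.1.isPullback E.obj.hom)
  have he : Etale (EtOver.prodFst E (EtOver.mk p hp)).hom.left.left := EtOver.etale_left _
  have : Epi (EtOver.prodFst E (EtOver.mk p hp)).hom.left.left := Flat.epi_of_flat_of_surjective _
  apply appTop_injective (EtOver.prodFst E (EtOver.mk p hp)).hom.left.left
  rw [ev_map, ev_map, ← ev_map (EtOver.prodSnd E (EtOver.mk p hp)), ← ev_map (EtOver.prodSnd E (EtOver.mk p hp)), h]

theorem eq_zero_of_D_eq_empty {U : Over S} {p : (yon S).obj U ⟶ X} (hp : RepWith @Etale p)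
    (hps : RepWith @Surjective p) [IsReduced U.left] {f : ↥(gsectEt (OEt X))} (h : D f = ∅) : f = 0 := by
  refine eq_of_ev_eq hp hps ?_
  rw [map_zero]
  refine (AlgebraicGeometry.basicOpen_eq_bot_iff (X := U.left) _).1 ?_
  rw [eq_bot_iff]
  intro u hu
  have : Points.ofPt p u ∈ D f := ⟨EtOver.mk p hp, u, rfl, hu⟩
  rw [h] at this
  exact this

theorem isDomain_of_irreducible (hX : IsAlgSpace X) (hred : EtaleLocally (fun U => IsReduced U) X)
    [IrreducibleSpace (Points X)] : IsDomain ↥(gsectEt (OEt X)) := by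
  obtain ⟨U, p, hp, hps, hU⟩ := hred
  have hnt : Nontrivial ↥(gsectEt (OEt X)) := by
    refine ⟨0, 1, fun h => ?_⟩
    have h1 := D_one hX
    rw [← h, D_zero] at h1
    obtain ⟨x⟩ : Nonempty (Points X) := inferInstance
    exact Set.empty_ne_univ h1
  have hnz : NoZeroDivisors ↥(gsectEt (OEt X)) := by
    refine ⟨fun {f g} hfg => ?_⟩
    by_contra hcon
    rw [not_or] at hcon
    have h1 : (D f).Nonempty := Set.nonempty_iff_ne_empty.2 fun h => hcon.1 (eq_zero_of_D_eq_empty hp hps h)
    have h2 : (D g).Nonempty := Set.nonempty_iff_ne_empty.2 fun h => hcon.2 (eq_zero_of_D_eq_empty hp hps h)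
    have h3 := nonempty_preirreducible_inter (isOpen_D f) (isOpen_D g) h1 h2
    rw [← D_mul, hfg, D_zero] at h3
    exact Set.not_nonempty_empty h3
  exact NoZeroDivisors.to_isDomain _

end K626.GammaDom
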