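import Groth.Agent.AlgSp.K626.GammaDom
import Mathlib.RingTheory.Polynomial.ScaleRoots
import Mathlib.RingTheory.Flat.TorsionFree
import Mathlib.RingTheory.IntegralClosure.IntegrallyClosed

/-!
# Quotients of global functions on a normal algebraic space
-/

set_option autoImplicit false
set_option backward.isDefEq.respectTransparency false

universe u

open CategoryTheory CategoryTheory.Limits AlgebraicGeometry Opposite AlgSp TopologicalSpace

namespace K626.GammaNorm

section Ring

open Polynomial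

theorem dvd_of_scaleRoots {A : Type*} [CommRing A] [IsDomain A] [IsIntegrallyClosed A] (P : A[X]) (hP : P.Monic)
    (a b : A) (hb : b ≠ 0) (h : (P.scaleRoots b).eval a = 0) : b ∣ a := by
  let L := FractionRing A
  have hb' : algebraMap A L b ≠ 0 := (FaithfulSMul.algebraMap_injective A L).ne hb |>.trans_eq (map_zero _)
  have h1 : algebraMap A L b * (algebraMap A L a / algebraMap A L b) = algebraMap A L a := by
    rw [mul_comm, div_mul_cancel₀ _ hb']
  have h2 : eval₂ (algebraMap A L) (algebraMap A L a) (P.scaleRoots b) = 0 := by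
    rw [eval₂_at_apply, h, map_zero]
  rw [← h1, scaleRoots_eval₂_mul] at h2
  have h3 : eval₂ (algebraMap A L) (algebraMap A L a / algebraMap A L b) P = 0 :=
    (mul_eq_zero.1 h2).resolve_left (pow_ne_zero _ hb')
  have h4 : IsIntegral A (algebraMap A L a / algebraMap A L b) := ⟨P, hP, h3⟩
  obtain ⟨y, hy⟩ := IsIntegrallyClosed.isIntegral_iff.1 h4
  refine ⟨y, FaithfulSMul.algebraMap_injective A L ?_⟩
  rw [map_mul, hy, h1]

/-- A domain is integrally closed as soon as numerators of roots of monic polynomials are divisible by the denominators. -/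
theorem isIntegrallyClosed_of_scaleRoots {A : Type*} [CommRing A] [IsDomain A]
    (H : ∀ (P : A[X]), P.Monic → ∀ a b : A, b ≠ 0 → (P.scaleRoots b).eval a = 0 → b ∣ a) :
    IsIntegrallyClosed A := by
  rw [isIntegrallyClosed_iff (FractionRing A)]
  intro x hx
  obtain ⟨P, hP, hPx⟩ := hx
  obtain ⟨a, b, hb, rfl⟩ := IsFractionRing.div_surjective (A := A) x
  have hb0 : b ≠ 0 := nonZeroDivisors.ne_zero hb
  have h1 := scaleRoots_eval₂_eq_zero_of_eval₂_div_eq_zero (FaithfulSMul.algebraMap_injective A (FractionRing A)) hPx hb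
  rw [eval₂_at_apply] at h1
  have h2 := FaithfulSMul.algebraMap_injective A (FractionRing A) (h1.trans (map_zero _).symm)
  obtain ⟨c, rfl⟩ := H P hP a b hb0 h2
  refine ⟨c, ?_⟩
  have : algebraMap A (FractionRing A) b ≠ 0 :=
    (FaithfulSMul.algebraMap_injective A (FractionRing A)).ne hb0 |>.trans_eq (map_zero _)
  rw [map_mul]
  field_simp

end Ring

/-- All germs of the global function `b` are nonzerodivisors. -/
def Reg {Z : Scheme.{u}} (b : Γ(Z, ⊤)) : Prop :=
  ∀ z : Z, Z.presheaf.germ ⊤ z trivial b ∈ nonZeroDivisors (Z.presheaf.stalk z)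

theorem Reg.cancel {Z : Scheme.{u}} {b : Γ(Z, ⊤)} (hb : Reg b) {V : Z.Opens} {c c' : Γ(Z, V)}
    (h : Z.presheaf.map (homOfLE (le_top : V ≤ ⊤)).op b * c = Z.presheaf.map (homOfLE (le_top : V ≤ ⊤)).op b * c') :
    c = c' := by
  apply TopCat.Presheaf.section_ext Z.sheaf V
  intro z hz
  change Z.presheaf.germ V z hz c = Z.presheaf.germ V z hz c'
  have h1 := congrArg (Z.presheaf.germ V z hz) h
  rw [map_mul, map_mul, TopCat.Presheaf.germ_res_apply] at h1
  exact (mul_cancel_left_mem_nonZeroDivisors (hb z)).1 h1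

theorem Reg.of_flat {Z Z' : Scheme.{u}} (φ : Z' ⟶ Z) [Flat φ] {b : Γ(Z, ⊤)} (hb : Reg b) :
    Reg (φ.appTop.hom b) := by
  intro z
  have h1 : Z'.presheaf.germ ⊤ z trivial (φ.appTop.hom b) =
      (φ.stalkMap z).hom (Z.presheaf.germ ⊤ (φ z) trivial b) :=
    (Scheme.Hom.germ_stalkMap_apply φ ⊤ z trivial b).symm
  rw [h1]
  have h2 : (φ.stalkMap z).hom.Flat := Flat.stalkMap φ z
  have h3 := hb (φ z)
  algebraize [(φ.stalkMap z).hom]
  have h4 : IsSMulRegular (Z'.presheaf.stalk z) (Z.presheaf.germ ⊤ (φ z) trivial b) :=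
    Module.Flat.isSMulRegular_of_nonZeroDivisors h3
  rw [mem_nonZeroDivisors_iff_right]
  intro x hx
  apply h4
  change (φ.stalkMap z).hom (Z.presheaf.germ ⊤ (φ z) trivial b) • x =
    (φ.stalkMap z).hom (Z.presheaf.germ ⊤ (φ z) trivial b) • (0 : Z'.presheaf.stalk z)
  rw [smul_eq_mul, mul_comm, hx, smul_zero]

/-- If the germs of `b` are nonzerodivisors and divide the germs of `a` then `b` divides `a`. -/
theorem Reg.exists_quot {Z : Scheme.{u}} {b : Γ(Z, ⊤)} (hb : Reg b) (a : Γ(Z, ⊤))
    (h : ∀ z : Z, Z.presheaf.germ ⊤ z trivial b ∣ Z.presheaf.germ ⊤ z trivial a) : ∃ c : Γ(Z, ⊤), b * c = a := by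
  have key : ∀ z : Z, ∃ (V : Z.Opens) (_ : z ∈ V) (c : Γ(Z, V)),
      Z.presheaf.map (homOfLE (le_top : V ≤ ⊤)).op b * c = Z.presheaf.map (homOfLE (le_top : V ≤ ⊤)).op a := by
    intro z
    obtain ⟨cz, hcz⟩ := h z
    obtain ⟨V, hV, c, rfl⟩ := TopCat.Presheaf.exists_germ_eq Z.presheaf cz
    have h1 : Z.presheaf.germ V z hV (Z.presheaf.map (homOfLE (le_top : V ≤ ⊤)).op b * c) =
        Z.presheaf.germ V z hV (Z.presheaf.map (homOfLE (le_top : V ≤ ⊤)).op a) := by
      rw [map_mul, TopCat.Presheaf.germ_res_apply, TopCat.Presheaf.germ_res_apply]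
      exact hcz.symm
    obtain ⟨W, hW, i, j, hij⟩ := TopCat.Presheaf.germ_eq Z.presheaf z hV hV _ _ h1
    refine ⟨W, hW, Z.presheaf.map i.op c, ?_⟩
    rw [map_mul] at hij
    have e1 : Z.presheaf.map i.op (Z.presheaf.map (homOfLE (le_top : V ≤ ⊤)).op b) =
        Z.presheaf.map (homOfLE (le_top : W ≤ ⊤)).op b := by
      rw [← CommRingCat.comp_apply, ← Functor.map_comp]
      rfl
    have e2 : Z.presheaf.map j.op (Z.presheaf.map (homOfLE (le_top : V ≤ ⊤)).op a) =
        Z.presheaf.map (homOfLE (le_top : W ≤ ⊤)).op a := by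
      rw [← CommRingCat.comp_apply, ← Functor.map_comp]
      rfl
    rw [e1, e2] at hij
    exact hij
  choose V hV c hc using key
  have hcomp : ∀ z z' : Z, Z.presheaf.map (Opens.infLELeft (V z) (V z')).op (c z) =
      Z.presheaf.map (Opens.infLERight (V z) (V z')).op (c z') := by
    intro z z'
    apply hb.cancel
    have h1 := congrArg (Z.presheaf.map (Opens.infLELeft (V z) (V z')).op) (hc z)
    have h2 := congrArg (Z.presheaf.map (Opens.infLERight (V z) (V z')).op) (hc z')
    rw [map_mul] at h1 h2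
    rw [← CommRingCat.comp_apply, ← CommRingCat.comp_apply, ← Functor.map_comp] at h1 h2
    exact h1.trans h2.symm
  obtain ⟨g, hg, -⟩ := Z.sheaf.existsUnique_gluing' V ⊤ (fun z => homOfLE le_top)
    (fun z _ => Opens.mem_iSup.2 ⟨z, hV z⟩) c (fun z z' => hcomp z z')
  let g' : Γ(Z, ⊤) := g
  have hg' : ∀ z, Z.presheaf.map (homOfLE (le_top : V z ≤ ⊤)).op g' = c z := hg
  refine ⟨g', ?_⟩
  apply TopCat.Presheaf.section_ext Z.sheaf ⊤
  intro z _
  change Z.presheaf.germ ⊤ z trivial (b * g') = Z.presheaf.germ ⊤ z trivial a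
  have h1 := congrArg (Z.presheaf.germ (V z) z (hV z)) (hc z)
  rw [← hg' z, ← map_mul] at h1
  rw [TopCat.Presheaf.germ_res_apply, TopCat.Presheaf.germ_res_apply] at h1
  exact h1

section Space

open K626.GammaDom

variable {S : Scheme.{u}} {X : Sp S}

/-- Gluing a function along a surjective morphism of the small etale site. -/
theorem exists_glue {E P : EtOver X} (g : P ⟶ E) (hs : Surjective g.hom.left.left) (s : Γ(P.obj.left.left, ⊤))
    (h : ∀ (R : EtOver X) (a b : R ⟶ P), a ≫ g = b ≫ g →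
      a.hom.left.left.appTop.hom s = b.hom.left.left.appTop.hom s) :
    ∃ t : Γ(E.obj.left.left, ⊤), g.hom.left.left.appTop.hom t = s := by
  have hsh : Presieve.IsSheaf (etTop X) ((OEt X).obj ⋙ forget CommRingCat.{u + 1}) :=
    (isSheaf_iff_isSheaf_of_type _ _).1 ((sheafCompose (etTop X) (forget CommRingCat.{u + 1})).obj (OEt X)).property
  have h1 : Presieve.IsSheafFor ((OEt X).obj ⋙ forget CommRingCat.{u + 1})
      (Presieve.ofArrows (fun _ : PUnit.{u + 1} => P) (fun _ => g)) := by
    rw [Presieve.isSheafFor_iff_generate]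
    exact hsh _ (ofArrows_mem_etTop _ _ fun x => ⟨PUnit.unit, hs.surj x⟩)
  rw [Presieve.isSheafFor_arrows_iff] at h1
  obtain ⟨t, ht, -⟩ := h1 (fun _ => ULift.up s) (fun _ _ R a b hab => by
    refine (OEt_map a _).trans (Eq.trans ?_ (OEt_map b _).symm)
    exact congrArg ULift.up (h R a b hab))
  refine ⟨t.down, ?_⟩
  have h2 := ht PUnit.unit
  exact congrArg ULift.down h2

/-- On a normal algebraic space with irreducible space of points, `Γ(X, O_X)` is integrally closed. -/
theorem isIntegrallyClosed_of_normal (hX : IsAlgSpace X) [IrreducibleSpace (Points X)]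
    (hred : EtaleLocally (fun U => IsReduced U) X)
    (hn : EtaleLocally (fun U => ∀ u : ↥U, IsDomain ↥(U.presheaf.stalk u) ∧
      IsIntegrallyClosed ↥(U.presheaf.stalk u)) X) :
    IsIntegrallyClosed ↥(gsectEt (OEt X)) := by
  have hdom := isDomain_of_irreducible hX hred
  obtain ⟨U', p', hp', hps', hU'⟩ := hred
  obtain ⟨U, p, hp, hps, hU⟩ := hn
  refine isIntegrallyClosed_of_scaleRoots fun P hP a b hb hab => ?_
  let E₀ : EtOver X := EtOver.mk p hp
  -- the germs of `b` on the chart are not zero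
  have hDb : (D b).Nonempty := Set.nonempty_iff_ne_empty.2 fun h => hb (eq_zero_of_D_eq_empty hp' hps' h)
  have hdense : Dense (D b) := (isOpen_D b).dense hDb
  have hgerm : ∀ u : U.left, U.left.presheaf.germ ⊤ u trivial (ev E₀ b) ≠ 0 := by
    intro u hu
    obtain ⟨W, hW, i, j, hij⟩ := TopCat.Presheaf.germ_eq U.left.presheaf (U := ⊤) (V := ⊤) u trivial trivial (ev E₀ b) 0
      (by rw [hu, map_zero])
    rw [map_zero] at hij
    have hop := K609.Points.isOpenMap_ofPt hp W W.isOpen
    obtain ⟨x, ⟨w, hw, rfl⟩, hx⟩ := hdense.inter_open_nonempty _ hop ⟨_, ⟨u, hW, rfl⟩⟩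
    have h1 := (ofPt_mem_D_iff E₀ b w).1 hx
    have h2 : w ∈ U.left.basicOpen (U.left.presheaf.map i.op (ev E₀ b)) := by
      rw [Scheme.basicOpen_res]
      exact ⟨hw, h1⟩
    rw [hij, Scheme.basicOpen_zero] at h2
    exact h2
  have hreg : Reg (Z := U.left) (ev E₀ b) := fun u => by
    have := (hU u).1
    exact mem_nonZeroDivisors_of_ne_zero (hgerm u)
  -- the quotient on the chart
  obtain ⟨c, hc⟩ := hreg.exists_quot (ev E₀ a) (fun u => by
    have := (hU u).1
    have := (hU u).2
    let φ : ↥(gsectEt (OEt X)) →+* U.left.presheaf.stalk u :=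
      (U.left.presheaf.germ ⊤ u trivial).hom.comp (ev E₀)
    refine dvd_of_scaleRoots (P.map φ) (hP.map φ) _ _ (hgerm u) ?_
    have h1 : (P.map φ).scaleRoots (φ b) = (P.scaleRoots b).map φ := by
      rw [Polynomial.map_scaleRoots]
      rw [hP.leadingCoeff, map_one]
      exact one_ne_zero
    change ((P.map φ).scaleRoots (φ b)).eval (φ a) = 0
    rw [h1, Polynomial.eval_map_apply, hab, map_zero])
  -- uniqueness on schemes etale over the chart
  have huniq : ∀ (R : EtOver X) (r r' : R ⟶ E₀), r.hom.left.left.appTop.hom c = r'.hom.left.left.appTop.hom c := by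
    intro R r r'
    have he : Etale r.hom.left.left := EtOver.etale_left r
    have hR : Reg (Z := R.obj.left.left) (ev R b) := by
      rw [← ev_map r b]
      exact hreg.of_flat r.hom.left.left
    have h1 : ev R b * r.hom.left.left.appTop.hom c = ev R a := by
      rw [← ev_map r b, ← map_mul, hc, ev_map]
    have h2 : ev R b * r'.hom.left.left.appTop.hom c = ev R a := by
      rw [← ev_map r' b, ← map_mul, hc, ev_map]
    refine hR.cancel (V := ⊤) ?_
    have e : (homOfLE (le_top : (⊤ : R.obj.left.left.Opens) ≤ ⊤)).op = 𝟙 _ := rfl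
    rw [e, CategoryTheory.Functor.map_id]
    exact h1.trans h2.symm
  have hex : ∀ E : EtOver X, ∃ t : Γ(E.obj.left.left, ⊤),
      (EtOver.prodFst E E₀).hom.left.left.appTop.hom t = (EtOver.prodSnd E E₀).hom.left.left.appTop.hom c := by
    intro E
    refine exists_glue (EtOver.prodFst E E₀) (hps.2 E.obj.hom _ _ (E₀.property.1.isPullback E.obj.hom)) _ ?_
    intro R r r' _
    have h1 := huniq R (r ≫ EtOver.prodSnd E E₀) (r' ≫ EtOver.prodSnd E E₀)
    exact h1
  choose t ht using hex
  have hinj : ∀ E : EtOver X, Function.Injective (EtOver.prodFst E E₀).hom.left.left.appTop.hom := by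
    intro E
    have hs : Surjective (EtOver.prodFst E E₀).hom.left.left :=
      hps.2 E.obj.hom _ _ (E₀.property.1.isPullback E.obj.hom)
    have he : Etale (EtOver.prodFst E E₀).hom.left.left := EtOver.etale_left _
    have : Epi (EtOver.prodFst E E₀).hom.left.left := Flat.epi_of_flat_of_surjective _
    exact appTop_injective _
  obtain ⟨f, hf⟩ := exists_of_compat t (fun E E' g => by
    apply hinj E
    rw [ht E]
    let h : EtOver.prodObj E E₀ ⟶ EtOver.prodObj E' E₀ :=
      (BinaryFan.IsLimit.lift' (EtOver.prodIsLimit E' E₀) (EtOver.prodFst E E₀ ≫ g) (EtOver.prodSnd E E₀)).1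
    have h1 : h ≫ EtOver.prodFst E' E₀ = EtOver.prodFst E E₀ ≫ g :=
      (BinaryFan.IsLimit.lift' (EtOver.prodIsLimit E' E₀) (EtOver.prodFst E E₀ ≫ g) (EtOver.prodSnd E E₀)).2.1
    have h2 : h ≫ EtOver.prodSnd E' E₀ = EtOver.prodSnd E E₀ :=
      (BinaryFan.IsLimit.lift' (EtOver.prodIsLimit E' E₀) (EtOver.prodFst E E₀ ≫ g) (EtOver.prodSnd E E₀)).2.2
    have h3 := congrArg h.hom.left.left.appTop.hom (ht E')
    have h4 : (EtOver.prodFst E E₀ ≫ g).hom.left.left.appTop.hom (t E') =
        (EtOver.prodSnd E E₀).hom.left.left.appTop.hom c := by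
      rw [← h1, ← h2]
      exact h3
    exact h4)
  refine ⟨f, ?_⟩
  symm
  refine ev_ext fun E => ?_
  apply hinj E
  rw [map_mul, map_mul, hf, ht, ev_map, ev_map, ← ev_map (EtOver.prodSnd E E₀) b, ← map_mul, hc, ev_map]

end Space

end K626.GammaNorm
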