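import Groth.Agent.Pi1C.ClopenExtend
import Mathlib.AlgebraicGeometry.Limits
import Mathlib.AlgebraicGeometry.Morphisms.ClosedImmersion
import Mathlib.AlgebraicGeometry.Morphisms.QuasiSeparated
/-!
# Schemes whose points have a unique maximal generization, varying continuously

Let `X` be a scheme with a continuous map `η : X → X` sending each point to its unique maximal
generization. We show that a compact family of points is contained in an affine open as soon as this
holds for the members of the family lying in one irreducible component.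
-/

set_option autoImplicit false
universe u v
open CategoryTheory CategoryTheory.Limits AlgebraicGeometry Topology TopologicalSpace

namespace K626.GenCont

/-- `η x` is the unique maximal generization of `x`. -/
structure Gen {X : Type*} [TopologicalSpace X] (η : X → X) : Prop where
  spec : ∀ x, η x ⤳ x
  eq : ∀ {x y : X}, y ⤳ x → η y = η x

namespace Gen

variable {X : Type*} [TopologicalSpace X] {η : X → X} (h : Gen η)

include h

theorem idem (x : X) : η (η x) = η x := h.eq (h.spec x)

theorem eq_of_specializes [T0Space X] {x y : X} (hy : y ⤳ η x) : y = η x := by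
  have h1 : η y = η x := (h.eq hy).trans (h.idem x)
  exact (hy.antisymm (h1 ▸ h.spec y)).eq

theorem unique {x z : X} (hz : z ⤳ x) (hmax : ∀ y, y ⤳ z → y = z) : z = η x := by
  have h1 : η z = η x := h.eq hz
  rw [← h1]
  exact (hmax _ (h.spec z)).symm

theorem homeo [T0Space X] (e : X ≃ₜ X) (x : X) : η (e x) = e (η x) := by
  refine (h.unique ((h.spec x).map e.continuous) fun y hy => ?_).symm
  have h1 : e.symm y ⤳ η x := by
    have := hy.map e.symm.continuous
    rwa [e.symm_apply_apply] at this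
  have h2 := h.eq_of_specializes h1
  rw [← h2, e.apply_symm_apply]

end Gen

/-- A quasi-compact open is clopen on the level of irreducible components. -/
theorem isClopen_preimage {X : Scheme.{u}} [QuasiSeparatedSpace X] {η : X → X} (h : Gen η)
    (hη : Continuous η) {N : Set X} (hN : IsOpen N) (hNc : IsCompact N) : IsClopen (η ⁻¹' N) := by
  refine ⟨?_, hN.preimage hη⟩
  have h1 : η ⁻¹' N = η ⁻¹' (closure N) := by
    refine Set.Subset.antisymm (Set.preimage_mono subset_closure) ?_
    intro x hx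
    obtain ⟨w, hw, hwx⟩ := Groth.Agent.Pi1C.ClopenExtend.exists_specializes_of_mem_closure_scheme hN (fun A hA =>
      QuasiSeparatedSpace.inter_isCompact _ _ hN hNc A.isOpen hA.isCompact) hx
    rw [h.eq_of_specializes hwx] at hw
    exact hw
  rw [h1]
  exact isClosed_closure.preimage hη

/-- Clopen parts of affine opens are affine. -/
theorem isAffineOpen_inter {X : Scheme.{u}} {U M : X.Opens} (hU : IsAffineOpen U)
    (hM : IsClosed (M : Set X)) : IsAffineOpen (U ⊓ M) := by
  have : IsAffine (U : Scheme.{u}) := hU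
  have hc : IsClosedImmersion (U.ι ⁻¹ᵁ M).ι := by
    refine .of_isPreimmersion _ ?_
    rw [Scheme.Opens.range_ι]
    exact hM.preimage U.ι.continuous
  have h1 : IsAffineOpen (U.ι ⁻¹ᵁ M) := isAffine_of_isAffineHom (U.ι ⁻¹ᵁ M).ι
  have h2 := h1.image_of_isOpenImmersion U.ι
  rwa [Scheme.Hom.image_preimage_eq_opensRange_inf, Scheme.Opens.opensRange_ι] at h2

/-- A compact family of points is contained in an affine open as soon as this holds for the members
of the family in one irreducible component. -/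
theorem exists_affine_of_fibres {X : Scheme.{u}} [QuasiSeparatedSpace X] {η : X → X} (h : Gen η)
    (hη : Continuous η) {T : Type v} [TopologicalSpace T] [CompactSpace T] (f : T → X)
    (hf : Continuous f)
    (H : ∀ t₀ : T, ∃ U : X.Opens, IsAffineOpen U ∧ ∀ t, η (f t) = η (f t₀) → f t ∈ U) :
    ∃ U : X.Opens, IsAffineOpen U ∧ ∀ t, f t ∈ U := by
  have H1 : ∀ t₀ : T, ∃ (U M : X.Opens), IsAffineOpen U ∧ IsClosed (M : Set X) ∧ f t₀ ∈ M ∧
      ∀ t, f t ∈ M → f t ∈ U := by
    intro t₀
    obtain ⟨U, hU, hUt⟩ := H t₀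
    have hB : IsCompact (f ⁻¹' (U : Set X))ᶜ := ((U.2.preimage hf).isClosed_compl).isCompact
    have hsep : ∀ t ∈ (f ⁻¹' (U : Set X))ᶜ, ∃ M : X.Opens, IsClosed (M : Set X) ∧ f t₀ ∈ M ∧
        f t ∉ M := by
      intro t ht
      have hne : ¬ (η (f t) ⤳ η (f t₀)) := fun hh => ht (hUt t (h.eq_of_specializes hh))
      rw [not_specializes_iff_exists_open] at hne
      obtain ⟨O, hO, h1, h2⟩ := hne
      obtain ⟨N, hN, hmem, hle⟩ := exists_isAffineOpen_mem_and_subset (X := X) (U := ⟨O, hO⟩)
        (x := η (f t₀)) h1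
      have hcl := isClopen_preimage h hη N.2 hN.isCompact
      exact ⟨⟨η ⁻¹' (N : Set X), hcl.2⟩, hcl.1, hmem, fun hh => h2 (hle hh)⟩
    choose! M hM hM0 hMt using hsep
    obtain ⟨s, hs, hcov⟩ := hB.elim_nhds_subcover (fun t => (f ⁻¹' (M t : Set X))ᶜ) (fun t ht =>
      ((hM t ht).isOpen_compl.preimage hf).mem_nhds (hMt t ht))
    refine ⟨U, ⟨⋂ t ∈ s, (M t : Set X), isOpen_biInter_finset fun t _ => (M t).2⟩, hU,
      isClosed_biInter fun t ht => hM t (hs t ht), ?_, ?_⟩
    · exact Set.mem_iInter₂.2 fun t ht => hM0 t (hs t ht)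
    · intro t ht
      by_contra hc
      obtain ⟨t', ht', h2⟩ := Set.mem_iUnion₂.1 (hcov hc)
      exact h2 (Set.mem_iInter₂.1 ht t' ht')
  choose U M hU hM hM0 hMU using H1
  obtain ⟨s, hs⟩ := CompactSpace.elim_nhds_subcover (fun t => f ⁻¹' (M t : Set X))
    (fun t => ((M t).2.preimage hf).mem_nhds (hM0 t))
  have key : ∀ s : Finset T, ∃ W : X.Opens, IsAffineOpen W ∧
      (W : Set X) ⊆ (⋃ i ∈ s, (M i : Set X)) ∧ ∀ t, (∃ i ∈ s, f t ∈ M i) → f t ∈ W := by
    classical
    intro s
    induction s using Finset.induction with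
    | empty => exact ⟨⊥, isAffineOpen_bot X, by simp, by simp⟩
    | insert a s ha ih =>
      obtain ⟨W, hW, hWs, hWt⟩ := ih
      have hcl : IsClosed (⋃ i ∈ s, (M i : Set X)) := s.finite_toSet.isClosed_biUnion fun i _ => hM i
      have hop : IsOpen (⋃ i ∈ s, (M i : Set X)) := isOpen_biUnion fun i _ => (M i).2
      let N : X.Opens := ⟨(M a : Set X) ∩ (⋃ i ∈ s, (M i : Set X))ᶜ,
        (M a).2.inter hcl.isOpen_compl⟩
      have hN : IsClosed (N : Set X) := (hM a).inter hop.isClosed_compl
      refine ⟨W ⊔ (U a ⊓ N), hW.sup_of_disjoint (isAffineOpen_inter (hU a) hN) ?_, ?_, ?_⟩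
      · rw [← Opens.coe_disjoint, Set.disjoint_left]
        rintro x hx ⟨-, -, hx2⟩
        exact hx2 (hWs hx)
      · rintro x (hx | ⟨-, hx, -⟩)
        · obtain ⟨i, hi, hxi⟩ := Set.mem_iUnion₂.1 (hWs hx)
          exact Set.mem_iUnion₂.2 ⟨i, Finset.mem_insert_of_mem hi, hxi⟩
        · exact Set.mem_iUnion₂.2 ⟨a, Finset.mem_insert_self a s, hx⟩
      · rintro t ⟨i, hi, hti⟩
        by_cases hts : f t ∈ ⋃ i ∈ s, (M i : Set X)
        · obtain ⟨j, hj, htj⟩ := Set.mem_iUnion₂.1 hts
          exact Or.inl (hWt t ⟨j, hj, htj⟩)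
        · rcases Finset.mem_insert.1 hi with rfl | hi
          · exact Or.inr ⟨hMU _ t hti, hti, hts⟩
          · exact absurd (Set.mem_iUnion₂.2 ⟨i, hi, hti⟩) hts
  obtain ⟨W, hW, -, hWt⟩ := key s
  refine ⟨W, hW, fun t => hWt t ?_⟩
  have ht : t ∈ ⋃ x ∈ s, f ⁻¹' (M x : Set X) := by rw [hs]; trivial
  obtain ⟨i, hi, hti⟩ := Set.mem_iUnion₂.1 ht
  exact ⟨i, hi, hti⟩

end K626.GenCont
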