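import Groth.Agent.AlgSp.K626.GenCont
import Mathlib.AlgebraicGeometry.Noetherian
import Mathlib.Topology.LocallyConstant.Basic

/-!
# Locally irreducible sober spaces: the generic point map
-/

set_option autoImplicit false
universe u
open CategoryTheory AlgebraicGeometry Topology TopologicalSpace

namespace K626.GenIrr

/-- `x` has an irreducible open neighbourhood -/
def IrrAt {X : Type*} [TopologicalSpace X] (x : X) : Prop := ∃ N : Set X, IsOpen N ∧ x ∈ N ∧ IsIrreducible N

theorem isOpen_irrAt (X : Type*) [TopologicalSpace X] : IsOpen {x : X | IrrAt x} := by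
  rw [isOpen_iff_forall_mem_open]
  rintro x ⟨N, hN, hx, hi⟩
  exact ⟨N, fun y hy => ⟨N, hN, hy, hi⟩, hN, hx⟩

theorem IrrAt.map {X Y : Type*} [TopologicalSpace X] [TopologicalSpace Y] {x : X} (h : IrrAt x) {f : X → Y}
    (hf : Continuous f) (ho : IsOpenMap f) : IrrAt (f x) := by
  obtain ⟨N, hN, hx, hi⟩ := h
  exact ⟨f '' N, ho _ hN, ⟨x, hx, rfl⟩, hi.image f hf.continuousOn⟩

/-- nonempty locally Noetherian schemes have points with irreducible open neighbourhoods -/
theorem exists_irrAt (X : Scheme.{u}) [IsLocallyNoetherian X] [hX : Nonempty X] : ∃ x : X, IrrAt x := by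
  obtain ⟨x₀⟩ := hX
  obtain ⟨U, hU, hx, -⟩ := exists_isAffineOpen_mem_and_subset (X := X) (U := ⊤) (x := x₀) trivial
  have : CompactSpace U := isCompact_iff_compactSpace.1 hU.isCompact
  have : IsLocallyNoetherian (U : Scheme.{u}) := inferInstance
  have : IsNoetherian (U : Scheme.{u}) := { }
  let u₀ : (U : Scheme.{u}) := ⟨x₀, hx⟩
  obtain ⟨o, ho, ⟨z, hz⟩, hle⟩ := NoetherianSpace.exists_isOpen_nonempty_subset_irreducibleComponent
    (α := (U : Scheme.{u}))
    (irreducibleComponent u₀) (irreducibleComponent_mem_irreducibleComponents u₀)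
  have h1 : IsIrreducible o :=
    ⟨⟨z, hz⟩, isIrreducible_irreducibleComponent.isPreirreducible.open_subset ho hle⟩
  refine ⟨z.1, ?_⟩
  have h3 : IrrAt z := ⟨o, ho, hz, h1⟩
  exact h3.map (f := U.ι) U.ι.continuous U.ι.isOpenEmbedding.isOpenMap

theorem exists_gen {X : Type*} [TopologicalSpace X] [QuasiSober X] [T0Space X] (h : ∀ x : X, IrrAt x) :
    ∃ η : X → X, GenCont.Gen η ∧ Continuous η := by
  choose N hN hx hi using h
  let η : X → X := fun x => (hi x).genericPoint
  have hη : ∀ x, closure {η x} = closure (N x) := fun x => (hi x).isGenericPoint_genericPoint_closure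
  have key : ∀ x y, y ∈ N x → closure (N y) = closure (N x) := by
    intro x y hy
    refine Set.Subset.antisymm ?_ ?_
    · refine closure_minimal ((subset_closure_inter_of_isPreirreducible_of_isOpen (hi y).isPreirreducible (hN x)
        ⟨y, hx y, hy⟩).trans (closure_mono Set.inter_subset_right)) isClosed_closure
    · refine closure_minimal ((subset_closure_inter_of_isPreirreducible_of_isOpen (hi x).isPreirreducible (hN y)
        ⟨y, hy, hx y⟩).trans (closure_mono Set.inter_subset_right)) isClosed_closure
  have key2 : ∀ x y, y ∈ N x → η y = η x := by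
    intro x y hy
    have h1 : closure {η y} = closure {η x} := by rw [hη, hη, key x y hy]
    exact (IsGenericPoint.eq (show IsGenericPoint (η y) (closure {η x}) from h1) rfl)
  refine ⟨η, ⟨fun x => ?_, fun {x y} hyx => ?_⟩, ?_⟩
  · rw [specializes_iff_mem_closure, hη]
    exact subset_closure (hx x)
  · exact key2 x y (hyx.mem_open (hN x) (hx x))
  · refine (IsLocallyConstant.iff_exists_open η).2 (fun x => ⟨N x, hN x, hx x, fun y hy => key2 x y hy⟩) |>.continuous

end K626.GenIrr
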