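import Groth.Agent.AlgSp.K626.IntSp
import Groth.Agent.AlgSp.K621.GenFin
import Groth.Agent.AlgSp.K610.SchLocus
import Groth.Agent.S10337
/-!
# Affine open neighbourhoods of the generic point
-/

set_option autoImplicit false
universe u
open CategoryTheory CategoryTheory.Limits AlgebraicGeometry Topology TopologicalSpace Opposite
open AlgSp

namespace K626.GenOpen

variable {S : Scheme.{u}}

/-- Restriction of an open immersion chart to an open subscheme. -/
theorem repWith_open_openChart {X : Sp S} {U : Over S} {a : (yon S).obj U ⟶ X}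
    (ha : RepWith @IsOpenImmersion a) (W : U.left.Opens) :
    RepWith @IsOpenImmersion ((yon S).map (K621.Base.openChartι U W) ≫ a) :=
  MorphismProperty.comp_mem (RepWith @IsOpenImmersion) _ _
    ((repWith_yon_map_iff _ _).2 (show IsOpenImmersion W.ι from inferInstance)) ha

/-- The generic point of an irreducible decent algebraic space has an affine open neighbourhood. -/
theorem exists_affine_open {X : Space S} (hd : IsDecent X.obj) {x : Points X.obj}
    (hx : IsGenericPoint x (Set.univ : Set (Points X.obj))) :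
    ∃ (U : Over S) (a : (yon S).obj U ⟶ X.obj) (u : ↥U.left), IsAffine U.left ∧
      RepWith @IsOpenImmersion a ∧ Points.ofPt a u = x := by
  obtain ⟨X', j, hj, hrep, hdense⟩ := Groth.Agent.S10337.result X hd
  obtain ⟨H, f, hf, hfr⟩ := (K610.SchLocus.isSch_iff hj).2 hrep
  have hopen : IsOpen (Set.range (Points.ofPt f)) :=
    (K610.Base.isOpenMap_ofPt_etale (K610.OpenImm.repWith_etale_of_open hf)).isOpen_range
  have hne : (Set.range (Points.ofPt f)).Nonempty := by
    rw [hfr]
    have : Nonempty (Points X.obj) := ⟨x⟩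
    exact hdense.nonempty
  have hxr : x ∈ Set.range (Points.ofPt f) := by
    obtain ⟨z, hz⟩ := hne
    refine (specializes_iff_mem_closure.2 ?_ : x ⤳ z).mem_open hopen hz
    rw [hx.def]
    trivial
  obtain ⟨u, hu⟩ := hxr
  obtain ⟨W, huW, -, hW⟩ := K621.Base.exists_affine_openChart u ⊤ trivial
  exact ⟨K621.Base.openChart H W, _, ⟨u, huW⟩, hW, repWith_open_openChart hf W,
    (K621.Base.ofPt_openChart f W ⟨u, huW⟩).trans hu⟩

/-- Diagrams of open immersions through a point. -/
theorem exists_open_diagram {X Y : Space S} (f : X ⟶ Y) {U V : Over S} {a : (yon S).obj U ⟶ X.obj}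
    {b : (yon S).obj V ⟶ Y.obj} (ha : RepWith @IsOpenImmersion a) (hb : RepWith @IsOpenImmersion b)
    (u : ↥U.left) (v : ↥V.left) (h : Points.map f.hom (Points.ofPt a u) = Points.ofPt b v) :
    ∃ (U' : Over S) (a' : (yon S).obj U' ⟶ X.obj) (u' : ↥U'.left) (g : U' ⟶ V), IsAffine U'.left ∧
      RepWith @IsOpenImmersion a' ∧ Points.ofPt a' u' = Points.ofPt a u ∧ g.left u' = v ∧
      a' ≫ f.hom = (yon S).map g ≫ b := by
  obtain ⟨R, i, r, sq⟩ := hb.1 (a ≫ f.hom)
  obtain ⟨r, rfl⟩ := (yon S).map_surjective r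
  have hi : IsOpenImmersion i.left := hb.2 _ _ i sq
  obtain ⟨w, h1, h2⟩ := K621.Base.exists_point_of_isPullback sq v u (by rw [← h, Points.map_ofPt])
  obtain ⟨W, hwW, -, hW⟩ := K621.Base.exists_affine_openChart w ⊤ trivial
  have hia : RepWith @IsOpenImmersion ((yon S).map i ≫ a) :=
    MorphismProperty.comp_mem (RepWith @IsOpenImmersion) _ _ ((repWith_yon_map_iff _ _).2 hi) ha
  refine ⟨K621.Base.openChart R W, (yon S).map (K621.Base.openChartι R W) ≫ (yon S).map i ≫ a,
    ⟨w, hwW⟩, K621.Base.openChartι R W ≫ r, hW, repWith_open_openChart hia W, ?_, ?_, ?_⟩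
  · rw [K621.Base.ofPt_openChart ((yon S).map i ≫ a) W ⟨w, hwW⟩, K621.Base.ofPt_comp, h2]
  · exact h1
  · rw [Category.assoc, Category.assoc, ← sq.w, Functor.map_comp, Category.assoc]

end K626.GenOpen
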