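import Groth.Agent.AlgSp.K611.Red
import Groth.Agent.AlgSp.K625.Tensor
import Groth.Agent.AlgSp.K616.Inv
import Groth.Agent.AlgSp.K612.Reduced
import Groth.Agent.S1545
import Groth.Prelude.Def_FDesc
/-!
# Geometric reducedness at a point: étale invariance, base change, charts of algebraic spaces
-/

set_option autoImplicit false
universe u
open CategoryTheory CategoryTheory.Limits AlgebraicGeometry Topology TopologicalSpace Opposite
open AlgSp

namespace K626.GeomRed

theorem exists_preimage_of_isPullback {P X Y Z : Scheme.{u}} {fst : P ⟶ X} {snd : P ⟶ Y} {f : X ⟶ Z}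
    {g : Y ⟶ Z} (sq : IsPullback fst snd f g) (x : ↥X) (y : ↥Y) (h : f x = g y) :
    ∃ z : ↥P, fst z = x ∧ snd z = y := by
  obtain ⟨z, hz1, hz2⟩ := Scheme.Pullback.exists_preimage_pullback (f := f) (g := g) x y h
  refine ⟨sq.isoPullback.inv z, ?_, ?_⟩
  · rw [← Scheme.Hom.comp_apply, sq.isoPullback_inv_fst, hz1]
  · rw [← Scheme.Hom.comp_apply, sq.isoPullback_inv_snd, hz2]

theorem isReduced_stalk_iff_over {S : Scheme.{u}} {T T' : Over S} (φ : T' ⟶ T) (hφ : Etale φ.left)
    (u : ↥T'.left) :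
    _root_.IsReduced ↥(T.left.presheaf.stalk (φ.left u)) ↔
      _root_.IsReduced ↥(T'.left.presheaf.stalk u) := by
  have h1 : RepWith @Etale ((yon S).map φ) := (repWith_yon_map_iff _ _).2 hφ
  have h2 : RepWith @Etale ((yon S).map (𝟙 T)) :=
    (repWith_yon_map_iff _ _).2 (by rw [Over.id_left]; infer_instance)
  have e : Points.ofPt ((yon S).map φ) u = Points.ofPt ((yon S).map (𝟙 T)) (φ.left u) := by
    have := K616.Refine.ofPt_comp φ ((yon S).map (𝟙 T)) u
    rw [← Functor.map_comp, Category.comp_id] at this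
    exact this
  constructor
  · intro h
    refine K611.reduced_stalk_of_hasAt ((yon S).map φ) h1 u ?_
    rw [e]
    exact ⟨T, (yon S).map (𝟙 T), φ.left u, h2, rfl, h⟩
  · intro h
    refine K611.reduced_stalk_of_hasAt ((yon S).map (𝟙 T)) h2 (φ.left u) ?_
    rw [← e]
    exact ⟨T', (yon S).map φ, u, h1, rfl, h⟩

/-- Reducedness of the local ring is invariant under étale morphisms. -/
theorem isReduced_stalk_iff {U U' : Scheme.{u}} (p : U' ⟶ U) [Etale p] (u : ↥U') :
    _root_.IsReduced ↥(U.presheaf.stalk (p u)) ↔ _root_.IsReduced ↥(U'.presheaf.stalk u) :=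
  isReduced_stalk_iff_over (S := U) (T := Over.mk (𝟙 U)) (T' := Over.mk p) (Over.homMk p (by simp))
    (by simpa using ‹Etale p›) u

theorem etInvAt_reduced : K616.Inv.EtInvAt (fun U u => _root_.IsReduced ↥(U.presheaf.stalk u)) :=
  fun _ _ p _ u => isReduced_stalk_iff p u

section

variable {k : Type u} [Field k]

theorem exists_isPullback_bc {U U' : Scheme.{u}} (f : U ⟶ Spec (CommRingCat.of k)) (p : U' ⟶ U)
    (K : Type u) [Field K] [Algebra k K] :
    ∃ m : FBase.bc (p ≫ f) K ⟶ FBase.bc f K,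
      IsPullback m (FBase.bcπ (p ≫ f) K) (FBase.bcπ f K) p ∧
      m ≫ FBase.bcStr f K = FBase.bcStr (p ≫ f) K := by
  have s := IsPullback.of_hasPullback (p ≫ f) (Spec.map (CommRingCat.ofHom (algebraMap k K)))
  have t := IsPullback.of_hasPullback f (Spec.map (CommRingCat.ofHom (algebraMap k K)))
  exact ⟨_, (IsPullback.of_bot' s t).flip, t.lift_snd _ _ _⟩

/-- Geometric reducedness at a point is invariant under étale morphisms. -/
theorem isGeomReducedAt_comp_iff {U U' : Scheme.{u}} (f : U ⟶ Spec (CommRingCat.of k)) (p : U' ⟶ U)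
    [Etale p] (u : ↥U') :
    FBase.IsGeomReducedAt (p ≫ f) u ↔ FBase.IsGeomReducedAt f (p u) := by
  constructor
  · intro h K _ _ x' hx'
    obtain ⟨m, sq, -⟩ := exists_isPullback_bc f p K
    have : Etale m := MorphismProperty.of_isPullback sq.flip ‹Etale p›
    obtain ⟨z, hz1, hz2⟩ := exists_preimage_of_isPullback sq x' u hx'
    have := h K z hz2
    rw [← hz1]
    exact (isReduced_stalk_iff m z).2 this
  · intro h K _ _ z hz
    obtain ⟨m, sq, -⟩ := exists_isPullback_bc f p K
    have : Etale m := MorphismProperty.of_isPullback sq.flip ‹Etale p›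
    refine (isReduced_stalk_iff m z).1 (h K (m z) ?_)
    have e : (m ≫ FBase.bcπ f K) z = (FBase.bcπ (p ≫ f) K ≫ p) z := by rw [sq.w]
    rw [Scheme.Hom.comp_apply, Scheme.Hom.comp_apply] at e
    rw [← show _ = u from hz]
    exact e

theorem isGeomReducedAt_bc_iff {U : Scheme.{u}} (f : U ⟶ Spec (CommRingCat.of k))
    (K : Type u) [Field K] [Algebra k K] (w : ↥(FBase.bc f K)) :
    FBase.IsGeomReducedAt (FBase.bcStr f K) w ↔ FBase.IsGeomReducedAt f (FBase.bcπ f K w) := by
  let _ : U.Over (Spec (CommRingCat.of k)) := ⟨f⟩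
  exact (Groth.Agent.S1545.result k U K _ w rfl).symm

/-- Geometric reducedness at a point is invariant under change of the ground field. -/
theorem isGeomReducedAt_iff_of_isPullback {U W : Scheme.{u}} {f : U ⟶ Spec (CommRingCat.of k)}
    (K : Type u) [Field K] [Algebra k K] {fst : W ⟶ U} {snd : W ⟶ Spec (CommRingCat.of K)}
    (sq : IsPullback fst snd f (Spec.map (CommRingCat.ofHom (algebraMap k K)))) (w : ↥W) :
    FBase.IsGeomReducedAt snd w ↔ FBase.IsGeomReducedAt f (fst w) := by
  let e : W ≅ FBase.bc f K := sq.isoPullback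
  have h1 : e.hom ≫ FBase.bcπ f K = fst := sq.isoPullback_hom_fst
  have h2 : e.hom ≫ FBase.bcStr f K = snd := sq.isoPullback_hom_snd
  rw [← h2, isGeomReducedAt_comp_iff, isGeomReducedAt_bc_iff, ← Scheme.Hom.comp_apply, h1]

end

/-! ### algebraic spaces -/

section

variable {k : Type u} [Field k] {X : Sp (Spec (CommRingCat.of k))}

/-- The chart of `X_K` induced by a chart of `X`. -/
theorem exists_chart_bc {U : Over (Spec (CommRingCat.of k))} (a : (yon _).obj U ⟶ X)
    (K : Type u) [Field K] [Algebra k K] :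
    ∃ (W : Over (Spec (CommRingCat.of k))) (π : W ⟶ U) (c : (yon _).obj W ⟶ K625.Fld.bcs X K)
      (q : W ⟶ K625.Fld.fld k K),
      IsPullback c ((yon _).map π) Limits.prod.fst a ∧ c ≫ Limits.prod.snd = (yon _).map q ∧
      IsPullback π.left q.left U.hom (Spec.map (CommRingCat.ofHom (algebraMap k K))) := by
  have hr : RepWith (⊤ : MorphismProperty Scheme.{u}) (Limits.prod.fst : K625.Fld.bcs X K ⟶ X) :=
    K625.Prod.repWith_fst _ X _ trivial
  obtain ⟨W, π, c, sq⟩ := hr.rep a
  obtain ⟨q, hq⟩ := (yon _).map_surjective (c ≫ Limits.prod.snd)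
  refine ⟨W, π, c, q, sq, hq.symm, ?_⟩
  have h1 := sq.paste_horiz (K625.Prod.isPullback_prod X ((yon _).obj (K625.Fld.fld k K))).flip
  have e1 : a ≫ (K625.Prod.isTerminalBase _).from X = (yon _).map (K625.Prod.toBase U) :=
    (K625.Prod.isTerminalBase _).hom_ext _ _
  rw [e1, K625.Prod.from_eq, ← hq] at h1
  exact (K625.Tensor.isPullback_over_left (IsPullback.of_map (yon _)
    ((yon _).map_injective (by simpa using h1.w)) h1)).flip

/-- `x` is a geometrically reduced point of `X`. -/
def HasGR (X : Sp (Spec (CommRingCat.of k))) (x : Points X) : Prop :=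
  ∃ (U : Over (Spec (CommRingCat.of k))) (a : (yon (Spec (CommRingCat.of k))).obj U ⟶ X)
    (u : ↥U.left), RepWith @Etale a ∧ Points.ofPt a u = x ∧ FBase.IsGeomReducedAt U.hom u

/-- Geometric reducedness can be tested on any chart. -/
theorem hasGR_iff {U : Over (Spec (CommRingCat.of k))} (a : (yon _).obj U ⟶ X)
    (ha : RepWith @Etale a) (u : ↥U.left) :
    HasGR X (Points.ofPt a u) ↔ FBase.IsGeomReducedAt U.hom u := by
  constructor
  · rintro ⟨V, b, v, hb, hv, h⟩
    obtain ⟨W, p₁, p₂, w, -, e₁, e₂, h1, h2⟩ :=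
      K616.Inv.exists_chart_refinement a b ha hb u v hv.symm
    rw [← h2, ← isGeomReducedAt_comp_iff, Over.w] at h
    rwa [← h1, ← isGeomReducedAt_comp_iff, Over.w]
  · intro h
    exact ⟨U, a, u, ha, rfl, h⟩

/-- `x` is a geometrically reduced point of the `K`-space `X_K`. -/
def HasGRK (X : Sp (Spec (CommRingCat.of k))) (K : Type u) [Field K] [Algebra k K]
    (x' : Points (K625.Fld.bcs X K)) : Prop :=
  ∃ (U' : Over (Spec (CommRingCat.of k))) (a' : (yon (Spec (CommRingCat.of k))).obj U' ⟶ K625.Fld.bcs X K)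
    (q : U' ⟶ K625.Fld.fld k K) (u' : ↥U'.left),
    RepWith @Etale a' ∧ a' ≫ Limits.prod.snd = (yon (Spec (CommRingCat.of k))).map q ∧
      Points.ofPt a' u' = x' ∧ FBase.IsGeomReducedAt (k := K) q.left u'

theorem hasGRK_iff {K : Type u} [Field K] [Algebra k K] {U' : Over (Spec (CommRingCat.of k))}
    (a' : (yon (Spec (CommRingCat.of k))).obj U' ⟶ K625.Fld.bcs X K)
    (q : U' ⟶ K625.Fld.fld k K) (u' : ↥U'.left) (ha : RepWith @Etale a')
    (hq : a' ≫ Limits.prod.snd = (yon (Spec (CommRingCat.of k))).map q) :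
    HasGRK X K (Points.ofPt a' u') ↔ FBase.IsGeomReducedAt (k := K) q.left u' := by
  constructor
  · rintro ⟨V, b, r, v, hb, hr, hv, h⟩
    obtain ⟨W, p₁, p₂, w, sq, e₁, e₂, h1, h2⟩ :=
      K616.Inv.exists_chart_refinement a' b ha hb u' v hv.symm
    have e : p₁ ≫ q = p₂ ≫ r := by
      apply (yon _).map_injective
      rw [Functor.map_comp, Functor.map_comp, ← hq, ← hr, ← Category.assoc, sq.w, Category.assoc]
    have e' : p₁.left ≫ q.left = p₂.left ≫ r.left := congrArg (·.left) e
    rw [← h2] at h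
    rw [← h1]
    have := (isGeomReducedAt_comp_iff (k := K) r.left p₂.left w).2 h
    exact (isGeomReducedAt_comp_iff (k := K) q.left p₁.left w).1 (e' ▸ this)
  · intro h
    exact ⟨U', a', q, u', ha, hq, rfl, h⟩

/-- The points of `X_K` over a point of `X` are geometrically reduced iff the point is. -/
theorem hasGRK_iff_hasGR (hX : IsAlgSpace X) (K : Type u) [Field K] [Algebra k K]
    (x' : Points (K625.Fld.bcs X K)) :
    HasGRK X K x' ↔ HasGR X (Points.map Limits.prod.fst x') := by
  obtain ⟨U, a, u, ha, hu⟩ := K616.Inv.exists_chart hX (Points.map Limits.prod.fst x')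
  obtain ⟨W, π, c, q, sq, hq, sq'⟩ := exists_chart_bc a K
  have hc : RepWith @Etale c := K625.Prod.repWith_of_isPullback _ sq.flip ha
  obtain ⟨w', h1, h2⟩ := K616.Refine.exists_point_of_isPullback sq x' (Points.ofScheme U u) (by
    rw [← hu, Points.ofPt_eq_map_ofScheme])
  obtain ⟨w, rfl⟩ := K616.Refine.exists_ofPt_of_yon w'
  have hw1 : Points.ofPt c w = x' := by
    rw [← h1, Points.map_ofPt, Category.id_comp]
  have hw2 : π.left w = u := by
    rw [Points.map_ofPt, Category.id_comp] at h2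
    have := congrArg (Points.toScheme U) h2
    rwa [Points.toScheme_ofPt, Points.toScheme_ofScheme] at this
  rw [← hw1, hasGRK_iff c q w hc hq, isGeomReducedAt_iff_of_isPullback K sq', hw2,
    hw1, ← hu, hasGR_iff a ha]

/-- Geometric reducedness of a space does not depend on the ground field. -/
theorem forall_hasGR_iff (hX : IsAlgSpace X) (K : Type u) [Field K] [Algebra k K] :
    (∀ x, HasGR X x) ↔ ∀ x' : Points (K625.Fld.bcs X K), HasGRK X K x' := by
  constructor
  · intro h x'
    exact (hasGRK_iff_hasGR hX K x').2 (h _)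
  · intro h x
    obtain ⟨x', rfl⟩ := K625.Fld.surjective_fst X K x
    exact (hasGRK_iff_hasGR hX K x').1 (h _)

end

end K626.GeomRed
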