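import Groth.Agent.AlgSp.K625.Level
/-!
# Opens of `X_Ω` come from `X_{K'}`, `K'/K` finite, for `k ⊆ K ⊆ Ω` with `Ω/K` algebraic
-/

set_option autoImplicit false
universe u
open CategoryTheory CategoryTheory.Limits AlgebraicGeometry Topology TopologicalSpace Opposite
open AlgSp
open K625.Fld K625.Tensor
open scoped TensorProduct

namespace K626.RelLevel

variable {k : Type u} [Field k] {K : Type u} [Field K] [Algebra k K]
  {Ω : Type u} [Field Ω] [Algebra k Ω] [Algebra K Ω] [IsScalarTower k K Ω]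

/-- The inclusion of an intermediate field, as a map over `k`. -/
noncomputable abbrev vk (K' : IntermediateField K Ω) : K' →ₐ[k] Ω := K'.val.restrictScalars k

/-- The inclusion of intermediate fields, as a map over `k`. -/
noncomputable abbrev ik {K₁ K₂ : IntermediateField K Ω} (h : K₁ ≤ K₂) : K₁ →ₐ[k] K₂ :=
  (IntermediateField.inclusion h).restrictScalars k

/-- Elements of `A ⊗ Ω` come from a finite subextension. -/
theorem exists_finite_level (A : Type u) [CommRing A] [Algebra k A] [Algebra.IsAlgebraic K Ω]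
    (f : A ⊗[k] Ω) : ∃ (k' : IntermediateField K Ω) (_ : FiniteDimensional K k')
      (f' : A ⊗[k] k'), Algebra.TensorProduct.map (AlgHom.id k A) (vk k') f' = f := by
  induction f using TensorProduct.induction_on with
  | zero => exact ⟨⊥, inferInstance, 0, by simp⟩
  | tmul a x =>
    refine ⟨IntermediateField.adjoin K {x}, ?_, a ⊗ₜ ⟨x, ?_⟩, ?_⟩
    · exact IntermediateField.adjoin.finiteDimensional (Algebra.IsIntegral.isIntegral x)
    · exact IntermediateField.mem_adjoin_simple_self K x
    · rw [Algebra.TensorProduct.map_tmul]; rfl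
  | add f g hf hg =>
    obtain ⟨k₁, _, f', hf'⟩ := hf
    obtain ⟨k₂, _, g', hg'⟩ := hg
    refine ⟨k₁ ⊔ k₂, inferInstance,
      Algebra.TensorProduct.map (AlgHom.id k A) (ik le_sup_left) f' +
      Algebra.TensorProduct.map (AlgHom.id k A) (ik le_sup_right) g', ?_⟩
    rw [map_add]
    congr 1
    · rw [← hf', ← AlgHom.comp_apply, ← Algebra.TensorProduct.map_comp]
      rfl
    · rw [← hg', ← AlgHom.comp_apply, ← Algebra.TensorProduct.map_comp]
      rfl

/-- The topology of `|Spec A × Spec Ω|` comes from finite levels, `Ω/K` algebraic. -/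
theorem exists_level_affine (A : Type u) [CommRing A] [Algebra k A] [Algebra.IsAlgebraic K Ω]
    (x : Points (bcs ((yon _).obj (fld k A)) Ω)) (W : Set (Points (bcs ((yon _).obj (fld k A)) Ω)))
    (hW : IsOpen W) (hx : x ∈ W) :
    ∃ (k' : IntermediateField K Ω) (_ : FiniteDimensional K k')
      (W' : Set (Points (bcs ((yon _).obj (fld k A)) k'))), IsOpen W' ∧
      Points.map (bcMap ((yon _).obj (fld k A)) (vk k')) x ∈ W' ∧
      Points.map (bcMap ((yon _).obj (fld k A)) (vk k')) ⁻¹' W' ⊆ W := by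
  obtain ⟨t, rfl⟩ := (bijective_ofPt_of_isIso (tensorMap (k := k) A Ω)).2 x
  have hW2 : IsOpen (Points.ofPt (tensorMap (k := k) A Ω) ⁻¹' W) :=
    hW.preimage (Points.continuous_ofPt _)
  obtain ⟨_, ⟨f, rfl⟩, htf, hfW⟩ :=
    (PrimeSpectrum.isTopologicalBasis_basic_opens (R := A ⊗[k] Ω)).exists_subset_of_mem_open
      hx hW2
  obtain ⟨k', hk', f', rfl⟩ := exists_finite_level (K := K) A f
  have key : ∀ s : ↥(fld k (A ⊗[k] Ω)).left, Points.map (bcMap ((yon _).obj (fld k A)) (vk k'))
      (Points.ofPt (tensorMap (k := k) A Ω) s) = Points.ofPt (tensorMap (k := k) A k')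
      ((homOf (Algebra.TensorProduct.map (AlgHom.id k A) (vk k'))).left s) := fun s =>
    K625.Points.ofPt_square (tensorMap_natural A (vk k')) s
  refine ⟨k', hk', Points.ofPt (tensorMap (k := k) A k') ''
      (PrimeSpectrum.basicOpen f' : Set (PrimeSpectrum (A ⊗[k] k'))),
    isOpenMap_ofPt_of_isIso (tensorMap (k := k) A k') (PrimeSpectrum.basicOpen f' :
      Set (PrimeSpectrum (A ⊗[k] k'))) (PrimeSpectrum.basicOpen f').isOpen, ?_, ?_⟩
  · rw [key]
    exact ⟨_, htf, rfl⟩
  · intro y hy
    obtain ⟨s, rfl⟩ := (bijective_ofPt_of_isIso (tensorMap (k := k) A Ω)).2 y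
    rw [Set.mem_preimage, key] at hy
    obtain ⟨d, hd, e⟩ := hy
    have := (bijective_ofPt_of_isIso (tensorMap (k := k) A k')).1 e
    subst this
    exact hfW hd

/-- The topology of `|X_Ω|` comes from finite levels over `K` when `Ω/K` is algebraic. -/
theorem exists_level (X : Space (Spec (CommRingCat.of k))) [Algebra.IsAlgebraic K Ω]
    (x : Points (bcs X.obj Ω)) (W : Set (Points (bcs X.obj Ω)))
    (hW : IsOpen W) (hx : x ∈ W) :
    ∃ (k' : IntermediateField K Ω) (_ : FiniteDimensional K k')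
      (W' : Set (Points (bcs X.obj k'))), IsOpen W' ∧
      Points.map (bcMap X.obj (vk k')) x ∈ W' ∧ Points.map (bcMap X.obj (vk k')) ⁻¹' W' ⊆ W := by
  obtain ⟨A, _, _, c, t, hc, ht⟩ := K625.Level.exists_chart X (Points.map prod.fst x)
  obtain ⟨y, hy1, hy2⟩ := K625.Points.exists_of_isPullback
    (K625.Prod.isPullback_map_left ((yon _).obj (fld k Ω)) c)
    (Points.ofScheme _ t) x (by rw [← ht]; exact (Points.ofPt_eq_map_ofScheme c t).symm)
  obtain ⟨k', hk', W', hW', h1, h2⟩ := exists_level_affine (K := K) A y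
    (Points.map (prod.map c (𝟙 _)) ⁻¹' W) (hW.preimage (Points.continuous_map _))
    (by rw [Set.mem_preimage, hy2]; exact hx)
  have sq := K625.Level.isPullback_prod_map c ((yon _).map (homOf (vk k')))
  have hop : IsOpenMap (Points.map (prod.map c (𝟙 ((yon _).obj (fld k k'))))) :=
    K625.Prod.isOpenMap_of_repWith
      (K625.Prod.repWith_of_isPullback @UniversallyOpen
        (K625.Prod.isPullback_map_left ((yon _).obj (fld k k')) c)
        (K625.Level.repWith_universallyOpen_of_etale hc))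
  refine ⟨k', hk', Points.map (prod.map c (𝟙 _)) '' W', hop _ hW', ?_, ?_⟩
  · refine ⟨_, h1, ?_⟩
    rw [← hy2, ← Points.map_comp, ← Points.map_comp]
    exact congrArg (fun f => Points.map f y) sq.w
  · rw [K625.Points.map_preimage_image sq W']
    rintro _ ⟨z, hz, rfl⟩
    exact h2 hz

/-- A subset of `|X_Ω|` is saturated for `|X_Ω| ⟶ |X_{K'}|`. -/
def Sat (X : Sp (Spec (CommRingCat.of k))) (k' : IntermediateField K Ω)
    (V : Set (Points (bcs X Ω))) : Prop :=
  ∀ x y, Points.map (bcMap X (vk k')) x = Points.map (bcMap X (vk k')) y → x ∈ V → y ∈ V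

theorem Sat.mono {X : Sp (Spec (CommRingCat.of k))} {k₁ k₂ : IntermediateField K Ω}
    {V : Set (Points (bcs X Ω))} (h : Sat X k₁ V) (hk : k₁ ≤ k₂) : Sat X k₂ V := by
  intro x y e
  refine h x y ?_
  have h2 : homOf (vk k₂) ≫ homOf (ik hk) = homOf (k := k) (vk k₁) := by
    rw [K625.Tensor.homOf_comp]; rfl
  have : bcMap X (vk k₂) ≫ bcMap X (ik hk) = bcMap X (vk k₁) := by
    rw [bcMap, bcMap, bcMap, prod.map_map, Category.comp_id, ← Functor.map_comp, h2]
  rw [← this, Points.map_comp, Points.map_comp, e]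

theorem sat_preimage (X : Sp (Spec (CommRingCat.of k))) (k' : IntermediateField K Ω)
    (W' : Set (Points (bcs X k'))) : Sat X k' (Points.map (bcMap X (vk k')) ⁻¹' W') := by
  intro x y e hx
  rw [Set.mem_preimage, ← e]
  exact hx

/-- Compact open subsets of `|X_Ω|` come from a finite level over `K`. -/
theorem exists_sat (X : Space (Spec (CommRingCat.of k))) [Algebra.IsAlgebraic K Ω]
    (V : Set (Points (bcs X.obj Ω))) (hV : IsOpen V) (hVc : IsCompact V) :
    ∃ (k' : IntermediateField K Ω) (_ : FiniteDimensional K k'), Sat X.obj k' V := by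
  choose! kk hk W hW hx hWV using fun (x : Points (bcs X.obj Ω)) (hx : x ∈ V) =>
    exists_level (K := K) X x V hV hx
  obtain ⟨s, hsV⟩ := hVc.elim_nhds_subcover'
    (fun x hx => Points.map (bcMap X.obj (vk (kk x))) ⁻¹' (W x))
    (fun x hx' => ((hW x hx').preimage (Points.continuous_map _)).mem_nhds (hx x hx'))
  have : ∀ x : ↥V, FiniteDimensional K (kk x) := fun x => hk x x.2
  refine ⟨⨆ x ∈ s, kk x, IntermediateField.finiteDimensional_iSup_of_finset, ?_⟩
  intro x y e hxV
  obtain ⟨v, hv, hxv⟩ := Set.mem_iUnion₂.1 (hsV hxV)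
  exact hWV v v.2 (((sat_preimage X.obj (kk v) (W v)).mono (le_iSup₂_of_le v hv le_rfl)) x y e hxv)

/-- A saturated subset is the preimage of its image. -/
theorem Sat.preimage_image {X : Sp (Spec (CommRingCat.of k))} {k' : IntermediateField K Ω}
    {V : Set (Points (bcs X Ω))} (h : Sat X k' V) :
    Points.map (bcMap X (vk k')) ⁻¹' (Points.map (bcMap X (vk k')) '' V) = V := by
  refine Set.Subset.antisymm ?_ (Set.subset_preimage_image _ _)
  rintro y ⟨x, hx, e⟩
  exact h x y e hx

end K626.RelLevel
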