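import Groth.Agent.AlgSp.K626.GrpRat
import Groth.Agent.AlgSp.K626.RelLevel
import Groth.Agent.AlgSp.K626.FinLocus
/-!
# Descent of representability of a group algebraic space along an algebraic extension
-/

set_option autoImplicit false
universe u v
open CategoryTheory MonoidalCategory CartesianMonoidalCategory AlgebraicGeometry
open Topology TopologicalSpace
open AlgSp
open K625.Fld (fld bcs homOf bcMap)
open Opposite
open scoped TensorProduct

namespace K626.GrpDesc

open GrpTrans

variable {k : Type u} [Field k] {K : Type u} [Field K] [Algebra k K]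
  {Ω : Type u} [Field Ω] [Algebra k Ω] [Algebra K Ω] [IsScalarTower k K Ω]

variable (K Ω) in
/-- The structure map. -/
noncomputable abbrev al : K →ₐ[k] Ω := IsScalarTower.toAlgHom k K Ω

/-- The first inclusion. -/
noncomputable abbrev iL (k K Ω : Type u) [Field k] [Field K] [Algebra k K] [Field Ω] [Algebra k Ω]
    [Algebra K Ω] [IsScalarTower k K Ω] : Ω →ₐ[k] Ω ⊗[K] Ω := Algebra.TensorProduct.includeLeft

/-- The second inclusion. -/
noncomputable abbrev iR (k K Ω : Type u) [Field k] [Field K] [Algebra k K] [Field Ω] [Algebra k Ω]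
    [Algebra K Ω] [IsScalarTower k K Ω] : Ω →ₐ[k] Ω ⊗[K] Ω :=
  (Algebra.TensorProduct.includeRight : Ω →ₐ[K] Ω ⊗[K] Ω).restrictScalars k

theorem isPullback_tensor : IsPullback (homOf (iL k K Ω)) (homOf (iR k K Ω))
    (homOf (al (k := k) K Ω)) (homOf (al (k := k) K Ω)) :=
  K625.Tensor.isPullback_over (isPullback_SpecMap_of_isPushout _ _ _ _
    (CommRingCat.isPushout_tensorProduct K Ω Ω))

section

variable (X : Sp (Spec (CommRingCat.of k))) (T₀ : Over (Spec (CommRingCat.of k)))
  (e : (yon _).obj T₀ ≅ bcs X Ω) (q : T₀ ⟶ fld k Ω) (hq : (yon _).map q = e.hom ≫ Limits.prod.snd)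

include hq

/-- The points of `X_Ω` over the image in `X_K` of a rational point of `X_Ω` form an integral
family. -/
theorem exists_family (g : 𝟙_ (Over (Spec (CommRingCat.of Ω))) ⟶ Over.mk q.left) :
    ∃ f : (Over.mk (Spec.map (CommRingCat.ofHom (iL k K Ω).toRingHom)) :
      Over (Spec (CommRingCat.of Ω))) ⟶ Over.mk q.left,
      ∀ y : Points (bcs X Ω), Points.map (bcMap X (al (k := k) K Ω)) y =
        Points.map (bcMap X (al (k := k) K Ω)) (Points.ofPt e.hom (show ↥T₀.left from ev (X := Over.mk q.left) g)) →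
        ∃ t, y = Points.ofPt e.hom (show ↥T₀.left from f.left t) := by
  let α : K →ₐ[k] Ω := al (k := k) K Ω
  let β : bcs X Ω ⟶ bcs X K := bcMap X α
  have hgq : g.left ≫ q.left = 𝟙 (Spec (CommRingCat.of Ω)) := Over.w g
  have hqT : q.left ≫ Spec.map (CommRingCat.ofHom (algebraMap k Ω)) = T₀.hom := Over.w q
  let g₀ : fld k Ω ⟶ T₀ := Over.homMk g.left (by
    rw [← hqT, ← Category.assoc, hgq]
    exact Category.id_comp _)
  have hg₀ : g₀ ≫ q = 𝟙 _ := Over.OverMorphism.ext hgq
  obtain ⟨f₀, hf₀⟩ := (yon _).map_surjective (Limits.prod.lift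
    ((yon _).map (homOf (iR k K Ω) ≫ g₀) ≫ e.hom ≫ Limits.prod.fst)
    ((yon _).map (homOf (iL k K Ω))) ≫ e.inv)
  have hf₀e : (yon _).map f₀ ≫ e.hom = Limits.prod.lift
    ((yon _).map (homOf (iR k K Ω) ≫ g₀) ≫ e.hom ≫ Limits.prod.fst)
    ((yon _).map (homOf (iL k K Ω))) := by
    rw [hf₀, Category.assoc, e.inv_hom_id, Category.comp_id]
  have hf₀q : f₀ ≫ q = homOf (iL k K Ω) := by
    apply (yon _).map_injective
    rw [Functor.map_comp, hq, ← Category.assoc, hf₀e, Limits.prod.lift_snd]
  have hpt := isPullback_tensor (k := k) (K := K) (Ω := Ω)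
  have sq : IsPullback ((yon _).map f₀ ≫ e.hom) ((yon _).map (homOf (iR k K Ω))) β
      ((yon _).map g₀ ≫ e.hom ≫ β) := by
    refine IsPullback.of_right (h₁₂ := Limits.prod.snd) (h₂₂ := Limits.prod.snd)
      (v₁₃ := (yon _).map (homOf α)) ?_ ?_ (K625.Prod.isPullback_map_right X _)
    · have h1 : ((yon _).map f₀ ≫ e.hom) ≫ Limits.prod.snd = (yon _).map (homOf (iL k K Ω)) := by
        rw [hf₀e, Limits.prod.lift_snd]
      have h2 : ((yon _).map g₀ ≫ e.hom ≫ β) ≫ Limits.prod.snd = (yon _).map (homOf α) := by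
        rw [Category.assoc, Category.assoc, Limits.prod.map_snd, ← Category.assoc e.hom, ← hq,
          ← Category.assoc, ← Functor.map_comp, hg₀, CategoryTheory.Functor.map_id,
          Category.id_comp]
      rw [h1, h2]
      exact hpt.map (yon _)
    · apply Limits.prod.hom_ext
      · simp only [β, Category.assoc, Limits.prod.map_fst, Category.comp_id]
        rw [← Category.assoc, hf₀e, Limits.prod.lift_fst, Functor.map_comp, Category.assoc]
      · simp only [β, Category.assoc, Limits.prod.map_snd]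
        rw [← Category.assoc, hf₀e, Limits.prod.lift_snd_assoc, ← Category.assoc e.hom, ← hq,
          ← Category.assoc ((yon _).map g₀), ← Functor.map_comp _ g₀ q, hg₀,
          CategoryTheory.Functor.map_id, Category.id_comp, ← Functor.map_comp,
          ← Functor.map_comp, hpt.w]
  refine ⟨Over.homMk f₀.left (congrArg (·.left) hf₀q), fun y hy => ?_⟩
  obtain ⟨p, hp, -⟩ := K625.Points.exists_of_isPullback sq y
    (Points.ofScheme (fld k Ω) (IsLocalRing.closedPoint Ω : PrimeSpectrum Ω)) (by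
      rw [hy, ← Points.ofPt_eq_map_ofScheme, K625.Points.ofPt_yon_map_comp, Points.map_ofPt]
      rfl)
  obtain ⟨t, rfl⟩ := K625.Points.points_yon_surj p
  refine ⟨t, ?_⟩
  rw [← hp, ← Points.ofPt_eq_map_ofScheme, K625.Points.ofPt_yon_map_comp]
  rfl

end

theorem isIntegralHom_iL [Algebra.IsAlgebraic K Ω] :
    IsIntegralHom (Spec.map (CommRingCat.ofHom (iL k K Ω).toRingHom)) := by
  rw [IsIntegralHom.SpecMap_iff]
  exact algebraMap_isIntegral_iff.2 (inferInstance : Algebra.IsIntegral Ω (Ω ⊗[K] Ω))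

section

variable (G : Over ((yon (Spec (CommRingCat.of k))).obj (Over.mk (𝟙 _)))) [GrpObj G]
  (hG : IsAlgSpace G.left) (T₀ : Over (Spec (CommRingCat.of k)))
  (e : (yon _).obj T₀ ≅ bcs G.left Ω) (q : T₀ ⟶ fld k Ω)
  (hq : (yon _).map q = e.hom ≫ Limits.prod.snd)

include hG hq

/-- The image in `X_K` of a rational point of `X_Ω` is in the schematic locus. -/
theorem mem_locus [IsAlgClosed Ω] [Algebra.IsAlgebraic K Ω]
    (hR : RatDense (Over.mk q.left : Over (Spec (CommRingCat.of Ω))))
    (hK : IsAlgSpace (bcs G.left K)) (g : 𝟙_ (Over (Spec (CommRingCat.of Ω))) ⟶ Over.mk q.left) :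
    Points.map (bcMap G.left (al (k := k) K Ω))
      (Points.ofPt e.hom (show ↥T₀.left from ev (X := Over.mk q.left) g)) ∈
      K610.SchLocus.locus (⟨bcs G.left K, hK⟩ : Space (Spec (CommRingCat.of k))) := by
  let _ := K626.GrpSp.grp G T₀ e q hq
  let X : Space (Spec (CommRingCat.of k)) := ⟨G.left, hG⟩
  obtain ⟨f, hf⟩ := exists_family (K := K) G.left T₀ e q hq g
  have hint : IsIntegralHom (Over.mk (Spec.map (CommRingCat.ofHom (iL k K Ω).toRingHom)) :
      Over (Spec (CommRingCat.of Ω))).hom := isIntegralHom_iL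
  obtain ⟨W', hW', hWt'⟩ := GrpAff.exists_affine hR _ f
  obtain ⟨W, hW, hWt⟩ : ∃ W : T₀.left.Opens, IsAffineOpen W ∧
      ∀ t, (show ↥T₀.left from f.left t) ∈ W := ⟨W', hW', hWt'⟩
  have hbij : Function.Injective (Points.ofPt e.hom) :=
    (K625.Tensor.bijective_ofPt_of_isIso e.hom).1
  let V : Set (Points (bcs G.left Ω)) := Points.ofPt e.hom '' (W : Set ↥T₀.left)
  have hVo : IsOpen V := K625.Tensor.isOpenMap_ofPt_of_isIso e.hom _ W.2
  have hVc : IsCompact V := hW.isCompact.image (Points.continuous_ofPt e.hom)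
  obtain ⟨K', hK', hsat⟩ := K626.RelLevel.exists_sat (K := K) X V hVo hVc
  obtain ⟨V', j, hV', hj, hjr⟩ := K626.DescOpen.exists_affine_open X (K626.RelLevel.vk K') T₀ e q hq
    W hW (Points.map (bcMap G.left (K626.RelLevel.vk K')) '' V)
    (K625.Fld.isOpenMap_bcMap G.left (K626.RelLevel.vk K') _ hVo) (by
      ext z
      rw [Set.mem_preimage, ← Points.map_ofPt, ← Set.mem_preimage, hsat.preimage_image]
      exact ⟨fun ⟨w, hw, h⟩ => hbij h ▸ hw, fun h => ⟨z, h, rfl⟩⟩)
  have hA : IsAlgSpace (bcs G.left K') :=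
    K606.Boot.isAlgSpace_prod hG (IsAlgSpace.yon_obj (fld k K'))
  let γ : K →ₐ[k] K' := al (k := k) K K'
  have hγ : (homOf γ).left = Spec.map (CommRingCat.ofHom (algebraMap K K')) := rfl
  have h0 : IsFinite (homOf γ).left := by
    rw [hγ, IsFinite.SpecMap_iff]
    change (algebraMap K K').Finite
    rw [RingHom.finite_algebraMap]
    infer_instance
  have hfl : Flat (homOf γ).left := by
    rw [hγ, Flat.SpecMap_iff]
    change (algebraMap K K').Flat
    rw [RingHom.flat_algebraMap_iff]
    infer_instance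
  have hlfp : LocallyOfFinitePresentation (homOf γ).left := by
    rw [hγ, LocallyOfFinitePresentation.SpecMap_iff]
    change (algebraMap K K').FinitePresentation
    rw [RingHom.finitePresentation_algebraMap]
    exact Algebra.FinitePresentation.of_finiteType.1 inferInstance
  have hsj : Surjective (homOf γ).left := K625.Fld.surjective_homOf γ
  have hcomp : bcMap G.left (K626.RelLevel.vk K') ≫ bcMap G.left γ =
      bcMap G.left (al (k := k) K Ω) := by
    have h2 : homOf (K626.RelLevel.vk K') ≫ homOf γ = homOf (k := k) (al (k := k) K Ω) := by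
      rw [K625.Tensor.homOf_comp]; rfl
    rw [bcMap, bcMap, bcMap, Limits.prod.map_map, Category.comp_id, ← Functor.map_comp, h2]
  refine K626.FinLocus.mem_locus (Y := ⟨bcs G.left K', hA⟩) (bcMap G.left γ)
    (K625.Prod.repWith_map_right @IsFinite G.left _ h0)
    (K625.Prod.repWith_map_right @Flat G.left _ hfl)
    (K625.Prod.repWith_map_right @LocallyOfFinitePresentation G.left _ hlfp)
    (K625.Prod.repWith_map_right @Surjective G.left _ hsj) V' hV' j hj _ ?_
  intro y' hy'
  obtain ⟨y, rfl⟩ := K625.Fld.surjective_bcMap G.left (K626.RelLevel.vk K') y'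
  rw [hjr]
  obtain ⟨t, rfl⟩ := hf y (by rw [← hy', ← Points.map_comp, hcomp])
  exact ⟨_, ⟨_, hWt t, rfl⟩, rfl⟩

/-- If `G_Ω` is a scheme in which the rational points are dense in all locally closed subsets, then
`G_K` is a scheme, for `Ω` an algebraic closure of `K`. -/
theorem isRepresentable [IsAlgClosed Ω] [Algebra.IsAlgebraic K Ω]
    (hR : RatDense (Over.mk q.left : Over (Spec (CommRingCat.of Ω)))) :
    (bcs G.left K).obj.IsRepresentable := by
  have hK : IsAlgSpace (bcs G.left K) :=
    K606.Boot.isAlgSpace_prod hG (IsAlgSpace.yon_obj (fld k K))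
  let XK : Space (Spec (CommRingCat.of k)) := ⟨bcs G.left K, hK⟩
  change XK.obj.obj.IsRepresentable
  rw [K610.SchLocus.isRepresentable_iff_forall]
  suffices h : ∀ x : Points XK.obj, x ∈ K610.SchLocus.locus XK from
    fun x => K610.SchLocus.mem_locus_iff.1 (h x)
  intro x
  obtain ⟨y, rfl⟩ := K625.Fld.surjective_bcMap G.left (al (k := k) K Ω) x
  obtain ⟨t, rfl⟩ := (K625.Tensor.bijective_ofPt_of_isIso e.hom).2 y
  by_contra hx
  let O : Set ↥T₀.left := {t | Points.map (bcMap G.left (al (k := k) K Ω)) (Points.ofPt e.hom t) ∈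
    K610.SchLocus.locus XK}
  have hO : IsOpen O := (K610.SchLocus.isOpen_locus XK).preimage
    ((Points.continuous_map _).comp (Points.continuous_ofPt e.hom))
  obtain ⟨g, hg, -⟩ := hR (show Set ↥T₀.left from Oᶜ) Set.univ hO.isClosed_compl isOpen_univ
    ⟨t, hx, trivial⟩
  exact hg (mem_locus G hG T₀ e q hq hR hK g)

end

end K626.GrpDesc
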