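import Groth.Agent.AlgSp.K626.GrpSp
import Groth.Agent.AlgSp.K625.Level
import Groth.Agent.S2059
/-!
# Rational points over a big algebraically closed field
-/

set_option autoImplicit false
universe u v
open CategoryTheory MonoidalCategory CartesianMonoidalCategory AlgebraicGeometry
open Topology TopologicalSpace
open AlgSp
open K625.Fld (fld bcs homOf bcMap)
open K625.Tensor (tensorMap)
open Opposite
open scoped TensorProduct

namespace K626.GrpRat

variable {k : Type u} [Field k] {Ω : Type u} [Field Ω] [Algebra k Ω]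

/-- A locally closed subset of `Spec (A ⊗ Ω)` contains an `Ω`-rational point if `Ω` is algebraically
closed and bigger than `A`. -/
theorem exists_section [IsAlgClosed Ω] (A : Type u) [CommRing A] [Algebra k A]
    (hcard : Cardinal.mk A < Cardinal.mk Ω) (C D : Set (PrimeSpectrum (A ⊗[k] Ω))) (hC : IsClosed C)
    (hD : IsOpen D) (hne : (C ∩ D).Nonempty) :
    ∃ ψ : A ⊗[k] Ω →+* Ω, ψ.comp (Algebra.TensorProduct.includeRight : Ω →ₐ[k] A ⊗[k] Ω).toRingHom =
      RingHom.id Ω ∧ (PrimeSpectrum.comap ψ (IsLocalRing.closedPoint Ω)) ∈ C ∩ D := by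
  let B := A ⊗[k] Ω
  let _ : Algebra Ω B := (Algebra.TensorProduct.includeRight : Ω →ₐ[k] A ⊗[k] Ω).toRingHom.toAlgebra
  let s : Set B := Set.range fun a : A => a ⊗ₜ[k] (1 : Ω)
  have hs : Algebra.adjoin Ω s = ⊤ := by
    rw [eq_top_iff]
    rintro b -
    induction b using TensorProduct.induction_on with
    | zero => exact Subalgebra.zero_mem _
    | add x y hx hy => exact Subalgebra.add_mem _ hx hy
    | tmul a x =>
      have h1 : a ⊗ₜ[k] x = (a ⊗ₜ[k] (1 : Ω)) * algebraMap Ω B x := by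
        change _ = (a ⊗ₜ[k] (1 : Ω)) * (1 ⊗ₜ[k] x)
        rw [Algebra.TensorProduct.tmul_mul_tmul, mul_one, one_mul]
      rw [h1]
      exact Subalgebra.mul_mem _ (Algebra.subset_adjoin ⟨a, rfl⟩) (Subalgebra.algebraMap_mem _ _)
  obtain ⟨halg, hjac⟩ := Groth.Agent.S2059.result (k := Ω) (S := B) s hs
    (lt_of_le_of_lt Cardinal.mk_range_le hcard)
  obtain ⟨m, hm, hmc⟩ := nonempty_inter_closedPoints (X := PrimeSpectrum B) hne
    (hC.isLocallyClosed.inter hD.isLocallyClosed)
  have hmax : m.asIdeal.IsMaximal := (PrimeSpectrum.isClosed_singleton_iff_isMaximal m).1 hmc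
  have := halg m.asIdeal
  have hb : Function.Bijective (algebraMap Ω (B ⧸ m.asIdeal)) :=
    IsAlgClosed.algebraMap_bijective_of_isIntegral
  let r : (B ⧸ m.asIdeal) ≃+* Ω := (RingEquiv.ofBijective _ hb).symm
  refine ⟨(r : (B ⧸ m.asIdeal) →+* Ω).comp (Ideal.Quotient.mk m.asIdeal), ?_, ?_⟩
  · ext x
    exact (RingEquiv.ofBijective _ hb).symm_apply_apply x
  · convert hm
    refine PrimeSpectrum.ext (Ideal.ext fun a => ?_)
    change r (Ideal.Quotient.mk m.asIdeal a) ∈ IsLocalRing.maximalIdeal Ω ↔ _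
    rw [IsLocalRing.maximalIdeal_eq_bot, Ideal.mem_bot, map_eq_zero_iff r r.injective,
      Ideal.Quotient.eq_zero_iff_mem]

/-- Rational points are dense in all locally closed subsets of `X_Ω`, for `Ω` algebraically closed
and big. -/
theorem ratDense [IsAlgClosed Ω] (X : Sp (Spec (CommRingCat.of k)))
    (T₀ : Over (Spec (CommRingCat.of k))) (e : (yon _).obj T₀ ≅ bcs X Ω) (q : T₀ ⟶ fld k Ω)
    (hq : (yon _).map q = e.hom ≫ Limits.prod.snd)
    (V : Over (Spec (CommRingCat.of k))) (c : (yon _).obj V ⟶ X) (hcs : RepWith @Surjective c)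
    (hcard : ∀ W : V.left.Opens, IsAffineOpen W → Cardinal.mk Γ(V.left, W) < Cardinal.mk Ω) :
    GrpTrans.RatDense (Over.mk q.left : Over (Spec (CommRingCat.of Ω))) := by
  intro C D hC hD ⟨y, hy⟩
  change ↥T₀.left at y
  obtain ⟨v, hv⟩ := K625.Prod.surjective_ofPt hcs (Points.map Limits.prod.fst (Points.ofPt e.hom y))
  obtain ⟨W, hW, hvW, -⟩ := exists_isAffineOpen_mem_and_subset (X := V.left) (U := ⊤) (x := v) trivial
  obtain ⟨v', hv'⟩ : v ∈ Set.range hW.fromSpec := by rw [hW.range_fromSpec]; exact hvW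
  obtain ⟨φ, hφ⟩ : ∃ φ : CommRingCat.of k ⟶ Γ(V.left, W), Spec.map φ = hW.fromSpec ≫ V.hom :=
    ⟨_, Spec.map_preimage _⟩
  let A : Type u := Γ(V.left, W)
  let _ : Algebra k A := φ.hom.toAlgebra
  let j : fld k A ⟶ V := Over.homMk hW.fromSpec (by rw [← hφ]; rfl)
  let cA : (yon _).obj (fld k A) ⟶ X := (yon _).map j ≫ c
  have hcA : Points.ofPt cA (show ↥(fld k A).left from v') = Points.map Limits.prod.fst (Points.ofPt e.hom y) := by
    rw [K625.Points.ofPt_yon_map_comp, ← hv]
    congr 1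
  obtain ⟨p, hp1, hp2⟩ := K625.Points.exists_of_isPullback
    (K625.Prod.isPullback_map_left ((yon _).obj (fld k Ω)) cA)
    (Points.ofScheme _ (show ↥(fld k A).left from v')) (Points.ofPt e.hom y) (by
      rw [← hcA]; exact (Points.ofPt_eq_map_ofScheme cA _).symm)
  obtain ⟨w, rfl⟩ := (K625.Tensor.bijective_ofPt_of_isIso (tensorMap (k := k) A Ω)).2 p
  obtain ⟨θ, hθ⟩ := (yon _).map_surjective
    (tensorMap (k := k) A Ω ≫ Limits.prod.map cA (𝟙 _) ≫ e.inv)
  have hθy : θ.left w = y := by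
    have h1 : Points.ofPt e.hom (θ.left w) = Points.ofPt e.hom y := by
      rw [← K625.Points.ofPt_yon_map_comp, hθ]
      simp only [Category.assoc, e.inv_hom_id, Category.comp_id]
      rw [← Points.map_ofPt, hp2]
    exact (K625.Tensor.bijective_ofPt_of_isIso e.hom).1 h1
  have hθq : θ ≫ q = homOf Algebra.TensorProduct.includeRight := by
    apply (yon _).map_injective
    rw [Functor.map_comp, hθ, hq]
    simp only [Category.assoc, e.inv_hom_id_assoc, Limits.prod.map_snd, Category.comp_id]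
    rw [K625.Tensor.tensorMap_snd]
  obtain ⟨ψ, hψ, hm⟩ := exists_section (k := k) (Ω := Ω) A (hcard W hW)
    (θ.left ⁻¹' C) (θ.left ⁻¹' D) (hC.preimage θ.left.continuous) (hD.preimage θ.left.continuous)
    ⟨w, by rw [Set.mem_inter_iff, Set.mem_preimage, Set.mem_preimage, hθy]; exact hy⟩
  refine ⟨Over.homMk (Spec.map (CommRingCat.ofHom ψ) ≫ θ.left) ?_, ?_⟩
  · change (Spec.map (CommRingCat.ofHom ψ) ≫ θ.left) ≫ q.left = 𝟙 (Spec (CommRingCat.of Ω))
    have h1 : θ.left ≫ q.left = Spec.map (CommRingCat.ofHom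
        (Algebra.TensorProduct.includeRight : Ω →ₐ[k] A ⊗[k] Ω).toRingHom) := congrArg (·.left) hθq
    rw [Category.assoc, h1, ← Spec.map_comp, ← CommRingCat.ofHom_comp, hψ]
    exact Spec.map_id _
  · change (Spec.map (CommRingCat.ofHom ψ) ≫ θ.left) (IsLocalRing.closedPoint Ω) ∈ C ∩ D
    rw [Scheme.Hom.comp_apply]
    exact hm

end K626.GrpRat
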