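import Groth.Agent.AlgSp.K626.GrpAff
import Groth.Agent.AlgSp.K626.DescOpen
import Groth.Agent.AlgSp.K608.Grp
/-!
# The group scheme underlying a representable base change of a group algebraic space
-/

set_option autoImplicit false
universe u v
open CategoryTheory MonoidalCategory CartesianMonoidalCategory MonObj GrpObj AlgebraicGeometry
open Topology TopologicalSpace
open AlgSp
open K625.Fld (fld bcs homOf bcMap)
open Opposite

namespace K626.GrpSp

variable {k : Type u} [Field k] {Ω : Type u} [Field Ω] [Algebra k Ω]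

/-- Restriction of scalars. -/
noncomputable abbrev res (V : Over (Spec (CommRingCat.of Ω))) : Over (Spec (CommRingCat.of k)) :=
  Over.mk (V.hom ≫ Spec.map (CommRingCat.ofHom (algebraMap k Ω)))

noncomputable abbrev resMap {V W : Over (Spec (CommRingCat.of Ω))} (φ : V ⟶ W) :
    res (k := k) V ⟶ res (k := k) W :=
  Over.homMk φ.left (by
    change φ.left ≫ W.hom ≫ _ = V.hom ≫ _
    rw [← Category.assoc, Over.w])

noncomputable abbrev resStr (V : Over (Spec (CommRingCat.of Ω))) : res (k := k) V ⟶ fld k Ω :=
  Over.homMk V.hom rfl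

theorem base_ext {S : Scheme.{u}} {F : Sp S} (a b : F ⟶ (yon S).obj (Over.mk (𝟙 S))) : a = b :=
  (K625.Prod.isTerminalBase S).hom_ext a b

/-- Schemes over `Ω` as sheaves over the terminal sheaf over `k`. -/
noncomputable def R : Over (Spec (CommRingCat.of Ω)) ⥤
    Over ((yon (Spec (CommRingCat.of k))).obj (Over.mk (𝟙 _))) where
  obj V := Over.mk ((yon _).map (K625.Prod.toBase (res V)))
  map φ := Over.homMk ((yon _).map (resMap φ)) (base_ext _ _)
  map_id V := by
    apply Over.OverMorphism.ext
    exact (yon _).map_id _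
  map_comp f g := by
    apply Over.OverMorphism.ext
    exact (yon _).map_comp (resMap f) (resMap g)

variable (G : Over ((yon (Spec (CommRingCat.of k))).obj (Over.mk (𝟙 _)))) [GrpObj G]
  (T₀ : Over (Spec (CommRingCat.of k))) (e : (yon _).obj T₀ ≅ bcs G.left Ω) (q : T₀ ⟶ fld k Ω)
  (hq : (yon _).map q = e.hom ≫ Limits.prod.snd)

/-- Morphisms to `T₀` over `Ω`. -/
noncomputable def toT {V : Over (Spec (CommRingCat.of Ω))} (a : V ⟶ Over.mk q.left) : res V ⟶ T₀ :=
  Over.homMk a.left (by
    have h1 := Over.w a
    have h2 := Over.w q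
    change a.left ≫ q.left = V.hom at h1
    change q.left ≫ Spec.map (CommRingCat.ofHom (algebraMap k Ω)) = T₀.hom at h2
    change a.left ≫ T₀.hom = V.hom ≫ _
    rw [← h2, ← h1, Category.assoc])

theorem toT_q {V : Over (Spec (CommRingCat.of Ω))} (a : V ⟶ Over.mk q.left) :
    toT T₀ q a ≫ q = resStr V := by
  apply Over.OverMorphism.ext
  exact Over.w a

/-- Points of the base change. -/
noncomputable def hom {V : Over (Spec (CommRingCat.of Ω))} (a : V ⟶ Over.mk q.left) : R.obj V ⟶ G :=
  Over.homMk ((yon _).map (toT T₀ q a) ≫ e.hom ≫ Limits.prod.fst) (base_ext _ _)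

include hq in
omit [GrpObj G] in
theorem bijective_hom (V : Over (Spec (CommRingCat.of Ω))) :
    Function.Bijective (hom G T₀ e q (V := V)) := by
  constructor
  · intro a b h
    have h1 : (yon _).map (toT T₀ q a) ≫ e.hom ≫ Limits.prod.fst =
        (yon _).map (toT T₀ q b) ≫ e.hom ≫ Limits.prod.fst := congrArg (·.left) h
    have h2 : (yon _).map (toT T₀ q a) ≫ e.hom ≫ Limits.prod.snd =
        (yon _).map (toT T₀ q b) ≫ e.hom ≫ Limits.prod.snd := by
      rw [← hq, ← Functor.map_comp, ← Functor.map_comp, toT_q, toT_q]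
    have h3 : (yon _).map (toT T₀ q a) ≫ e.hom = (yon _).map (toT T₀ q b) ≫ e.hom := by
      apply Limits.prod.hom_ext
      · simpa using h1
      · simpa using h2
    rw [cancel_mono] at h3
    have h4 := (yon _).map_injective h3
    apply Over.OverMorphism.ext
    exact congrArg (·.left) h4
  · intro b
    obtain ⟨c, hc⟩ := (yon _).map_surjective
      (Limits.prod.lift b.left ((yon _).map (resStr V)) ≫ e.inv)
    have hcq : c ≫ q = resStr V := by
      apply (yon _).map_injective
      rw [Functor.map_comp, hc, hq, Category.assoc, e.inv_hom_id_assoc, Limits.prod.lift_snd]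
    refine ⟨Over.homMk c.left (congrArg (·.left) hcq), ?_⟩
    apply Over.OverMorphism.ext
    change (yon _).map c ≫ e.hom ≫ Limits.prod.fst = b.left
    rw [hc, Category.assoc, e.inv_hom_id_assoc, Limits.prod.lift_fst]

/-- The base change is representable by a group scheme. -/
noncomputable def repBy : ((R (k := k) (Ω := Ω)).op ⋙ yonedaGrpObj G ⋙ forget _).RepresentableBy
    (Over.mk q.left) where
  homEquiv {V} := Equiv.ofBijective (hom G T₀ e q (V := V)) (bijective_hom G T₀ e q hq V)
  homEquiv_comp {V W} f g := by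
    apply Over.OverMorphism.ext
    change (yon _).map (toT T₀ q (f ≫ g)) ≫ e.hom ≫ Limits.prod.fst =
      (yon _).map (resMap f) ≫ (yon _).map (toT T₀ q g) ≫ e.hom ≫ Limits.prod.fst
    rw [← Category.assoc ((yon _).map (resMap f)), ← Functor.map_comp]
    rfl

/-- The group structure. -/
@[reducible]
noncomputable def grp : GrpObj (Over.mk q.left : Over (Spec (CommRingCat.of Ω))) :=
  GrpObj.ofRepresentableBy _ ((R (k := k) (Ω := Ω)).op ⋙ yonedaGrpObj G) (repBy G T₀ e q hq)

end K626.GrpSp
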