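import Groth.Agent.AlgSp.K626.GenCont
import Groth.Agent.Localalg.GrpSchComp2
/-!
# Translations of a group scheme over a field and continuity of the generic point map
-/

set_option autoImplicit false
universe u v
open CategoryTheory MonoidalCategory CartesianMonoidalCategory MonObj GrpObj AlgebraicGeometry
open Topology TopologicalSpace

namespace K626.GrpTrans

open Groth.Agent.Localalg.GrpSchComp Groth.Agent.Localalg.GrpSchPts
open Groth.Agent.Localalg

section cat

variable {C : Type u} [Category.{v} C] [CartesianMonoidalCategory C] (G : C) [GrpObj G]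

/-- Left and right translation by `x`. -/
def bt (x y : 𝟙_ C ⟶ G) : G ≅ G where
  hom := (toUnit G ≫ x) * 𝟙 G * (toUnit G ≫ y)
  inv := (toUnit G ≫ x)⁻¹ * 𝟙 G * (toUnit G ≫ y)⁻¹
  hom_inv_id := by
    simp only [comp_mul, comp_inv, Category.comp_id]
    rw [← Category.assoc, ← Category.assoc, toUnit_unique (((_ : G ⟶ G)) ≫ toUnit G) (toUnit G)]
    group
  inv_hom_id := by
    simp only [comp_mul, comp_inv, Category.comp_id]
    rw [← Category.assoc, ← Category.assoc, toUnit_unique (((_ : G ⟶ G)) ≫ toUnit G) (toUnit G)]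
    group

variable {G}

theorem comp_bt {T : C} (a : T ⟶ G) (x y : 𝟙_ C ⟶ G) :
    a ≫ (bt G x y).hom = (toUnit T ≫ x) * a * (toUnit T ≫ y) := by
  simp only [bt, comp_mul, Category.comp_id]
  rw [← Category.assoc, ← Category.assoc, toUnit_unique (a ≫ toUnit G) (toUnit T)]

theorem comp_bt_unit (a x y : 𝟙_ C ⟶ G) : a ≫ (bt G x y).hom = x * a * y := by
  rw [comp_bt, toUnit_unique (toUnit (𝟙_ C)) (𝟙 _), Category.id_comp, Category.id_comp]

theorem bt_comm (x y : 𝟙_ C ⟶ G) : (bt G x 1).hom ≫ (bt G 1 y).hom =
    (bt G 1 y).hom ≫ (bt G x 1).hom := by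
  have e1 : ∀ a b : 𝟙_ C ⟶ G, (bt G a b).hom = (toUnit G ≫ a) * 𝟙 G * (toUnit G ≫ b) :=
    fun _ _ => rfl
  rw [comp_bt, comp_bt, e1, e1, comp_one]
  group

end cat

section field

variable {K : Type u} [Field K] (G : Over (Spec (CommRingCat.of K))) [GrpObj G]

/-- The point of a scheme over `K` given by a rational point. -/
noncomputable def ev {X : Over (Spec (CommRingCat.of K))} (g : 𝟙_ (Over (Spec (CommRingCat.of K))) ⟶ X) :
    X.left := g.left (IsLocalRing.closedPoint K : PrimeSpectrum K)

theorem ev_comp {X Y : Over (Spec (CommRingCat.of K))}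
    (g : 𝟙_ (Over (Spec (CommRingCat.of K))) ⟶ X) (f : X ⟶ Y) : ev (g ≫ f) = f.left (ev g) :=
  comp_left_apply _ _ _

/-- The generic point of the irreducible component of a point. -/
noncomputable def gen (x : G.left) : G.left :=
  (isIrreducible_irreducibleComponent (x := x)).genericPoint

theorem gen_gen : GenCont.Gen (gen G) where
  spec x := ((isIrreducible_irreducibleComponent (x := x)).isGenericPoint_genericPoint
    isClosed_irreducibleComponent).specializes mem_irreducibleComponent
  eq {x y} h := by
    have h1 : irreducibleComponent y = irreducibleComponent x :=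
      (uniqueGen G x).eq_of_mem (irreducibleComponent_mem_irreducibleComponents y)
        (irreducibleComponent_mem_irreducibleComponents x)
        (h.mem_closed isClosed_irreducibleComponent mem_irreducibleComponent)
        mem_irreducibleComponent
    unfold gen
    congr 1

/-- The action of two-sided translations on points. -/
noncomputable def bth (x y : 𝟙_ (Over (Spec (CommRingCat.of K))) ⟶ G) : G.left ≃ₜ G.left :=
  Scheme.homeoOfIso ((Over.forget _).mapIso (bt G x y))

theorem bth_apply (x y : 𝟙_ (Over (Spec (CommRingCat.of K))) ⟶ G) (z : G.left) :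
    bth G x y z = (bt G x y).hom.left z := rfl

theorem bth_ev (x y a : 𝟙_ (Over (Spec (CommRingCat.of K))) ⟶ G) :
    bth G x y (ev a) = ev (x * a * y) := by
  rw [bth_apply, ← ev_comp, comp_bt_unit]

/-- Rational points are dense in every locally closed subset. -/
def RatDense (X : Over (Spec (CommRingCat.of K))) : Prop :=
  ∀ C D : Set X.left, IsClosed C → IsOpen D → (C ∩ D).Nonempty →
    ∃ g : 𝟙_ (Over (Spec (CommRingCat.of K))) ⟶ X, ev g ∈ C ∩ D

variable {G}

omit [GrpObj G] in
theorem exists_specializes (hR : RatDense G) (x : G.left) :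
    ∃ g : 𝟙_ (Over (Spec (CommRingCat.of K))) ⟶ G, x ⤳ ev g := by
  obtain ⟨g, hg, -⟩ := hR (closure {x}) Set.univ isClosed_closure isOpen_univ
    ⟨x, subset_closure rfl, trivial⟩
  exact ⟨g, specializes_iff_mem_closure.2 hg⟩

theorem gen_ev (g : 𝟙_ (Over (Spec (CommRingCat.of K))) ⟶ G) :
    gen G (ev g) = bth G g 1 (gen G (ev 1)) := by
  rw [← (gen_gen G).homeo, bth_ev, _root_.mul_one, _root_.mul_one]

/-- Right translation by a point of the identity component fixes all generic points. -/
theorem bth_gen (hR : RatDense G) {g : 𝟙_ (Over (Spec (CommRingCat.of K))) ⟶ G}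
    (hg : gen G (ev g) = gen G (ev 1)) (x : G.left) : bth G 1 g (gen G x) = gen G x := by
  obtain ⟨c, hc⟩ := exists_specializes hR x
  rw [(gen_gen G).eq hc, gen_ev c]
  have h1 : ∀ z, bth G 1 g (bth G c 1 z) = bth G c 1 (bth G 1 g z) := by
    intro z
    simp only [bth_apply]
    rw [← comp_left_apply, ← comp_left_apply, bt_comm]
  rw [h1, ← (gen_gen G).homeo, bth_ev, _root_.mul_one, _root_.one_mul, hg]

theorem continuous_gen (hR : RatDense G) : Continuous (gen G) := by
  refine continuous_def.2 fun D hD => isOpen_iff_mem_nhds.2 fun x hx => ?_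
  obtain ⟨c, hc⟩ := exists_specializes hR x
  have hx' : gen G (ev c) ∈ D := by rw [← (gen_gen G).eq hc]; exact hx
  -- a rational point of the identity component moving `c` into `D`
  obtain ⟨g, hg1, hg2⟩ := hR (closure {gen G (ev 1)}) (bth G c 1 ⁻¹' D) isClosed_closure
    (hD.preimage (bth G c 1).continuous) ⟨gen G (ev 1), subset_closure rfl, by
      rw [Set.mem_preimage, ← gen_ev]; exact hx'⟩
  have hg : gen G (ev g) = gen G (ev 1) := by
    rw [← (gen_gen G).eq (specializes_iff_mem_closure.2 hg1), (gen_gen G).idem]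
  refine Filter.mem_of_superset ((hD.preimage (bth G 1 g).continuous).mem_nhds ?_) ?_
  · refine (hc.map (bth G 1 g).continuous).mem_open hD ?_
    rw [bth_ev, _root_.one_mul]
    rw [Set.mem_preimage, bth_ev, _root_.mul_one] at hg2
    exact hg2
  · intro y hy
    have h1 : bth G 1 g (gen G y) ∈ D :=
      (((gen_gen G).spec y).map (bth G 1 g).continuous).mem_open hD hy
    rwa [bth_gen hR hg] at h1

end field

end K626.GrpTrans
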