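import Groth.Agent.AlgSp.K626.W5Base
import Groth.Prelude.Def_AlgSpGpd
import Mathlib.CategoryTheory.Monoidal.Cartesian.Grp

/-!
# Actions of group algebraic spaces over a scheme on generalized points; translations
-/

set_option autoImplicit false
set_option backward.isDefEq.respectTransparency false
universe u

open CategoryTheory CategoryTheory.Limits AlgebraicGeometry Opposite TopologicalSpace
open MonoidalCategory CartesianMonoidalCategory MonObj

namespace K626.HomAct

open AlgSp

variable {S : Scheme.{u}}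

/-- the base as an object of `Over` itself -/
noncomputable abbrev tb (S : Scheme.{u}) : IsTerminal ((yon S).obj (Over.mk (𝟙 S))) := K625.Prod.isTerminalBase S

/-- a sheaf over `S` as an object over the base -/
noncomputable abbrev ob (Z : Sp S) : Over ((yon S).obj (Over.mk (𝟙 S))) := Over.mk ((tb S).from Z)

/-- a generalized point as a morphism over the base -/
noncomputable abbrev up {Z : Sp S} {G : Over ((yon S).obj (Over.mk (𝟙 S)))} (f : Z ⟶ G.left) : ob Z ⟶ G :=
  Over.homMk f ((tb S).hom_ext _ _)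

theorem up_left {Z : Sp S} {G : Over ((yon S).obj (Over.mk (𝟙 S)))} (f : ob Z ⟶ G) : up f.left = f := by
  ext1
  rfl

/-- morphisms of sheaves as morphisms over the base -/
noncomputable abbrev mp {Z Z' : Sp S} (f : Z ⟶ Z') : ob Z ⟶ ob Z' := Over.homMk f ((tb S).hom_ext _ _)

theorem mp_up {Z Z' : Sp S} {G : Over ((yon S).obj (Over.mk (𝟙 S)))} (φ : Z ⟶ Z') (f : Z' ⟶ G.left) :
    mp φ ≫ up f = up (φ ≫ f) := by
  ext1
  rfl

variable {G Y : Over ((yon S).obj (Over.mk (𝟙 S)))} [GrpObj G] (a : GAction G Y)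

/-- the action on generalized points -/
noncomputable def smul {Z : Sp S} (g : Z ⟶ G.left) (y : Z ⟶ Y.left) : Z ⟶ Y.left :=
  (lift (up g) (up y) ≫ a.act).left

/-- inverse of a generalized point of the group -/
noncomputable def ginv {Z : Sp S} (g : Z ⟶ G.left) : Z ⟶ G.left := ((up g)⁻¹ : ob Z ⟶ G).left

/-- product of generalized points of the group -/
noncomputable def gmul {Z : Sp S} (g h : Z ⟶ G.left) : Z ⟶ G.left := (up g * up h : ob Z ⟶ G).left

theorem comp_smul {Z Z' : Sp S} (φ : Z ⟶ Z') (g : Z' ⟶ G.left) (y : Z' ⟶ Y.left) :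
    φ ≫ smul a g y = smul a (φ ≫ g) (φ ≫ y) := by
  have h : mp φ ≫ lift (up g) (up y) = lift (up (φ ≫ g)) (up (φ ≫ y)) := by
    rw [comp_lift, mp_up, mp_up]
  have := congrArg (fun f => (f ≫ a.act).left) h
  exact this

theorem comp_ginv {Z Z' : Sp S} (φ : Z ⟶ Z') (g : Z' ⟶ G.left) : φ ≫ ginv g = ginv (φ ≫ g) := by
  have h : mp φ ≫ (up g)⁻¹ = (up (φ ≫ g))⁻¹ := by
    rw [GrpObj.comp_inv, mp_up]
  exact congrArg (fun f => f.left) h

theorem comp_gmul {Z Z' : Sp S} (φ : Z ⟶ Z') (g h : Z' ⟶ G.left) : φ ≫ gmul g h = gmul (φ ≫ g) (φ ≫ h) := by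
  have h : mp φ ≫ (up g * up h) = up (φ ≫ g) * up (φ ≫ h) := by
    rw [MonObj.comp_mul, mp_up, mp_up]
  exact congrArg (fun f => f.left) h

theorem lift_mul_act {T : Over ((yon S).obj (Over.mk (𝟙 S)))} (g h : T ⟶ G) (y : T ⟶ Y) :
    lift (g * h) y ≫ a.act = lift g (lift h y ≫ a.act) ≫ a.act := by
  have h1 : lift (g * h) y = lift (lift g h) y ≫ (μ[G] ▷ Y) := by
    rw [lift_whiskerRight, Hom.mul_def]
  rw [h1, Category.assoc, a.mul_act, ← Category.assoc, lift_lift_associator_hom, ← Category.assoc,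
    lift_whiskerLeft]

theorem lift_one_act {T : Over ((yon S).obj (Over.mk (𝟙 S)))} (y : T ⟶ Y) :
    lift (1 : T ⟶ G) y ≫ a.act = y := by
  have h1 : lift (1 : T ⟶ G) y = lift (toUnit T) y ≫ (η[G] ▷ Y) := by
    rw [lift_whiskerRight, Hom.one_def]
  rw [h1, Category.assoc, a.one_act]
  simp

theorem smul_smul {Z : Sp S} (g h : Z ⟶ G.left) (y : Z ⟶ Y.left) :
    smul a g (smul a h y) = smul a (gmul g h) y := by
  have := lift_mul_act a (up g) (up h) (up y)
  unfold smul gmul
  rw [up_left, up_left, this]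

theorem smul_one {Z : Sp S} (y : Z ⟶ Y.left) : smul a ((1 : ob Z ⟶ G).left) y = y := by
  have := lift_one_act a (up y)
  unfold smul
  rw [up_left, this]
  rfl

theorem smul_ginv {Z : Sp S} (g : Z ⟶ G.left) (y : Z ⟶ Y.left) : smul a g (smul a (ginv g) y) = y := by
  rw [smul_smul]
  unfold gmul ginv
  rw [up_left, mul_inv_cancel]
  exact smul_one a y

theorem ginv_smul {Z : Sp S} (g : Z ⟶ G.left) (y : Z ⟶ Y.left) : smul a (ginv g) (smul a g y) = y := by
  rw [smul_smul]
  unfold gmul ginv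
  rw [up_left, inv_mul_cancel]
  exact smul_one a y

variable {T : Sp S}

/-- the translation by a `T`-valued point -/
noncomputable def tr (g : T ⟶ G.left) : Y.left ⨯ T ⟶ Y.left ⨯ T :=
  prod.lift (smul a (prod.snd ≫ g) prod.fst) prod.snd

theorem comp_tr {Z : Sp S} (g : T ⟶ G.left) (f : Z ⟶ Y.left ⨯ T) :
    f ≫ tr a g = prod.lift (smul a (f ≫ prod.snd ≫ g) (f ≫ prod.fst)) (f ≫ prod.snd) := by
  unfold tr
  apply Limits.prod.hom_ext
  · rw [Category.assoc, prod.lift_fst, prod.lift_fst, comp_smul]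
  · rw [Category.assoc, prod.lift_snd, prod.lift_snd]

/-- the translation as an isomorphism -/
noncomputable def trIso (g : T ⟶ G.left) : Y.left ⨯ T ≅ Y.left ⨯ T where
  hom := tr a g
  inv := tr a (ginv g)
  hom_inv_id := by
    rw [comp_tr]
    unfold tr
    rw [prod.lift_fst, prod.lift_snd, ← Category.assoc, prod.lift_snd, comp_ginv, ginv_smul]
    apply Limits.prod.hom_ext <;> simp
  inv_hom_id := by
    rw [comp_tr]
    unfold tr
    rw [prod.lift_fst, prod.lift_snd, ← Category.assoc, prod.lift_snd, comp_ginv, smul_ginv]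
    apply Limits.prod.hom_ext <;> simp

/-- The action is transitive on points with values in algebraically closed fields. -/
def Trans : Prop :=
  ∀ (K : Type u) [Field K] [IsAlgClosed K] (str : Spec (CommRingCat.of K) ⟶ S)
    (x y : (yon S).obj (Over.mk str) ⟶ Y.left), ∃ g : (yon S).obj (Over.mk str) ⟶ G.left, smul a g x = y

end K626.HomAct
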