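import Groth.Agent.AlgSp.K626.HomW5
import Groth.Agent.AlgSp.K622.AnDefs
import Groth.Agent.AlgSp.K629.LocSurj
import Groth.Agent.S10454

/-!
# Homogeneous spaces: transitivity on points with values in algebraically closed fields; (W5) for `Sit`
-/

set_option autoImplicit false
set_option backward.isDefEq.respectTransparency false
universe u

open CategoryTheory CategoryTheory.Limits AlgebraicGeometry Opposite TopologicalSpace
open MonoidalCategory CartesianMonoidalCategory MonObj

namespace K626.HomEpi

open AlgSp K610.SchLocus K626.W5 K626.HomAct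

variable {S : Scheme.{u}} {G Y : Over ((yon S).obj (Over.mk (𝟙 S)))} [GrpObj G] (a : GAction G Y)

theorem smul_of_left {Z : Sp S} (L : Z ⟶ (G ⊗ Y).left) :
    smul a ((up L ≫ fst G Y).left) ((up L ≫ snd G Y).left) = (up L ≫ a.act).left := by
  unfold smul
  rw [up_left, up_left, ← comp_lift, lift_fst_snd, Category.comp_id]

/-- transitivity on points with values in algebraically closed fields -/
theorem trans_of_epi (he : Epi (lift a.act (snd G Y)).left) : Trans a := by
  intro K _ _ str x y
  obtain ⟨I, W, c, l, hl, hc, hs⟩ := K629.Fppf.exists_lift ((Sheaf.isLocallySurjective_iff_epi _).2 he)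
    ((lift (up y) (up x)).left : (yon S).obj (Over.mk str) ⟶ (Y ⊗ Y).left)
  obtain ⟨i, w, -⟩ := hs (IsLocalRing.closedPoint K)
  have : Nonempty (W i).left := ⟨w⟩
  have hlfp : LocallyOfFinitePresentation (c i).left := (hc i).2
  obtain ⟨q, hq⟩ := exists_ratPt_of_nonempty (K := K) (show (W i).left ⟶ Spec (CommRingCat.of K) from (c i).left)
  let σ : Over.mk str ⟶ W i := Over.homMk q (by
    rw [← Over.w (c i)]
    exact (reassoc_of% hq) str)
  have hσ : σ ≫ c i = 𝟙 _ := by
    ext1
    exact hq
  let L : (yon S).obj (Over.mk str) ⟶ (G ⊗ Y).left := (yon S).map σ ≫ l i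
  have hL : L ≫ (lift a.act (snd G Y)).left = (lift (up y) (up x)).left := by
    change ((yon S).map σ ≫ l i) ≫ (lift a.act (snd G Y)).left = _
    rw [Category.assoc, hl i, ← Category.assoc, ← Functor.map_comp, hσ, CategoryTheory.Functor.map_id,
      Category.id_comp]
  have hL' : up L ≫ lift a.act (snd G Y) = lift (up y) (up x) := by
    apply Over.OverMorphism.ext
    exact hL
  have h1 : up L ≫ a.act = up y := by
    have := congrArg (fun f => f ≫ fst Y Y) hL'
    simpa using this
  have h2 : up L ≫ snd G Y = up x := by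
    have := congrArg (fun f => f ≫ snd Y Y) hL'
    simpa using this
  refine ⟨(up L ≫ fst G Y).left, ?_⟩
  have h3 := smul_of_left a L
  rw [h1, h2] at h3
  exact h3

/-- points of codimension at most one lie in the schematic locus (S10454) -/
theorem codimOne (S : Scheme.{u}) [S.IsSeparated] : CodimOne S := by
  intro X hsep hN x hx
  obtain ⟨X', j, hj, hr, hxj⟩ := Groth.Agent.S10454.result X hsep hN x hx
  exact IsSch.subset_locus ((isSch_iff hj).2 hr) hxj

open K622.AnDefs in
/-- (W5) in the situation `Sit` -/
theorem w5 {R : Type u} [CommRing R] [IsDedekindDomain R] (K : Type u) [Field K] [Algebra R K] [IsFractionRing R K]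
    {G M : Over ((yon (Spec (CommRingCat.of R))).obj (Over.mk (𝟙 (Spec (CommRingCat.of R)))))} [GrpObj G]
    {act : GAction G M} {X : Sp (Spec (CommRingCat.of R))} {i : X ⟶ M.left} (h : Sit act i)
    (hfl : K632.FlatClos.FlatSp G.left) :
    ∃ (K₁ : Type u) (_ : Field K₁) (_ : Algebra K K₁), FiniteDimensional K K₁ ∧
      ∀ (K₂ : Type u) [Field K₂] [Algebra K K₂] [Algebra R K₂] [IsScalarTower R K K₂] (_ : K₁ →ₐ[K] K₂),
        (X ⨯ (yon _).obj (alg R (integralClosure R K₂))).obj.IsRepresentable := by
  have : Mono i := K610.Factor.mono_of_isOpenImmersion h.op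
  have hX : IsAlgSpace X := K610.Sub.isAlgSpace_of_mono h.op.1 h.algM
  exact HomW5.main act K (trans_of_epi act h.hom) h.algG h.lftG ((K632.FlatClos.flatSp_iff _).1 hfl) h.algM h.lftM
    h.sepM (codimOne _) ⟨X, hX⟩ i h.op h.qc

end K626.HomEpi
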