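import Groth.Agent.AlgSp.K626.HomFld
import Groth.Agent.AlgSp.K647.EtLoc

/-!
# Finite sets of rational points of a homogeneous space over an algebraically closed field lie in an affine open
-/

set_option autoImplicit false
set_option backward.isDefEq.respectTransparency false
universe u

open CategoryTheory CategoryTheory.Limits AlgebraicGeometry Opposite TopologicalSpace Topology

namespace K626.HomFA

open AlgSp K610.SchLocus K626.W5 K626.HomAct K626.HomPt K626.HomFld

variable {S : Scheme.{u}} {κ : Type u} [Field κ] [IsAlgClosed κ] {str : Spec (CommRingCat.of κ) ⟶ S}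
  {G Y : Over ((yon S).obj (Over.mk (𝟙 S)))} [GrpObj G] {a : GAction G Y}

/-- the points of a representable sheaf -/
noncomputable def homeoOfIso {X : Sp S} {Z : Over S} (e : (yon S).obj Z ≅ X) : Z.left ≃ₜ Points X where
  toFun := Points.ofPt e.hom
  invFun x := (Points.schemeHomeo Z).symm (Points.map e.inv x)
  left_inv z := by
    change (Points.schemeHomeo Z).symm (Points.map e.inv (Points.ofPt e.hom z)) = z
    rw [Points.map_ofPt, e.hom_inv_id]
    exact (Points.schemeHomeo Z).symm_apply_apply z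
  right_inv x := by
    have h := (Points.schemeHomeo Z).apply_symm_apply (Points.map e.inv x)
    rw [Points.ofPt_eq_map_ofScheme]
    change Points.map e.hom ((Points.schemeHomeo Z) _) = x
    rw [h, ← Points.map_comp, e.inv_hom_id, Points.map_id]
  continuous_toFun := Points.continuous_ofPt _
  continuous_invFun := (Points.schemeHomeo Z).symm.continuous.comp (Points.continuous_map _)

theorem homeoOfIso_apply {X : Sp S} {Z : Over S} (e : (yon S).obj Z ≅ X) (z : Z.left) :
    homeoOfIso e z = Points.ofPt e.hom z := rfl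

/-- the key point: orbit maps restricted to irreducible open sets hit the generic point -/
theorem exists_mem_gen (ha : Trans a) (hG : IsAlgSpace G.left) (hGft : LocP @LocallyOfFiniteType G.hom)
    {η : Points (Y.left ⨯ (yon S).obj (Over.mk str)) → Points (Y.left ⨯ (yon S).obj (Over.mk str))}
    [QuasiSober (Points (Y.left ⨯ (yon S).obj (Over.mk str)))] [T0Space (Points (Y.left ⨯ (yon S).obj (Over.mk str)))]
    (hη : GenCont.Gen η)
    {N : Set (Points (G.left ⨯ (yon S).obj (Over.mk str)))} (hN : IsOpen N) (hi : IsIrreducible N)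
    {g₁ : (yon S).obj (Over.mk str) ⟶ G.left} (hg₁ : pX str g₁ ∈ N) (y : (yon S).obj (Over.mk str) ⟶ Y.left) :
    ∃ w ∈ N, Points.map (orbT a y) w = η (pX str (smul a g₁ y)) := by
  -- the translates of `N` cover
  let Q : Set (Points (G.left ⨯ (yon S).obj (Over.mk str))) :=
    ⋃ h : (yon S).obj (Over.mk str) ⟶ G.left, Points.map (trIso (K622.AnDefs.selfAct G) h).hom '' N
  have hQo : IsOpen Q := isOpen_iUnion fun h =>
    (trHomeo str (K622.AnDefs.selfAct G) h).isOpenMap N hN
  have hQst : ∀ (g : (yon S).obj (Over.mk str) ⟶ G.left), ∀ x ∈ Q,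
      Points.map (trIso (K622.AnDefs.selfAct G) g).hom x ∈ Q := by
    intro g x hx
    obtain ⟨_, ⟨h, rfl⟩, w, hw, rfl⟩ := hx
    refine Set.mem_iUnion.2 ⟨gmul g h, w, hw, ?_⟩
    rw [← Points.map_comp]
    congr 1
    refine Eq.trans ?_ (comp_tr (K622.AnDefs.selfAct G) g _).symm
    change tr _ _ = prod.lift (smul _ (tr _ _ ≫ _) (tr _ _ ≫ _)) (tr _ _ ≫ _)
    unfold tr
    rw [prod.lift_fst, prod.lift_snd, ← Category.assoc, prod.lift_snd, HomAct.smul_smul, comp_gmul]
  have hQ : Q = Set.univ := eq_univ_of_stable str (K622.AnDefs.selfAct G) trans_self hG hGft hQo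
    ⟨_, Set.mem_iUnion.2 ⟨g₁, pX str g₁, hg₁, rfl⟩⟩ hQst
  obtain ⟨w, hw⟩ := surjective_orbT a ha y (η (pX str (smul a g₁ y)))
  have hwQ : w ∈ Q := hQ ▸ Set.mem_univ w
  obtain ⟨h, w', hw', rfl⟩ := Set.mem_iUnion.1 hwQ
  rw [map_tr_orbT] at hw
  -- the maximal point `ξ'`
  set ξ := η (pX str (smul a g₁ y)) with hξ
  let ξ' := Points.map (orbT a y) w'
  have hmax : ∀ z, z ⤳ ξ' → z = ξ' := by
    intro z hz
    have h1 : Points.map (trIso a h).hom z ⤳ ξ := by
      rw [← hw]
      exact hz.map (Points.continuous_map _)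
    have h2 : Points.map (trIso a h).hom z = ξ := hη.eq_of_specializes h1
    rw [← hw] at h2
    exact (trHomeo str a h).injective h2
  have him : IsIrreducible (Points.map (orbT a y) '' N) := hi.image _ (Points.continuous_map _).continuousOn
  let ζ := him.genericPoint
  have hζ : IsGenericPoint ζ (closure (Points.map (orbT a y) '' N)) := him.isGenericPoint_genericPoint_closure
  have h3 : ζ ⤳ ξ' := hζ.specializes (subset_closure ⟨w', hw', rfl⟩)
  have h4 : ζ = ξ' := hmax _ h3
  have h5 : ζ ⤳ pX str (smul a g₁ y) := by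
    refine hζ.specializes (subset_closure ⟨pX str g₁, hg₁, ?_⟩)
    rw [map_orbT_pX]
  refine ⟨w', hw', ?_⟩
  change ξ' = ξ
  rw [hξ, ← hη.eq (h4 ▸ h5 : ξ' ⤳ _)]
  exact (hmax _ (hη.spec ξ')).symm

/-- finitely many `κ`-points in the same component lie in an affine open -/
theorem inAffine_of_eq (ha : Trans a) (hG : IsAlgSpace G.left) (hGft : LocP @LocallyOfFiniteType G.hom)
    {η : Points (Y.left ⨯ (yon S).obj (Over.mk str)) → Points (Y.left ⨯ (yon S).obj (Over.mk str))}
    [QuasiSober (Points (Y.left ⨯ (yon S).obj (Over.mk str)))] [T0Space (Points (Y.left ⨯ (yon S).obj (Over.mk str)))]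
    (hη : GenCont.Gen η)
    (haff : ∀ x : Points (Y.left ⨯ (yon S).obj (Over.mk str)), K650.Sat.InAffine _ {x})
    {ι : Type*} [Finite ι] (y : ι → ((yon S).obj (Over.mk str) ⟶ Y.left))
    (ξ₀ : Points (Y.left ⨯ (yon S).obj (Over.mk str))) (hy : ∀ i, η (pX str (y i)) = ξ₀) :
    K650.Sat.InAffine (Y.left ⨯ (yon S).obj (Over.mk str)) (Set.range fun i => pX str (y i)) := by
  classical
  -- an irreducible open subset of `|G_T|` with a `κ`-point
  obtain ⟨V, p, hp, hp'⟩ := hG.atlas
  have : LocallyOfFiniteType V.hom := prop_chart hGft hp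
  let e₁ : (yon S).obj (Over.mk str) ⟶ G.left := gone G _
  obtain ⟨N, hN, he₁, hi⟩ := irrAt str (K622.AnDefs.selfAct G) trans_self hG hGft (pX str e₁)
  let ξ := Points.map (trIso a e₁).hom ξ₀
  have hξ : ∀ i, η (pX str (smul a e₁ (y i))) = ξ := by
    intro i
    rw [← map_tr_pX]
    have := hη.homeo (trHomeo str a e₁) (pX str (y i))
    change η (Points.map (trIso a e₁).hom (pX str (y i))) = Points.map (trIso a e₁).hom (η (pX str (y i))) at this
    rw [this, hy i]
  obtain ⟨T', j, hT', hj, hmem⟩ := haff ξ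
  have hU : IsOpen (Set.range (Points.ofPt j)) :=
    (K610.Base.isOpenMap_ofPt_etale (K610.OpenImm.repWith_etale_of_open hj)).isOpen_range
  have hξU : ξ ∈ Set.range (Points.ofPt j) := hmem rfl
  have := Fintype.ofFinite ι
  have hne : (N ∩ ⋂₀ ↑(Finset.univ.image fun i => Points.map (orbT a (y i)) ⁻¹' Set.range (Points.ofPt j))).Nonempty := by
    refine isIrreducible_iff_sInter.1 hi _ ?_ ?_
    · intro u hu
      obtain ⟨i, -, rfl⟩ := Finset.mem_image.1 hu
      exact hU.preimage (Points.continuous_map _)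
    · intro u hu
      obtain ⟨i, -, rfl⟩ := Finset.mem_image.1 hu
      obtain ⟨w, hw, hw2⟩ := exists_mem_gen ha hG hGft hη hN hi he₁ (y i)
      refine ⟨w, hw, ?_⟩
      change Points.map (orbT a (y i)) w ∈ Set.range (Points.ofPt j)
      rw [hw2, hξ i]
      exact hξU
  have hO : IsOpen (N ∩ ⋂₀ ↑(Finset.univ.image fun i => Points.map (orbT a (y i)) ⁻¹' Set.range (Points.ofPt j))) := by
    refine hN.inter ((Finset.univ.image fun i =>
      Points.map (orbT a (y i)) ⁻¹' Set.range (Points.ofPt j)).finite_toSet.isOpen_sInter fun u hu => ?_)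
    obtain ⟨i, -, rfl⟩ := Finset.mem_image.1 (Finset.mem_coe.1 hu)
    exact hU.preimage (Points.continuous_map _)
  obtain ⟨v, -, -, hv⟩ := exists_pX str hp' isClosed_univ hO (hne.mono fun x hx => ⟨trivial, hx⟩)
  let g : (yon S).obj (Over.mk str) ⟶ G.left := (yon S).map v ≫ p
  have hg : ∀ i, pX str (smul a g (y i)) ∈ Set.range (Points.ofPt j) := by
    intro i
    rw [← map_orbT_pX]
    exact hv _ (Finset.mem_coe.2 (Finset.mem_image.2 ⟨i, Finset.mem_univ i, rfl⟩))
  refine ⟨T', j ≫ (trIso a g).inv, hT', MorphismProperty.comp_mem _ _ _ hj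
    (MorphismProperty.of_isIso (P := RepWith @IsOpenImmersion) _), ?_⟩
  rintro _ ⟨i, rfl⟩
  obtain ⟨t, ht⟩ := hg i
  refine ⟨t, ?_⟩
  rw [← Points.map_ofPt, ht, ← map_tr_pX]
  exact map_tr_hom_inv str a g _

theorem inAffine_range (ha : Trans a) (hG : IsAlgSpace G.left) (hGft : LocP @LocallyOfFiniteType G.hom)
    (hY : IsAlgSpace Y.left) (hYft : LocP @LocallyOfFiniteType Y.hom) (hsep : IsSeparatedSp Y.left)
    {ι : Type*} [Finite ι] (y : ι → ((yon S).obj (Over.mk str) ⟶ Y.left)) :
    K650.Sat.InAffine (Y.left ⨯ (yon S).obj (Over.mk str)) (Set.range fun i => pX str (y i)) := by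
  classical
  obtain ⟨Z, ⟨e⟩⟩ := (K610.ZarGlue.isRepresentable_iff).1 (isRepresentable str a ha hY hYft hsep)
  let θ := homeoOfIso e
  have hq : QuasiSober (Points (Y.left ⨯ (yon S).obj (Over.mk str))) := θ.symm.isClosedEmbedding.quasiSober
  have hT : T0Space (Points (Y.left ⨯ (yon S).obj (Over.mk str))) := θ.symm.isEmbedding.t0Space
  obtain ⟨η, hη, hηc⟩ := GenIrr.exists_gen (irrAt str a ha hY hYft)
  have heo : RepWith @IsOpenImmersion e.hom := MorphismProperty.of_isIso (P := RepWith @IsOpenImmersion) _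
  have haff : ∀ x : Points (Y.left ⨯ (yon S).obj (Over.mk str)), K650.Sat.InAffine _ {x} := by
    intro x
    obtain ⟨W, hW, hx, -⟩ := exists_isAffineOpen_mem_and_subset (X := Z.left) (U := ⊤) (x := θ.symm x) trivial
    refine ⟨Over.mk (W.ι ≫ Z.hom), (yon S).map (Over.homMk W.ι rfl : Over.mk (W.ι ≫ Z.hom) ⟶ Z) ≫ e.hom, hW,
      MorphismProperty.comp_mem _ _ _ ((repWith_yon_map_iff _ _).2 (show IsOpenImmersion W.ι from inferInstance)) heo, ?_⟩
    intro z hz
    rw [show z = x from hz]
    refine ⟨⟨θ.symm x, hx⟩, ?_⟩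
    rw [K647.Pts.ofPt_map]
    exact θ.apply_symm_apply x
  -- transport to `Z`
  let η' : Z.left → Z.left := fun z => θ.symm (η (θ z))
  have hη' : GenCont.Gen η' := by
    refine ⟨fun z => ?_, fun {x z} h => ?_⟩
    · have := (hη.spec (θ z)).map θ.symm.continuous
      rwa [θ.symm_apply_apply] at this
    · change θ.symm _ = θ.symm _
      rw [hη.eq (h.map θ.continuous)]
  have hη'c : Continuous η' := θ.symm.continuous.comp (hηc.comp θ.continuous)
  have hZN : IsLocallyNoetherian Z.left := by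
    obtain ⟨V, p, hp, hp'⟩ := hY.atlas
    have : LocallyOfFiniteType V.hom := prop_chart hYft hp
    have hft : LocallyOfFiniteType (chT₂ str V).left :=
      inferInstanceAs (LocallyOfFiniteType (pullback.snd V.hom str))
    have hN : IsLocallyNoetherian (chT str V).left := LocallyOfFiniteType.isLocallyNoetherian
      (show (chT str V).left ⟶ Spec (CommRingCat.of κ) from (chT₂ str V).left)
    exact K647.EtLoc.isLocallyNoetherian_chart (F := Y.left ⨯ (yon S).obj (Over.mk str))
      ⟨chT str V, chMap str p, repWith_chMap str p @Etale hp, repWith_chMap str p @Surjective hp', hN⟩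
      (K610.OpenImm.repWith_etale_of_open heo)
  have hqs : QuasiSeparatedSpace Z.left := inferInstance
  let tι : TopologicalSpace ι := ⊥
  have : DiscreteTopology ι := ⟨rfl⟩
  obtain ⟨U, hU, hUy⟩ := GenCont.exists_affine_of_fibres hη' hη'c (T := ι) (fun i => θ.symm (pX str (y i)))
    continuous_of_discreteTopology (fun i₀ => by
      let J := {i : ι // η (pX str (y i)) = η (pX str (y i₀))}
      obtain ⟨T', j, hT', hj, hr⟩ := inAffine_of_eq ha hG hGft hη haff (fun i : J => y i.1) _ fun i => i.2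
      obtain ⟨φ, hφ⟩ := (yon S).map_surjective (j ≫ e.inv)
      have hφo : IsOpenImmersion φ.left := by
        refine (repWith_yon_map_iff _ _).1 ?_
        rw [hφ]
        exact MorphismProperty.comp_mem _ _ _ hj (MorphismProperty.of_isIso (P := RepWith @IsOpenImmersion) _)
      refine ⟨φ.left.opensRange, isAffineOpen_opensRange φ.left, fun i hi => ?_⟩
      have hi' : η (pX str (y i)) = η (pX str (y i₀)) := by
        have := congrArg θ hi
        simpa [η'] using this
      obtain ⟨t, ht⟩ := hr ⟨⟨i, hi'⟩, rfl⟩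
      refine ⟨t, ?_⟩
      apply θ.injective
      rw [θ.apply_symm_apply]
      change Points.ofPt e.hom (φ.left t) = pX str (y i)
      rw [← K647.Pts.ofPt_map, hφ, Category.assoc, e.inv_hom_id, Category.comp_id]
      exact ht)
  refine ⟨Over.mk (U.ι ≫ Z.hom), (yon S).map (Over.homMk U.ι rfl : Over.mk (U.ι ≫ Z.hom) ⟶ Z) ≫ e.hom, hU,
    MorphismProperty.comp_mem _ _ _ ((repWith_yon_map_iff _ _).2 (show IsOpenImmersion U.ι from inferInstance)) heo, ?_⟩
  rintro _ ⟨i, rfl⟩
  refine ⟨⟨_, hUy i⟩, ?_⟩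
  rw [K647.Pts.ofPt_map]
  exact θ.apply_symm_apply _

end K626.HomFA
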