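import Groth.Agent.AlgSp.K626.HomEpi
import Groth.Agent.AlgSp.K632.FlatClos
import Groth.Agent.AlgSp.K629.LocSurj
import Groth.Agent.AlgSp.K594.Basic

/-!
# Flat closures of homogeneous spaces over a Dedekind base
-/

set_option autoImplicit false
set_option backward.isDefEq.respectTransparency false
universe u

open CategoryTheory CategoryTheory.Limits AlgebraicGeometry Opposite TopologicalSpace
open MonoidalCategory CartesianMonoidalCategory MonObj

namespace K626.HomFlat

open AlgSp K610.SchLocus K626.HomAct K632.FlatClos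

variable {S : Scheme.{u}}

/-- A morphism of sheaves to an algebraic space is an epimorphism if an etale chart lifts fppf locally. -/
theorem epi_of_lift {X Y : Sp S} (q : X ⟶ Y) {V : Over S} (p : (yon S).obj V ⟶ Y) (hp : RepWith @Etale p)
    (hps : RepWith @Surjective p) {I : Type u} (W : I → Over S) (t : ∀ i, W i ⟶ V) (l : ∀ i, (yon S).obj (W i) ⟶ X)
    (hl : ∀ i, l i ≫ q = (yon S).map (t i) ≫ p)
    (ht : ∀ i, (@Flat ⊓ @LocallyOfFinitePresentation : MorphismProperty Scheme.{u}) (t i).left)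
    (hs : ∀ v : ↥V.left, ∃ i, v ∈ Set.range (t i).left) : Epi q := by
  have hep : Epi p := by
    have := K594.Basic.isLocallySurjective_of_etale p hp hps
    exact (Sheaf.isLocallySurjective_iff_epi _).1 this
  refine ⟨fun {F} a b hab => ?_⟩
  rw [← cancel_epi p]
  obtain ⟨y, -, hy⟩ := K613.Basic.glueFam (F := F) W t (fun i => (ht i).1) (fun i => (ht i).2) (fun v => hs v)
    (fun i => (yon S).map (t i) ≫ p ≫ a) (fun i j R c d hcd => by
      rw [← Category.assoc, ← Category.assoc, ← Functor.map_comp, hcd, Functor.map_comp, Category.assoc,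
        Category.assoc])
  refine (hy (p ≫ a) fun i => rfl).trans (hy (p ≫ b) fun i => ?_).symm
  rw [← Category.assoc, ← hl, Category.assoc, ← hab, ← Category.assoc, hl, Category.assoc]

/-- Epimorphisms of sheaves and flat closures. -/
theorem epi_flat {X Y X' Y' : Sp S} {q : X ⟶ Y} (hq : Epi q) {x : X' ⟶ X} {y : Y' ⟶ Y} [Mono y] {q' : X' ⟶ Y'}
    (w : q' ≫ y = x ≫ q) (hY : IsAlgSpace Y') (hYf : FlatSp Y')
    (hX : ∀ (T : Over S), Flat T.hom → ∀ f : (yon S).obj T ⟶ X, ∃ k : (yon S).obj T ⟶ X', k ≫ x = f) : Epi q' := by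
  obtain ⟨V, p, hp, hps⟩ := hY.atlas
  have hV : Flat V.hom := hYf p hp
  obtain ⟨I, W, t, l, hl, ht, hs⟩ := K629.Fppf.exists_lift ((Sheaf.isLocallySurjective_iff_epi _).2 hq) (p ≫ y)
  have hW : ∀ i, Flat (W i).hom := fun i => by
    have := (ht i).1
    rw [← Over.w (t i)]
    infer_instance
  choose k hk using fun i => hX (W i) (hW i) (l i)
  refine epi_of_lift q' p hp hps W t k (fun i => ?_) ht hs
  rw [← cancel_mono y, Category.assoc, w, ← Category.assoc, hk, hl, Category.assoc]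

theorem exists_lift_tensor {G' M' G M : Over ((yon S).obj (Over.mk (𝟙 S)))} (i : G' ⟶ G) (c : M' ⟶ M) {Z : Sp S}
    (h1 : ∀ f : Z ⟶ G.left, ∃ k : Z ⟶ G'.left, k ≫ i.left = f)
    (h2 : ∀ f : Z ⟶ M.left, ∃ k : Z ⟶ M'.left, k ≫ c.left = f) (f : Z ⟶ (G ⊗ M).left) :
    ∃ k : Z ⟶ (G' ⊗ M').left, k ≫ (i ⊗ₘ c).left = f := by
  obtain ⟨k1, hk1⟩ := h1 (up f ≫ fst G M).left
  obtain ⟨k2, hk2⟩ := h2 (up f ≫ snd G M).left
  refine ⟨(lift (up k1) (up k2)).left, ?_⟩
  have : lift (up k1) (up k2) ≫ (i ⊗ₘ c) = up f := by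
    rw [lift_map]
    apply CartesianMonoidalCategory.hom_ext
    · rw [lift_fst]
      ext1
      exact hk1
    · rw [lift_snd]
      ext1
      exact hk2
  exact congrArg (fun f => f.left) this

variable {E : Over S}

/-- **The flat closure of a homogeneous space** over a Dedekind base. -/
theorem exists_act (hE : IsDed E) {G M : Over ((yon S).obj (Over.mk (𝟙 S)))} [GrpObj G] (a : GAction G M)
    (hG : IsAlgSpace G.left) (hM : IsAlgSpace M.left) (he : Epi (lift a.act (snd G M)).left) :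
    ∃ (G' M' : Over ((yon S).obj (Over.mk (𝟙 S)))) (_ : GrpObj G') (a' : GAction G' M') (i : G' ⟶ G) (c : M' ⟶ M),
      IsAlgSpace G'.left ∧ IsAlgSpace M'.left ∧ RepWith @IsClosedImmersion i.left ∧
      RepWith @IsClosedImmersion c.left ∧ FlatSp G'.left ∧ FlatSp M'.left ∧ Mono i.left ∧ Mono c.left ∧
      Epi (lift a'.act (snd G' M')).left ∧
      (∀ (F : Sp S) (_ : F ⟶ (yon S).obj E) (f : F ⟶ M.left), ∃ k : F ⟶ M'.left, k ≫ c.left = f) := by
  obtain ⟨H, hH, i, hi, him, him', hHa, hic, hHf, -, hHu, hHg, -, -⟩ := exists_grp hE G hG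
  obtain ⟨Z, c, hZ, hc, hcm, hZf, huniv, hgen, hbc⟩ := exists_flatClos hE hM
  let M' : Over ((yon S).obj (Over.mk (𝟙 S))) := Over.mk (c ≫ M.hom)
  let c' : M' ⟶ M := Over.homMk c rfl
  have hcm' : Mono c'.left := hcm
  have hcm'' : Mono c' := Over.mono_of_mono_left c'
  have hHM : IsAlgSpace (H ⊗ M').left :=
    K613.Chart.isAlgSpace_of_isPullback (IsAlgSpace.yon_obj _).diag hHa hZ (IsPullback.of_hasPullback H.hom M'.hom)
  have hHMf : FlatSp (H ⊗ M').left :=
    FlatSp.of_isPullback hHa hZ hHf hZf (IsPullback.of_hasPullback H.hom M'.hom)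
  have hMM : IsAlgSpace (M' ⊗ M').left :=
    K613.Chart.isAlgSpace_of_isPullback (IsAlgSpace.yon_obj _).diag hZ hZ (IsPullback.of_hasPullback M'.hom M'.hom)
  have hMMf : FlatSp (M' ⊗ M').left :=
    FlatSp.of_isPullback hZ hZ hZf hZf (IsPullback.of_hasPullback M'.hom M'.hom)
  obtain ⟨k, hk⟩ := huniv (H ⊗ M').left hHM hHMf ((i ⊗ₘ c') ≫ a.act).left
  let m : H ⊗ M' ⟶ M' := Over.homMk k (by
    change k ≫ c ≫ M.hom = _
    rw [← Category.assoc, hk, Over.w])
  have hm : m ≫ c' = (i ⊗ₘ c') ≫ a.act := by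
    ext1
    exact hk
  have he1 : η[H] ≫ i = η[G] := IsMonHom.one_hom i
  have hm1 : μ[H] ≫ i = (i ⊗ₘ i) ≫ μ[G] := IsMonHom.mul_hom i
  let a' : GAction H M' :=
    { act := m
      one_act := by
        rw [← cancel_mono c', Category.assoc, hm, ← tensorHom_id, tensorHom_comp_tensorHom_assoc, he1,
          Category.id_comp, tensorHom_def', Category.assoc, a.one_act, leftUnitor_naturality]
      mul_act := by
        rw [← cancel_mono c', Category.assoc, hm, ← tensorHom_id, tensorHom_comp_tensorHom_assoc, hm1, Category.assoc,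
          Category.assoc, hm, ← id_tensorHom, tensorHom_comp_tensorHom_assoc, hm]
        simp only [Category.id_comp]
        have h1 : ((i ⊗ₘ i) ≫ μ[G]) ⊗ₘ c' = ((i ⊗ₘ i) ⊗ₘ c') ≫ (μ[G] ▷ M) := by
          rw [← tensorHom_id, tensorHom_comp_tensorHom, Category.comp_id]
        have h2 : i ⊗ₘ ((i ⊗ₘ c') ≫ a.act) = (i ⊗ₘ (i ⊗ₘ c')) ≫ (G ◁ a.act) := by
          rw [← id_tensorHom, tensorHom_comp_tensorHom, Category.comp_id]
        rw [h1, h2, Category.assoc, a.mul_act, associator_naturality_assoc, Category.assoc] }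
  refine ⟨H, M', hH, a', i, c', hHa, hZ, hic, hc, hHf, hZf, him', hcm', ?_, hgen⟩
  have hmm : Mono (c' ⊗ₘ c').left := by
    refine ⟨fun {F} f g hfg => ?_⟩
    have h0 : up f ≫ (c' ⊗ₘ c') = up g ≫ (c' ⊗ₘ c') := Over.OverMorphism.ext hfg
    have h1 : up f = up g := by
      apply CartesianMonoidalCategory.hom_ext
      · rw [← cancel_mono c', Category.assoc, Category.assoc, ← tensorHom_fst (f := c') (g := c'), ← Category.assoc, h0,
          Category.assoc]
      · rw [← cancel_mono c', Category.assoc, Category.assoc, ← tensorHom_snd (f := c') (g := c'), ← Category.assoc, h0,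
          Category.assoc]
    exact congrArg (fun f => f.left) h1
  refine epi_flat he (x := (i ⊗ₘ c').left) (y := (c' ⊗ₘ c').left) ?_ hMM hMMf ?_
  · have h0 : lift m (snd H M') ≫ (c' ⊗ₘ c') = (i ⊗ₘ c') ≫ lift a.act (snd G M) := by
      rw [lift_map, comp_lift, hm, tensorHom_snd]
    exact congrArg (fun f => f.left) h0
  · intro T hT f
    have hT' : FlatSp ((yon S).obj T) := flatSp_yon hT
    exact exists_lift_tensor i c' (hHu _ (IsAlgSpace.yon_obj _) hT') (huniv _ (IsAlgSpace.yon_obj _) hT') f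

end K626.HomFlat
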