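import Groth.Agent.AlgSp.K626.HomPt
import Groth.Agent.AlgSp.K620.LocSep
import Groth.Agent.AlgSp.K610.FinLocus
import Groth.Agent.AlgSp.K608.SepAbs
import Groth.Agent.AlgSp.K608.GrpSch
import Groth.Agent.AlgSp.K595.DiagBasic
import Groth.Agent.AlgSp.K650.Sat
import Groth.Agent.AlgSp.K626.HomEpi

/-!
# Homogeneous spaces over an algebraically closed field are schemes in which finite sets of points lie in
affine opens
-/

set_option autoImplicit false
set_option backward.isDefEq.respectTransparency false
universe u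

open CategoryTheory CategoryTheory.Limits AlgebraicGeometry Opposite TopologicalSpace
open MonoidalCategory CartesianMonoidalCategory MonObj

namespace K626.HomFld

open AlgSp K610.SchLocus K626.W5 K626.HomAct K626.HomPt

variable {S : Scheme.{u}} {κ : Type u} [Field κ] [IsAlgClosed κ] (str : Spec (CommRingCat.of κ) ⟶ S)
  {G Y : Over ((yon S).obj (Over.mk (𝟙 S)))} [GrpObj G] (a : GAction G Y)

omit [IsAlgClosed κ] in
theorem isSeparatedSp_T {X : Sp S} (hX : IsSeparatedSp X) : IsSeparatedSp (X ⨯ (yon S).obj (Over.mk str)) := by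
  have hs : IsSeparated str := by
    have : IsSeparated (str ≫ terminal.from S) := by
      rw [show str ≫ terminal.from S = terminal.from (Spec (CommRingCat.of κ)) from Subsingleton.elim _ _]
      infer_instance
    exact IsSeparated.of_comp str (terminal.from S)
  refine K608.SepAbs.isSeparatedSp_of_isSeparatedMor prod.fst ?_ hX
  have h1 := K625.Prod.repWith_fst @IsSeparated X (Over.mk str) hs
  exact (K595.DiagBasic.isSeparatedMor_iff_repWith h1.1).2 h1

/-- `Y_T` is a scheme -/
theorem isRepresentable (ha : Trans a) (hY : IsAlgSpace Y.left) (hYft : LocP @LocallyOfFiniteType Y.hom)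
    (hsep : IsSeparatedSp Y.left) : (Y.left ⨯ (yon S).obj (Over.mk str)).obj.IsRepresentable := by
  let YT : Space S := bc ⟨Y.left, hY⟩ (Over.mk str)
  change YT.obj.obj.IsRepresentable
  rw [isRepresentable_iff_forall]
  intro x
  obtain ⟨V, p, hp, hp'⟩ := hY.atlas
  have : LocallyOfFiniteType V.hom := prop_chart hYft hp
  obtain ⟨v, hv⟩ := K610.Base.surjective_ofPt (repWith_chMap str p @Surjective hp') x
  -- a maximal point
  let w : (chT str V).left := (isIrreducible_irreducibleComponent (x := v)).genericPoint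
  have hw : ∀ w', w' ⤳ w → w' = w := by
    intro w' h
    have h1 : IsGenericPoint w (irreducibleComponent v) :=
      (isIrreducible_irreducibleComponent (x := v)).isGenericPoint_genericPoint isClosed_irreducibleComponent
    have h2 : closure {w'} = irreducibleComponent v := by
      have h3 : irreducibleComponent v ⊆ closure {w'} := by
        rw [← h1.def]
        exact closure_minimal (Set.singleton_subset_iff.2 (specializes_iff_mem_closure.1 h)) isClosed_closure
      exact ((irreducibleComponent_mem_irreducibleComponents v).eq_of_subset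
        isIrreducible_singleton.closure h3).symm
    exact (show IsGenericPoint w' (irreducibleComponent v) from h2).eq h1
  have hcz : K621.Generic.CodimZero YT.obj (Points.ofPt (chMap str p) w) :=
    (K621.Generic.codimZero_iff YT.property (repWith_chMap str p @Etale hp)).2 hw
  have hloc : Points.ofPt (chMap str p) w ∈ locus YT :=
    K610.FinLocus.mem_locus_of_quasiSeparated (X := YT) (isSeparatedSp_T str hsep |> K608.GrpSch.isQuasiSeparatedSp_of_isSeparatedSp) hcz
  have key := eq_univ_of_stable str a ha hY hYft (isOpen_locus YT) ⟨_, hloc⟩ fun g x hx =>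
    map_iso_mem_locus (Y := YT) (Y' := YT) (trIso a g) hx
  exact mem_locus_iff.1 (key.symm ▸ Set.mem_univ x : x ∈ locus YT)

/-! ### the orbit maps -/

section orb

omit [IsAlgClosed κ]

variable {str}

/-- the orbit map `(g, t) ↦ (g y(t), t)` -/
noncomputable def orbT (y : (yon S).obj (Over.mk str) ⟶ Y.left) :
    G.left ⨯ (yon S).obj (Over.mk str) ⟶ Y.left ⨯ (yon S).obj (Over.mk str) :=
  prod.lift (smul a prod.fst (prod.snd ≫ y)) prod.snd

theorem comp_orbT (y : (yon S).obj (Over.mk str) ⟶ Y.left) {Z : Sp S} (f : Z ⟶ G.left ⨯ (yon S).obj (Over.mk str)) :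
    f ≫ orbT a y = prod.lift (smul a (f ≫ prod.fst) (f ≫ prod.snd ≫ y)) (f ≫ prod.snd) := by
  unfold orbT
  apply Limits.prod.hom_ext
  · rw [Category.assoc, prod.lift_fst, prod.lift_fst, comp_smul]
  · rw [Category.assoc, prod.lift_snd, prod.lift_snd]

theorem smul_selfAct {Z : Sp S} (g h : Z ⟶ G.left) : smul (K622.AnDefs.selfAct G) g h = gmul g h := rfl

theorem tr_orbT (h : (yon S).obj (Over.mk str) ⟶ G.left) (y : (yon S).obj (Over.mk str) ⟶ Y.left) :
    (trIso (K622.AnDefs.selfAct G) h).hom ≫ orbT a y = orbT a y ≫ (trIso a h).hom := by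
  refine (comp_orbT a y _).trans (Eq.trans ?_ (comp_tr a h _).symm)
  change prod.lift (smul a (tr _ h ≫ _) (tr _ h ≫ _)) (tr _ h ≫ _) = _
  unfold tr orbT
  rw [prod.lift_fst, prod.lift_snd, prod.lift_fst, prod.lift_snd, smul_selfAct, ← Category.assoc, prod.lift_snd,
    ← Category.assoc, prod.lift_snd, HomAct.smul_smul]

theorem map_orbT_pX (g : (yon S).obj (Over.mk str) ⟶ G.left) (y : (yon S).obj (Over.mk str) ⟶ Y.left) :
    Points.map (orbT a y) (pX str g) = pX str (smul a g y) := by
  unfold pX
  rw [Points.map_ofPt, comp_orbT, prod.lift_fst, ← Category.assoc, prod.lift_snd, Category.id_comp]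

theorem map_tr_orbT (h : (yon S).obj (Over.mk str) ⟶ G.left) (y : (yon S).obj (Over.mk str) ⟶ Y.left)
    (w : Points (G.left ⨯ (yon S).obj (Over.mk str))) :
    Points.map (orbT a y) (Points.map (trIso (K622.AnDefs.selfAct G) h).hom w) =
      Points.map (trIso a h).hom (Points.map (orbT a y) w) := by
  rw [← Points.map_comp, tr_orbT, Points.map_comp]

theorem surjective_orbT (ha : Trans a) (y : (yon S).obj (Over.mk str) ⟶ Y.left) :
    Function.Surjective (Points.map (orbT a y)) := by
  intro z
  obtain ⟨ζ, halg, rfl⟩ := K620.LocSep.exists_algClosed z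
  obtain ⟨t, ht⟩ := (yon S).map_surjective (ζ.toHom ≫ prod.snd)
  obtain ⟨c, hc⟩ := ha ζ.K ζ.str ((yon S).map t ≫ y) (ζ.toHom ≫ prod.fst)
  refine ⟨Points.ofPt (prod.lift c ((yon S).map t)) (IsLocalRing.closedPoint ζ.K : ζ.pt.left), ?_⟩
  rw [Points.map_ofPt, comp_orbT, prod.lift_fst, ← Category.assoc, prod.lift_snd]
  have e : prod.lift (smul a c ((yon S).map t ≫ y)) ((yon S).map t) = ζ.toHom := by
    apply Limits.prod.hom_ext
    · rw [prod.lift_fst]
      exact hc
    · rw [prod.lift_snd]
      exact ht
  rw [e, K647.FibNoeth.ofPt_toHom]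

end orb

/-- the unit as a generalized point -/
noncomputable def gone (G : Over ((yon S).obj (Over.mk (𝟙 S)))) [GrpObj G] (Z : Sp S) : Z ⟶ G.left :=
  (1 : ob Z ⟶ G).left

/-- the group acts transitively on itself -/
theorem trans_self : Trans (K622.AnDefs.selfAct G) := by
  intro K _ _ s x y
  refine ⟨gmul y (ginv x), ?_⟩
  rw [smul_selfAct]
  unfold gmul ginv
  rw [up_left, up_left, inv_mul_cancel_right]
  rfl

end K626.HomFld
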