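import Groth.Agent.AlgSp.K626.HomPiece
import Groth.Agent.AlgSp.K626.HomFlat
import Groth.Agent.AlgSp.K612.ConclOpn
import Groth.Agent.AlgSp.K612.NodeU
import Groth.Agent.AlgSp.K608.GrpSch
import Groth.Agent.AlgSp.K620.Dec
import Groth.Agent.AlgSp.K620.Constr

/-!
# Homogeneous spaces over semi-local Dedekind domains

`main`: given Theorem B (`ThmB`), every quasi-compact open subspace of a separated homogeneous space over a semi-local
Dedekind domain (a field allowed) has an integral covering by a scheme with property (FA), and finite sets of points of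
the homogeneous space have affine neighbourhoods.
-/

set_option autoImplicit false
set_option backward.isDefEq.respectTransparency false
universe u

open CategoryTheory CategoryTheory.Limits AlgebraicGeometry Opposite TopologicalSpace
open MonoidalCategory CartesianMonoidalCategory MonObj

namespace K626.HomMain

open AlgSp K610.SchLocus K626.W5 K626.HomAct K626.HomPt K626.HomFld K626.HomFA K626.ClosedPt K626.IntCov K632.FlatClos

section general

variable {S : Scheme.{u}}

theorem exists_pt {V T : Over S} (v : V.left) (t : T.left) (h : V.hom v = T.hom t) :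
    ∃ (P : Over S) (a : P ⟶ V) (_ : P ⟶ T) (w : P.left), a.left w = v := by
  obtain ⟨w, hw, -⟩ := Scheme.Pullback.exists_preimage_pullback (f := V.hom) (g := T.hom) v t h
  exact ⟨Over.mk (pullback.fst V.hom T.hom ≫ V.hom), Over.homMk (pullback.fst V.hom T.hom) rfl,
    Over.homMk (pullback.snd V.hom T.hom) pullback.condition.symm, w, hw⟩

theorem mem_range_fst {X : Sp S} {V T : Over S} (p : (yon S).obj V ⟶ X) (v : V.left) (t : T.left)
    (h : V.hom v = T.hom t) : Points.ofPt p v ∈ Set.range (Points.map (prod.fst : X ⨯ (yon S).obj T ⟶ X)) := by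
  obtain ⟨P, a, b, w, rfl⟩ := exists_pt v t h
  refine ⟨Points.ofPt (prod.lift ((yon S).map a ≫ p) ((yon S).map b)) w, ?_⟩
  rw [Points.map_ofPt, prod.lift_fst, K647.Pts.ofPt_map]

theorem mem_range_of_lift {X X' : Sp S} {c : X' ⟶ X} {T : Over S}
    (hc : ∀ (F : Sp S) (_ : F ⟶ (yon S).obj T) (f : F ⟶ X), ∃ k : F ⟶ X', k ≫ c = f)
    {V : Over S} (p : (yon S).obj V ⟶ X) (v : V.left) (t : T.left)
    (h : V.hom v = T.hom t) : Points.ofPt p v ∈ Set.range (Points.map c) := by
  obtain ⟨P, a, b, w, rfl⟩ := exists_pt v t h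
  obtain ⟨k, hk⟩ := hc _ ((yon S).map b) ((yon S).map a ≫ p)
  refine ⟨Points.ofPt k w, ?_⟩
  rw [Points.map_ofPt, hk, K647.Pts.ofPt_map]

theorem exists_ofPt {X : Sp S} {V : Over S} {p : (yon S).obj V ⟶ X} (hp : RepWith @Surjective p) (x : Points X) :
    ∃ v : V.left, Points.ofPt p v = x := by
  obtain ⟨y, rfl⟩ := (K609.Points.repWith_surjective_iff hp.1).1 hp x
  obtain ⟨v, rfl⟩ := (Points.schemeEquiv V).surjective y
  exact ⟨v, Points.ofPt_eq_map_ofScheme p v⟩

theorem isQuasiCompactSp_of_closed {X X' : Sp S} {c : X' ⟶ X} (hc : RepWith @IsClosedImmersion c)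
    (hX : IsQuasiCompactSp X) : IsQuasiCompactSp X' := by
  obtain ⟨V, p, hp, hp', hV⟩ := hX
  obtain ⟨P, snd, fst, sq⟩ := hc.1 p
  have h1 : IsClosedImmersion snd.left := hc.2 _ _ _ sq
  have : CompactSpace V.left := hV
  exact ⟨P, fst, MorphismProperty.of_isPullback sq.flip hp, MorphismProperty.of_isPullback sq.flip hp',
    QuasiCompact.compactSpace_of_compactSpace snd.left⟩

theorem isRepresentable_of_closed {X X' : Sp S} {c : X' ⟶ X} (hc : Representable c)
    (hX : X.obj.IsRepresentable) : X'.obj.IsRepresentable := by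
  obtain ⟨Z, ⟨e⟩⟩ := (K610.ZarGlue.isRepresentable_iff).1 hX
  obtain ⟨P, snd, fst, sq⟩ := hc e.hom
  refine (K610.ZarGlue.isRepresentable_iff).2 ⟨P, ⟨?_⟩⟩
  have : IsIso fst := sq.isIso_fst_of_isIso
  exact asIso fst

/-- a finite set of points lies in a quasi-compact open subspace -/
theorem exists_qc_open_of_finite {F : Sp S} (hF : IsAlgSpace F) {E : Set (Points F)} (hE : E.Finite) :
    ∃ (X : Sp S) (j : X ⟶ F), RepWith @IsOpenImmersion j ∧ IsQuasiCompactSp X ∧ E ⊆ Set.range (Points.map j) := by
  choose N hN1 hN2 hN3 _ using fun x : Points F =>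
    K609.QC.exists_isOpen_isCompact_nhd hF x Set.univ isOpen_univ trivial
  let G0 : Set (Points F) := ⋃ x ∈ hE.toFinset, N x
  have hG0 : IsOpen G0 := isOpen_biUnion fun x _ => hN1 x
  have hG0c : IsCompact G0 := hE.toFinset.isCompact_biUnion fun x _ => hN2 x
  have hι := K610.Sub.repWith_openPred hG0
  have hrange := K610.Sub.range_openPred (X := F) G0
  have hG : IsAlgSpace (K610.Sub.openPred (X := F) G0).sub := K610.Sub.isAlgSpace_of_mono hι.1 hF
  have hemb := K610.OpenImm.isOpenEmbedding_points hF hι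
  refine ⟨_, _, hι, ?_, ?_⟩
  · rw [K609.QC.isQuasiCompactSp_iff hG]
    refine ⟨?_⟩
    rw [hemb.isInducing.isCompact_iff, Set.image_univ, hrange]
    exact hG0c
  · rw [hrange]
    intro x hx
    exact Set.mem_biUnion (hE.mem_toFinset.2 hx) (hN3 x)

theorem locP_closed {G' G : Over ((yon S).obj (Over.mk (𝟙 S)))} (i : G' ⟶ G) (hi : RepWith @IsClosedImmersion i.left)
    (hG' : IsAlgSpace G'.left) (hG : IsAlgSpace G.left) (hGf : LocP @LocallyOfFiniteType G.hom) :
    LocP @LocallyOfFiniteType G'.hom := by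
  have h1 : RepWith @LocallyOfFiniteType i.left := K606.RepWithBasic.mono (fun _ _ f hf => by
    have : IsClosedImmersion f := hf
    exact inferInstanceAs (LocallyOfFiniteType f)) hi
  have h2 : LocP @LocallyOfFiniteType i.left := K597.locP_of_repWith (fun _ _ _ e f he hf => by
    have : Etale e := he
    have : LocallyOfFiniteType f := hf
    exact inferInstanceAs (LocallyOfFiniteType (e ≫ f))) h1
  have h3 := K597.locP_comp K597.etLoc_lft hG'.hasAtlas hG.hasAtlas (IsAlgSpace.yon_obj _).hasAtlas h2 hGf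
  rwa [Over.w] at h3

end general

open K622.AnDefs

variable {R : Type u} [CommRing R] [IsDedekindDomain R]
  {G M : Over ((yon (Spec (CommRingCat.of R))).obj (Over.mk (𝟙 (Spec (CommRingCat.of R)))))} [GrpObj G]
  {act : GAction G M}

/-- the algebraic closure of the residue field of a maximal ideal -/
noncomputable abbrev kap (m : MaximalSpectrum R) : Type u :=
  letI := Ideal.Quotient.field m.asIdeal
  AlgebraicClosure (R ⧸ m.asIdeal)

noncomputable abbrev strM (m : MaximalSpectrum R) : Spec (CommRingCat.of (kap m)) ⟶ Spec (CommRingCat.of R) :=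
  letI := Ideal.Quotient.field m.asIdeal
  Spec.map (CommRingCat.ofHom ((algebraMap (R ⧸ m.asIdeal) (AlgebraicClosure (R ⧸ m.asIdeal))).comp
    (Ideal.Quotient.mk m.asIdeal)))

instance isIntegralHom_strM (m : MaximalSpectrum R) : IsIntegralHom (strM m) := by
  let := Ideal.Quotient.field m.asIdeal
  rw [IsIntegralHom.SpecMap_iff]
  refine RingHom.IsIntegral.trans _ _ ?_ ?_
  · exact RingHom.isIntegral_of_surjective _ Ideal.Quotient.mk_surjective
  · exact Algebra.IsIntegral.isIntegral

omit [IsDedekindDomain R] in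
theorem strM_apply (m : MaximalSpectrum R) (t : Spec (CommRingCat.of (kap m))) :
    ((strM m) t).asIdeal = m.asIdeal := by
  let := Ideal.Quotient.field m.asIdeal
  have h1 : m.asIdeal ≤ ((strM m) t).asIdeal := fun r hr => by
    change (algebraMap (R ⧸ m.asIdeal) (AlgebraicClosure (R ⧸ m.asIdeal))) (Ideal.Quotient.mk m.asIdeal r) ∈ t.asIdeal
    rw [Ideal.Quotient.eq_zero_iff_mem.2 hr, map_zero]
    exact t.asIdeal.zero_mem
  exact (m.isMaximal.eq_of_le ((strM m) t).isPrime.ne_top h1).symm

theorem piece_of_concl {S : Scheme.{u}} {X : Sp S} (h : Concl X) : Piece X Set.univ := by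
  obtain ⟨Z, π, h1, h2, h3⟩ := h
  exact ⟨Z, π, h1, fun x _ => exists_ofPt h2 x, fun E hE _ => h3 E hE⟩

theorem exists_generic (hB : ThmB.{u}) [Finite (MaximalSpectrum R)] (hR : ¬ IsField R)
    (hG : IsAlgSpace G.left) (hGf : LocP @LocallyOfFiniteType G.hom)
    (hGs : IsSeparatedSp G.left ∨ G.left.obj.IsRepresentable) (hM : IsAlgSpace M.left)
    (hMf : LocP @LocallyOfFiniteType M.hom) (hMs : IsSeparatedSp M.left)
    (he : Epi (lift act.act (snd G M)).left) {X : Sp (Spec (CommRingCat.of R))} {j : X ⟶ M.left}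
    (hj : RepWith @IsOpenImmersion j) (hX : IsQuasiCompactSp X) :
    ∃ A : Set (Points X), Piece X A ∧ ∀ (V : Over (Spec (CommRingCat.of R))) (p : (yon _).obj V ⟶ X) (v : V.left),
      (V.hom v).asIdeal = ⊥ → Points.ofPt p v ∈ A := by
  let K := FractionRing R
  obtain ⟨G', M', hG'g, act', i, c, hG', hM', hi, hc, hGf', hMf', him, hcm, he', hgen⟩ :=
    K626.HomFlat.exists_act (isDed_spec R K) act hG hM he
  have sq : IsPullback (pullback.fst j c.left) (pullback.snd j c.left) j c.left := IsPullback.of_hasPullback _ _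
  have h1 : RepWith @IsOpenImmersion (pullback.snd j c.left) := MorphismProperty.of_isPullback sq hj
  have h2 : RepWith @IsClosedImmersion (pullback.fst j c.left) := MorphismProperty.of_isPullback sq.flip hc
  have sit : Sit act' (pullback.snd j c.left) :=
    { algG := hG'
      lftG := locP_closed i hi hG' hG hGf
      algM := hM'
      lftM := locP_closed c hc hM' hM hMf
      sepM := isSeparatedSp_of_mono hMs c.left
      hom := he'
      op := h1
      qc := isQuasiCompactSp_of_closed h2 hX }
  have hC := hB R hR G' M' act' _ _ sit (hGs.imp (fun h => isSeparatedSp_of_mono h i.left)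
    (fun h => isRepresentable_of_closed hi.1 h)) hGf' hMf'
  refine ⟨_, Piece.map (K606.RepWithBasic.mono (fun _ _ f hf => by
    have : IsClosedImmersion f := hf
    exact (inferInstance : IsIntegralHom f)) h2) (K620.Dec.injective_map_of_mono _ inferInstance)
    (piece_of_concl hC), fun V p v hv => ?_⟩
  rw [Set.image_univ]
  refine mem_range_of_lift (T := Over.mk (Spec.map (CommRingCat.ofHom (algebraMap R K)))) (fun F t f => ?_) p v
    (IsLocalRing.closedPoint K) ?_
  · obtain ⟨k, hk⟩ := hgen F t (f ≫ j)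
    exact ⟨sq.lift f k hk.symm, sq.lift_fst _ _ _⟩
  · apply PrimeSpectrum.ext
    rw [hv]
    have h3 : ((Spec.map (CommRingCat.ofHom (algebraMap R K))) (IsLocalRing.closedPoint K)).asIdeal =
        Ideal.comap (algebraMap R K) (IsLocalRing.maximalIdeal K) := rfl
    change _ = ((Spec.map (CommRingCat.ofHom (algebraMap R K))) (IsLocalRing.closedPoint K)).asIdeal
    rw [h3, IsLocalRing.maximalIdeal_eq_bot, ← RingHom.ker_eq_comap_bot]
    exact ((RingHom.injective_iff_ker_eq_bot _).1 (IsFractionRing.injective R K)).symm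

theorem piece_univ (hB : ThmB.{u}) [Finite (MaximalSpectrum R)]
    (hG : IsAlgSpace G.left) (hGf : LocP @LocallyOfFiniteType G.hom)
    (hGs : IsSeparatedSp G.left ∨ G.left.obj.IsRepresentable) (hM : IsAlgSpace M.left)
    (hMf : LocP @LocallyOfFiniteType M.hom) (hMs : IsSeparatedSp M.left)
    (he : Epi (lift act.act (snd G M)).left) {X : Sp (Spec (CommRingCat.of R))} {j : X ⟶ M.left}
    (hj : RepWith @IsOpenImmersion j) (hX : IsQuasiCompactSp X) : Piece X Set.univ := by
  classical
  have hj' : Mono j := K610.Factor.mono_of_isOpenImmersion hj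
  have hXa : IsAlgSpace X := K610.Sub.isAlgSpace_of_mono hj.1 hM
  have : Fintype (MaximalSpectrum R) := Fintype.ofFinite _
  have fib : ∀ m : MaximalSpectrum R,
      Piece X (Set.range (Points.map (prod.fst : X ⨯ (yon _).obj (Over.mk (strM m)) ⟶ X))) := fun m => by
    let := Ideal.Quotient.field m.asIdeal
    exact K626.HomPiece.fibre_piece (strM m) (K626.HomEpi.trans_of_epi act he) hG hGf hM hMf hMs hj hX
  have hfib : ∀ (m : MaximalSpectrum R) (V : Over (Spec (CommRingCat.of R))) (p : (yon _).obj V ⟶ X) (v : V.left),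
      (V.hom v).asIdeal = m.asIdeal →
      Points.ofPt p v ∈ Set.range (Points.map (prod.fst : X ⨯ (yon _).obj (Over.mk (strM m)) ⟶ X)) :=
    fun m V p v hv => by
      let := Ideal.Quotient.field m.asIdeal
      refine mem_range_fst (T := Over.mk (strM m)) p v (IsLocalRing.closedPoint (kap m)) ?_
      apply PrimeSpectrum.ext
      rw [hv]
      exact (strM_apply m _).symm
  obtain ⟨A₀, hA₀, hmem⟩ : ∃ A : Set (Points X), Piece X A ∧ ∀ (V : Over (Spec (CommRingCat.of R)))
      (p : (yon _).obj V ⟶ X) (v : V.left), (V.hom v).asIdeal = ⊥ → Points.ofPt p v ∈ A := by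
    by_cases hR : IsField R
    · have hm : (⊥ : Ideal R).IsMaximal := by
        let := hR.toField
        exact Ideal.bot_isMaximal
      exact ⟨_, fib ⟨⊥, hm⟩, fun V p v hv => hfib ⟨⊥, hm⟩ V p v hv⟩
    · exact exists_generic hB hR hG hGf hGs hM hMf hMs he hj hX
  refine (Piece.biUnion hXa.diag hA₀ Finset.univ _ fib).mono fun x _ => ?_
  obtain ⟨V, p, hp, hp'⟩ := hXa.atlas
  obtain ⟨v, rfl⟩ := exists_ofPt hp' x
  by_cases h0 : (V.hom v).asIdeal = ⊥
  · exact Or.inl (hmem V p v h0)
  · right
    have hm : (V.hom v).asIdeal.IsMaximal := (V.hom v).isPrime.isMaximal h0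
    exact Set.mem_biUnion (Finset.mem_coe.2 (Finset.mem_univ (⟨_, hm⟩ : MaximalSpectrum R))) (hfib ⟨_, hm⟩ V p v rfl)

/-- **Quasi-compact open subspaces of homogeneous spaces over semi-local Dedekind domains.** -/
theorem concl (hB : ThmB.{u}) [Finite (MaximalSpectrum R)]
    (hG : IsAlgSpace G.left) (hGf : LocP @LocallyOfFiniteType G.hom)
    (hGs : IsSeparatedSp G.left ∨ G.left.obj.IsRepresentable) (hM : IsAlgSpace M.left)
    (hMf : LocP @LocallyOfFiniteType M.hom) (hMs : IsSeparatedSp M.left)
    (he : Epi (lift act.act (snd G M)).left) {X : Sp (Spec (CommRingCat.of R))} {j : X ⟶ M.left}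
    (hj : RepWith @IsOpenImmersion j) (hX : IsQuasiCompactSp X) : Concl X := by
  have hj' : Mono j := K610.Factor.mono_of_isOpenImmersion hj
  have hXa : IsAlgSpace X := K610.Sub.isAlgSpace_of_mono hj.1 hM
  have hXs : IsSeparatedSp X := isSeparatedSp_of_mono hMs j
  have hXq : IsQuasiSeparatedSp X := K608.GrpSch.isQuasiSeparatedSp_of_isSeparatedSp hXs
  have : T0Space (Points X) := K620.Constr.t0Space_points hXa hXq
  have : CompactSpace (Points X) := (K609.QC.isQuasiCompactSp_iff hXa).1 hX
  exact K626.IntConcl.concl_of_piece (piece_univ hB hG hGf hGs hM hMf hMs he hj hX)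

/-- **Finite sets of points of homogeneous spaces over semi-local Dedekind domains.** -/
theorem main (hB : ThmB.{u}) [Finite (MaximalSpectrum R)]
    (hG : IsAlgSpace G.left) (hGf : LocP @LocallyOfFiniteType G.hom)
    (hGs : IsSeparatedSp G.left ∨ G.left.obj.IsRepresentable) (hM : IsAlgSpace M.left)
    (hMf : LocP @LocallyOfFiniteType M.hom) (hMs : IsSeparatedSp M.left)
    (he : Epi (lift act.act (snd G M)).left) (E : Set (Points M.left)) (hE : E.Finite) :
    K650.Sat.InAffine M.left E := by
  obtain ⟨X, j, hj, hX, hEX⟩ := exists_qc_open_of_finite hM hE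
  have hj' : Mono j := K610.Factor.mono_of_isOpenImmersion hj
  have hXa : IsAlgSpace X := K610.Sub.isAlgSpace_of_mono hj.1 hM
  have hXs : IsSeparatedSp X := isSeparatedSp_of_mono hMs j
  have hXq : IsQuasiSeparatedSp X := K608.GrpSch.isQuasiSeparatedSp_of_isSeparatedSp hXs
  have hN : IsLocNoethSp M.left := K612.NodeU.isLocNoethSp_of_lft hM hMf
  have hNX : IsLocNoethSp X := K650.Sat.isLocNoethSp_of_repWith hN (K606.RepWithBasic.mono (fun _ _ f hf => by
    have : IsOpenImmersion f := hf
    exact inferInstanceAs (LocallyOfFiniteType f)) hj)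
  have h1 := K612.ConclOpn.inAffine_of_concl hXa hNX hXq (concl hB hG hGf hGs hM hMf hMs he hj hX)
    (Points.map j ⁻¹' E) (hE.preimage (K620.Dec.injective_map_of_mono j hj').injOn)
  refine (h1.of_open hj).mono fun x hx => ?_
  obtain ⟨y, rfl⟩ := hEX hx
  exact ⟨y, hx, rfl⟩

end K626.HomMain
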