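import Groth.Agent.AlgSp.K626.IntCov
import Groth.Agent.AlgSp.K622.AnDefs
import Groth.Agent.AlgSp.K609.Points
import Groth.Agent.AlgSp.K625.Prod
import Groth.Agent.AlgSp.K596.Univ

/-!
# From pieces to the conclusion of Theorem B
-/

set_option autoImplicit false
set_option backward.isDefEq.respectTransparency false
universe u

open CategoryTheory CategoryTheory.Limits AlgebraicGeometry Opposite TopologicalSpace

namespace K626.IntConcl

open AlgSp K626.IntCov

variable {S : Scheme.{u}} {X : Sp S}

theorem isClosedMap_ofPt {Z : Over S} {π : (yon S).obj Z ⟶ X} (h : RepWith @IsIntegralHom π) :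
    IsClosedMap (Points.ofPt π) := by
  have h1 : IsClosedMap (Points.map π) := K625.Prod.isClosedMap_of_repWith ⟨h.1, fun _ _ g fst snd sq => by
    have : IsIntegralHom snd.left := h.2 g fst snd sq
    exact (inferInstance : UniversallyClosed snd.left)⟩
  have h2 : Points.ofPt π = Points.map π ∘ (Points.schemeHomeo Z) := by
    ext t
    exact Points.ofPt_eq_map_ofScheme π t
  rw [h2]
  exact h1.comp (Points.schemeHomeo Z).isClosedMap

theorem concl_of_piece [T0Space (Points X)] [CompactSpace (Points X)] (h : Piece X Set.univ) :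
    K622.AnDefs.Concl X := by
  classical
  obtain ⟨Z, π, hπ, hr, hE⟩ := h
  refine ⟨Z, π, hπ, ?_, fun E hEf => ?_⟩
  · rw [K609.Points.repWith_surjective_iff hπ.1]
    intro x
    obtain ⟨z, rfl⟩ := hr (Set.mem_univ x)
    exact ⟨Points.ofScheme Z z, (Points.ofPt_eq_map_ofScheme π z).symm⟩
  · have hsp : ∀ x : Points X, ∃ x' : Points X, IsClosed ({x'} : Set (Points X)) ∧ x ⤳ x' := fun x => by
      obtain ⟨x', hx', hc⟩ := IsClosed.exists_closed_singleton (S := closure {x}) isClosed_closure
        ⟨x, subset_closure rfl⟩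
      exact ⟨x', hc, specializes_iff_mem_closure.2 hx'⟩
    choose c hc hs using hsp
    obtain ⟨U, hU, hz⟩ := hE (c '' E) (hEf.image c) (by
      rintro _ ⟨x, -, rfl⟩
      exact hc x)
    refine ⟨U, hU, fun z hzE => ?_⟩
    have h1 : c (Points.ofPt π z) ∈ Points.ofPt π '' closure {z} :=
      ((isClosedMap_ofPt hπ) _ isClosed_closure).closure_subset_iff.2 (by
        rintro _ rfl
        exact ⟨z, subset_closure rfl, rfl⟩) (specializes_iff_mem_closure.1 (hs (Points.ofPt π z)))
    obtain ⟨z', hz', hz''⟩ := h1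
    have h2 : z' ∈ U := hz z' (by
      rw [hz'']
      exact ⟨_, hzE, rfl⟩)
    exact (specializes_iff_mem_closure.2 hz').mem_open U.2 h2

end K626.IntConcl
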