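import Groth.Agent.AlgSp.K626.ClosedPt
import Groth.Agent.AlgSp.K626.IntConcl
import Groth.Agent.S16030

/-!
# The fibres of a homogeneous space over the closed points of the base as pieces
-/

set_option autoImplicit false
set_option backward.isDefEq.respectTransparency false
universe u

open CategoryTheory CategoryTheory.Limits AlgebraicGeometry Opposite TopologicalSpace

namespace K626.HomPiece

open AlgSp K610.SchLocus K626.W5 K626.HomAct K626.HomPt K626.HomFld K626.HomFA K626.ClosedPt K626.IntCov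

/-- finite sets of points in an open subset of an affine scheme -/
theorem exists_affine_of_finite {P T : Scheme.{u}} [IsAffine T] (o : P ⟶ T) [IsOpenImmersion o] (F : Set P)
    (hF : F.Finite) : ∃ V : P.Opens, IsAffineOpen V ∧ F ⊆ (V : Set P) := by
  let o' : P ⟶ Spec Γ(T, ⊤) := o ≫ T.isoSpec.hom
  obtain ⟨b, hb1, hb2⟩ := Groth.Agent.S16030.result Γ(T, ⊤) (o' '' F) (hF.image _) o'.opensRange (by
    rintro _ ⟨q, -, rfl⟩
    exact ⟨q, rfl⟩)
  have h1 : IsAffineOpen (X := Spec Γ(T, ⊤)) (PrimeSpectrum.basicOpen b) := by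
    have := (isAffineOpen_top (Spec Γ(T, ⊤))).basicOpen ((Scheme.ΓSpecIso Γ(T, ⊤)).inv b)
    rwa [basicOpen_eq_of_affine] at this
  refine ⟨o' ⁻¹ᵁ (PrimeSpectrum.basicOpen b), h1.preimage_of_isOpenImmersion _ hb2, fun q hq => ?_⟩
  exact hb1 ⟨q, hq, rfl⟩

variable {R : Type u} [CommRing R] {κ : Type u} [Field κ] [IsAlgClosed κ]
  (str : Spec (CommRingCat.of κ) ⟶ Spec (CommRingCat.of R)) [IsIntegralHom str]
  {G Y : Over ((yon (Spec (CommRingCat.of R))).obj (Over.mk (𝟙 (Spec (CommRingCat.of R)))))} [GrpObj G]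
  {a : GAction G Y}

theorem fibre_piece (ha : Trans a) (hG : IsAlgSpace G.left) (hGft : LocP @LocallyOfFiniteType G.hom)
    (hY : IsAlgSpace Y.left) (hYft : LocP @LocallyOfFiniteType Y.hom) (hsep : IsSeparatedSp Y.left)
    {X : Sp (Spec (CommRingCat.of R))} {j : X ⟶ Y.left} (hj : RepWith @IsOpenImmersion j)
    (hX : IsQuasiCompactSp X) :
    Piece X (Set.range (Points.map (prod.fst : X ⨯ (yon _).obj (Over.mk str) ⟶ X))) := by
  classical
  have : Mono j := K610.Factor.mono_of_isOpenImmersion hj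
  have hXa : IsAlgSpace X := K610.Sub.isAlgSpace_of_mono hj.1 hY
  -- `X_T` is a scheme
  have hrep : (X ⨯ (yon _).obj (Over.mk str)).obj.IsRepresentable := by
    have h1 := isRepresentable str a ha hY hYft hsep
    change (bc ⟨X, hXa⟩ (Over.mk str)).obj.obj.IsRepresentable
    rw [isRepresentable_iff_forall]
    intro x
    refine mem_locus_iff.1 (mem_locus_of_map (Y := bc ⟨Y.left, hY⟩ (Over.mk str)) (Y' := bc ⟨X, hXa⟩ (Over.mk str))
      (f := prod.map j (𝟙 ((yon _).obj (Over.mk str)))) (openImm_map_left hj _).1 ?_)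
    exact (isSch_univ_iff.2 h1).subset_locus (X := bc ⟨Y.left, hY⟩ (Over.mk str)) trivial
  obtain ⟨Z, ⟨e⟩⟩ := (K610.ZarGlue.isRepresentable_iff).1 hrep
  refine ⟨Z, e.hom ≫ prod.fst, ?_, ?_, ?_⟩
  · exact (MorphismProperty.cancel_left_of_respectsIso (RepWith @IsIntegralHom) _ _).2
      (K625.Prod.repWith_fst @IsIntegralHom X (Over.mk str) (show IsIntegralHom str from inferInstance))
  · rintro _ ⟨x, rfl⟩
    refine ⟨(homeoOfIso e).symm x, ?_⟩
    rw [← Points.map_ofPt]
    congr 1
    exact (homeoOfIso e).apply_symm_apply x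
  · intro E hE hEc
    obtain ⟨V, p, hp, hp', hV⟩ := hX
    have : CompactSpace V.left := hV
    have : LocallyOfFiniteType V.hom :=
      prop_chart hYft (MorphismProperty.comp_mem _ _ _ hp (K610.OpenImm.repWith_etale_of_open hj))
    have hpts := fun x : E => exists_finite_pts str hp' x.1 (hEc x.1 x.2)
    choose ι hι y hy using hpts
    have : Finite E := hE.to_subtype
    obtain ⟨T', t, hT', ht, htr⟩ := inAffine_range ha hG hGft hY hYft hsep
      (fun i : (Σ x : E, ι x) => y i.1 i.2 ≫ j)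
    -- the intersection with `X_T`
    let J : (yon _).obj Z ⟶ Y.left ⨯ (yon _).obj (Over.mk str) := e.hom ≫ prod.map j (𝟙 _)
    have hJ : RepWith @IsOpenImmersion J := (MorphismProperty.cancel_left_of_respectsIso (RepWith @IsOpenImmersion) _ _).2
      (openImm_map_left hj _)
    obtain ⟨P, snd, fst, sq⟩ := hJ.1 t
    obtain ⟨f', rfl⟩ := (yon _).map_surjective fst
    have ho : IsOpenImmersion snd.left := hJ.2 _ _ _ sq
    have hf' : IsOpenImmersion f'.left := ht.2 _ _ _ sq.flip
    let F : Set P.left := {q | Points.ofPt (e.hom ≫ prod.fst) (f'.left q) ∈ E}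
    have hZpt : ∀ z : Z.left, Points.ofPt (e.hom ≫ prod.fst) z ∈ E →
        ∃ i : (Σ x : E, ι x), Points.ofPt e.hom z = pX str (y i.1 i.2) := by
      intro z hz
      obtain ⟨i, hi⟩ := hy ⟨_, hz⟩ (Points.ofPt e.hom z) (by rw [Points.map_ofPt])
      exact ⟨⟨⟨_, hz⟩, i⟩, hi⟩
    have hFz : {z : Z.left | Points.ofPt (e.hom ≫ prod.fst) z ∈ E}.Finite := by
      refine Set.Finite.subset (Set.finite_range fun i : (Σ x : E, ι x) => (homeoOfIso e).symm (pX str (y i.1 i.2))) ?_
      intro z hz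
      obtain ⟨i, hi⟩ := hZpt z hz
      refine ⟨i, ?_⟩
      change (homeoOfIso e).symm (pX str (y i.1 i.2)) = z
      rw [← hi]
      exact (homeoOfIso e).symm_apply_apply z
    have hF : F.Finite := Set.Finite.preimage (f := f'.left) f'.left.isOpenEmbedding.injective.injOn hFz
    obtain ⟨V', hV', hFV⟩ := exists_affine_of_finite snd.left F hF
    refine ⟨f'.left ''ᵁ V', hV'.image_of_isOpenImmersion _, fun z hz => ?_⟩
    -- `z` comes from `P`
    obtain ⟨i, hi⟩ := hZpt z hz
    obtain ⟨t', ht'⟩ := htr ⟨i, rfl⟩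
    have h5 : Points.map J (Points.ofScheme Z z) = Points.ofPt t t' := by
      rw [ht', ← Points.ofPt_eq_map_ofScheme, ← Points.map_ofPt, hi]
      unfold pX
      rw [Points.map_ofPt, prod.lift_map, Category.comp_id]
    obtain ⟨q, hq, -⟩ := K647.Pts.exists_point_rep sq (Points.ofScheme Z z) t' h5
    have hqz : f'.left q = z := by
      have h6 : Points.ofPt ((yon _).map f' ≫ 𝟙 _) q = Points.ofScheme Z z := by
        rw [Category.comp_id]
        exact hq
      rw [K647.Pts.ofPt_map] at h6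
      exact (Points.schemeEquiv Z).injective h6
    refine ⟨q, hFV ?_, hqz⟩
    change Points.ofPt (e.hom ≫ prod.fst) (f'.left q) ∈ E
    rw [hqz]
    exact hz

end K626.HomPiece
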