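import Groth.Agent.AlgSp.K626.HomAct
import Groth.Agent.AlgSp.K626.GenIrr
import Groth.Agent.AlgSp.K626.W5Core

/-!
# Points with values in an algebraically closed field of homogeneous spaces
-/

set_option autoImplicit false
set_option backward.isDefEq.respectTransparency false
universe u

open CategoryTheory CategoryTheory.Limits AlgebraicGeometry Opposite TopologicalSpace

namespace K626.HomPt

open AlgSp K610.SchLocus K626.W5 K626.HomAct

variable {S : Scheme.{u}} {κ : Type u} [Field κ] (str : Spec (CommRingCat.of κ) ⟶ S)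

/-- the closed point of the spectrum of a field -/
abbrev t₀ : ↥(Over.mk str : Over S).left := IsLocalRing.closedPoint κ

/-- the point of `|X_T|` defined by a `κ`-point of `X`, `T = Spec κ` -/
noncomputable def pX {X : Sp S} (x : (yon S).obj (Over.mk str) ⟶ X) : Points (X ⨯ (yon S).obj (Over.mk str)) :=
  Points.ofPt (prod.lift x (𝟙 _)) (t₀ str)

section chart

variable (V : Over S)

/-- `V_T` -/
noncomputable abbrev chT : Over S := Over.mk (pullback.fst V.hom str ≫ V.hom)

noncomputable abbrev chT₁ : chT str V ⟶ V := Over.homMk (pullback.fst V.hom str) rfl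

noncomputable abbrev chT₂ : chT str V ⟶ Over.mk str :=
  Over.homMk (pullback.snd V.hom str) pullback.condition.symm

variable {V} {X : Sp S} (p : (yon S).obj V ⟶ X)

noncomputable abbrev chMap : (yon S).obj (chT str V) ⟶ X ⨯ (yon S).obj (Over.mk str) :=
  prod.lift ((yon S).map (chT₁ str V) ≫ p) ((yon S).map (chT₂ str V))

theorem isIso_prodLift : IsIso (prod.lift ((yon S).map (chT₁ str V)) ((yon S).map (chT₂ str V)) :
    (yon S).obj (chT str V) ⟶ (yon S).obj V ⨯ (yon S).obj (Over.mk str)) := by
  have sq : IsPullback (chT₁ str V) (chT₂ str V) (K625.Prod.toBase V) (K625.Prod.toBase (Over.mk str)) := by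
    refine IsPullback.of_map (Over.forget S) ?_ ?_
    · ext1
      exact pullback.condition
    · exact IsPullback.of_hasPullback V.hom str
  have sq' := sq.map (yon S)
  have sq2 := K625.Prod.isPullback_prod ((yon S).obj V) ((yon S).obj (Over.mk str))
  rw [K625.Prod.from_eq, K625.Prod.from_eq] at sq2
  have e : (sq'.isoIsPullback _ _ sq2).hom =
      prod.lift ((yon S).map (chT₁ str V)) ((yon S).map (chT₂ str V)) := by
    apply Limits.prod.hom_ext
    · rw [prod.lift_fst]
      exact sq'.isoIsPullback_hom_fst _ _ sq2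
    · rw [prod.lift_snd]
      exact sq'.isoIsPullback_hom_snd _ _ sq2
  rw [← e]
  infer_instance

theorem repWith_chMap (P : MorphismProperty Scheme.{u}) (hp : RepWith P p) : RepWith P (chMap str p) := by
  have e : chMap str p = prod.lift ((yon S).map (chT₁ str V)) ((yon S).map (chT₂ str V)) ≫
      prod.map p (𝟙 _) := by
    rw [prod.lift_map, Category.comp_id]
  rw [e]
  have := isIso_prodLift str (V := V)
  exact (MorphismProperty.cancel_left_of_respectsIso (RepWith P) _ _).2
    (MorphismProperty.of_isPullback (K625.Prod.isPullback_map_left ((yon S).obj (Over.mk str)) p) hp)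

end chart

section points

variable [IsAlgClosed κ] {V : Over S} {X : Sp S} {p : (yon S).obj V ⟶ X}

/-- nonempty locally closed subsets of `|X_T|` contain `κ`-points -/
theorem exists_pX (hp' : RepWith @Surjective p) [LocallyOfFiniteType V.hom]
    {Z O : Set (Points (X ⨯ (yon S).obj (Over.mk str)))} (hZ : IsClosed Z) (hO : IsOpen O)
    (hne : (Z ∩ O).Nonempty) : ∃ v : Over.mk str ⟶ V, pX str ((yon S).map v ≫ p) ∈ Z ∩ O := by
  obtain ⟨z, hz, hzO⟩ := hne
  have hs := repWith_chMap str p @Surjective hp'
  obtain ⟨z', rfl⟩ := K610.Base.surjective_ofPt hs z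
  let g := chMap str p
  let W : (chT str V).left.Opens := ⟨{f | Points.ofPt g f ∈ O}, hO.preimage (Points.continuous_ofPt g)⟩
  let h : (W : Scheme.{u}) ⟶ Spec (CommRingCat.of κ) := W.ι ≫ (chT₂ str V).left
  have hft : LocallyOfFiniteType (chT₂ str V).left :=
    inferInstanceAs (LocallyOfFiniteType (pullback.snd V.hom str))
  have : LocallyOfFiniteType h := inferInstanceAs (LocallyOfFiniteType (W.ι ≫ (chT₂ str V).left))
  obtain ⟨q, hq, hqC⟩ := exists_ratPt h {w | Points.ofPt g w.1 ∈ Z}
    (hZ.preimage ((Points.continuous_ofPt g).comp continuous_subtype_val)) ⟨⟨z', hzO⟩, hz⟩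
  have hq' : q ≫ W.ι ≫ (chT₂ str V).left = 𝟙 _ := hq
  let σ : Over.mk str ⟶ chT str V := Over.homMk (q ≫ W.ι) (by
    have := Over.w (chT₂ str V)
    rw [← this]
    change (q ≫ W.ι) ≫ (chT₂ str V).left ≫ str = str
    rw [Category.assoc, reassoc_of% hq'])
  have hσ : σ ≫ chT₂ str V = 𝟙 _ := by
    ext1
    exact (Category.assoc _ _ _).trans hq'
  refine ⟨σ ≫ chT₁ str V, ?_⟩
  have e : prod.lift ((yon S).map (σ ≫ chT₁ str V) ≫ p) (𝟙 _) = (yon S).map σ ≫ g := by
    apply Limits.prod.hom_ext
    · rw [prod.lift_fst, Category.assoc, prod.lift_fst, Functor.map_comp, Category.assoc]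
    · rw [prod.lift_snd, Category.assoc, prod.lift_snd, ← Functor.map_comp, hσ, CategoryTheory.Functor.map_id]
  have e2 : pX str ((yon S).map (σ ≫ chT₁ str V) ≫ p) = Points.ofPt g (W.ι (q (t₀ str))) := by
    unfold pX
    rw [e, K647.Pts.ofPt_map]
    rfl
  rw [e2]
  exact ⟨hqC _, (q (t₀ str)).2⟩

end points

section act

variable {G Y : Over ((yon S).obj (Over.mk (𝟙 S)))} [GrpObj G] (a : GAction G Y)

theorem map_tr_pX (g : (yon S).obj (Over.mk str) ⟶ G.left) (y : (yon S).obj (Over.mk str) ⟶ Y.left) :
    Points.map (trIso a g).hom (pX str y) = pX str (smul a g y) := by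
  unfold pX
  rw [Points.map_ofPt]
  congr 1
  refine (comp_tr a g _).trans ?_
  rw [prod.lift_fst, ← Category.assoc, prod.lift_snd, Category.id_comp]

theorem continuous_map_tr (g : (yon S).obj (Over.mk str) ⟶ G.left) :
    Continuous (Points.map (trIso a g).hom) := Points.continuous_map _

theorem map_tr_inv_hom (g : (yon S).obj (Over.mk str) ⟶ G.left) (x : Points (Y.left ⨯ (yon S).obj (Over.mk str))) :
    Points.map (trIso a g).hom (Points.map (trIso a g).inv x) = x := by
  rw [← Points.map_comp, Iso.inv_hom_id, Points.map_id]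

theorem map_tr_hom_inv (g : (yon S).obj (Over.mk str) ⟶ G.left) (x : Points (Y.left ⨯ (yon S).obj (Over.mk str))) :
    Points.map (trIso a g).inv (Points.map (trIso a g).hom x) = x := by
  rw [← Points.map_comp, Iso.hom_inv_id, Points.map_id]

/-- the translation homeomorphism -/
noncomputable def trHomeo (g : (yon S).obj (Over.mk str) ⟶ G.left) :
    Points (Y.left ⨯ (yon S).obj (Over.mk str)) ≃ₜ Points (Y.left ⨯ (yon S).obj (Over.mk str)) where
  toFun := Points.map (trIso a g).hom
  invFun := Points.map (trIso a g).inv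
  left_inv := map_tr_hom_inv str a g
  right_inv := map_tr_inv_hom str a g
  continuous_toFun := Points.continuous_map _
  continuous_invFun := Points.continuous_map _

/-- a nonempty open subset of `|Y_T|` stable under the translations is everything -/
theorem eq_univ_of_stable [IsAlgClosed κ] (ha : Trans a) (hY : IsAlgSpace Y.left) (hYft : LocP @LocallyOfFiniteType Y.hom)
    {Q : Set (Points (Y.left ⨯ (yon S).obj (Over.mk str)))} (hQ : IsOpen Q) (hne : Q.Nonempty)
    (hst : ∀ (g : (yon S).obj (Over.mk str) ⟶ G.left), ∀ x ∈ Q, Points.map (trIso a g).hom x ∈ Q) :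
    Q = Set.univ := by
  obtain ⟨V, p, hp, hp'⟩ := hY.atlas
  have : LocallyOfFiniteType V.hom := prop_chart hYft hp
  by_contra hQu
  obtain ⟨v, hv, -⟩ := exists_pX str hp' hQ.isClosed_compl isOpen_univ
    ((Set.nonempty_compl.2 hQu).mono fun x hx => ⟨hx, trivial⟩)
  obtain ⟨w, -, hw⟩ := exists_pX str hp' isClosed_univ hQ (hne.mono fun x hx => ⟨trivial, hx⟩)
  obtain ⟨g, hg⟩ := ha κ str ((yon S).map w ≫ p) ((yon S).map v ≫ p)
  refine hv ?_
  rw [← hg, ← map_tr_pX]
  exact hst g _ hw

/-- all points of `|Y_T|` have irreducible neighbourhoods -/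
theorem irrAt [IsAlgClosed κ] (ha : Trans a) (hY : IsAlgSpace Y.left) (hYft : LocP @LocallyOfFiniteType Y.hom)
    (x : Points (Y.left ⨯ (yon S).obj (Over.mk str))) : GenIrr.IrrAt x := by
  obtain ⟨V, p, hp, hp'⟩ := hY.atlas
  have : LocallyOfFiniteType V.hom := prop_chart hYft hp
  have hft : LocallyOfFiniteType (chT₂ str V).left :=
    inferInstanceAs (LocallyOfFiniteType (pullback.snd V.hom str))
  have hN : IsLocallyNoetherian (chT str V).left := LocallyOfFiniteType.isLocallyNoetherian
    (show (chT str V).left ⟶ Spec (CommRingCat.of κ) from (chT₂ str V).left)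
  obtain ⟨v, rfl⟩ := K610.Base.surjective_ofPt (repWith_chMap str p @Surjective hp') x
  have : Nonempty (chT str V).left := ⟨v⟩
  obtain ⟨w, hw⟩ := GenIrr.exists_irrAt (chT str V).left
  have h1 : GenIrr.IrrAt (Points.ofPt (chMap str p) w) :=
    hw.map (Points.continuous_ofPt _) (K610.Base.isOpenMap_ofPt_etale (repWith_chMap str p @Etale hp))
  have key := eq_univ_of_stable str a ha hY hYft (GenIrr.isOpen_irrAt _) ⟨_, h1⟩ fun g x hx =>
    hx.map (Points.continuous_map _) (trHomeo str a g).isOpenMap
  exact (key.symm ▸ Set.mem_univ (Points.ofPt (chMap str p) v) : Points.ofPt (chMap str p) v ∈ {x | GenIrr.IrrAt x})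

end act

end K626.HomPt
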