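import Groth.Agent.AlgSp.K626.HomAct
import Groth.Agent.AlgSp.K626.W5Final

/-!
# Quasi-compact open subspaces of homogeneous spaces over a Dedekind ring become schemes after a finite
extension of the fraction field
-/

set_option autoImplicit false
set_option backward.isDefEq.respectTransparency false
universe u

open CategoryTheory CategoryTheory.Limits AlgebraicGeometry Opposite TopologicalSpace

namespace K626.HomW5

open AlgSp K610.SchLocus K626.W5 K626.HomAct

variable {R : Type u} [CommRing R] {B : Type u} [CommRing B] [Algebra R B]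
  {G Y : Over ((yon (Spec (CommRingCat.of R))).obj (Over.mk (𝟙 (Spec (CommRingCat.of R)))))} [GrpObj G]
  (a : GAction G Y)

/-- the schematic locus meets every nonempty fibre -/
def MeetsFibres (Y : Over ((yon (Spec (CommRingCat.of R))).obj (Over.mk (𝟙 (Spec (CommRingCat.of R)))))) : Prop :=
  ∀ (V : Over (Spec (CommRingCat.of R))) (_ : (yon _).obj V ⟶ Y.left) (v : V.left),
    ∃ (H : Over (Spec (CommRingCat.of R))) (h : (yon _).obj H ⟶ Y.left),
      RepWith @IsOpenImmersion h ∧ V.hom v ∈ Set.range H.hom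

theorem exists_mem_W (ha : Trans a) (hG : IsAlgSpace G.left) (hft : LocP @LocallyOfFiniteType G.hom)
    (hfl : LocP @Flat G.hom) (hY : IsAlgSpace Y.left) (hYft : LocP @LocallyOfFiniteType Y.hom) (hU : MeetsFibres Y)
    (X : Space (Spec (CommRingCat.of R))) (j : X.obj ⟶ Y.left) (hj : RepWith @IsOpenImmersion j)
    (hB : ∀ (q : Ideal B) [q.IsPrime], IsAlgClosed q.ResidueField) (hL : Lifts R B)
    (q : Ideal B) [q.IsPrime] (x : (yon _).obj (alg R q.ResidueField) ⟶ X.obj) (t₀ : (alg R q.ResidueField).left) :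
    ∃ R₁ : Subalgebra R B, Module.Finite R R₁ ∧
      Points.ofPt (prod.lift x ((yon _).map (resPt R q))) t₀ ∈ W X R₁ := by
  have := hB q
  let κ := alg R q.ResidueField
  -- a point of the schematic locus
  obtain ⟨H, h, hh, t, ht⟩ := hU κ (x ≫ j) t₀
  have hHe : RepWith @Etale h := K610.OpenImm.repWith_etale_of_open hh
  have hHft : LocallyOfFiniteType H.hom := prop_chart hYft hHe
  let F : Over (Spec (CommRingCat.of R)) := Over.mk (pullback.fst H.hom κ.hom ≫ H.hom)
  let f₁ : F ⟶ H := Over.homMk (pullback.fst H.hom κ.hom) rfl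
  let f₂ : F ⟶ κ := Over.homMk (pullback.snd H.hom κ.hom) pullback.condition.symm
  obtain ⟨z, -, -⟩ := Scheme.Pullback.exists_preimage_pullback t t₀ ht
  obtain ⟨σ, hσ, -⟩ := exists_pt_chart q H F f₁ f₂ (IsPullback.of_hasPullback _ _) Set.univ isClosed_univ ⟨z, trivial⟩
  let u : (yon _).obj κ ⟶ Y.left := (yon _).map (σ ≫ f₁) ≫ h
  have hu : Points.ofPt u t₀ ∈ locus ⟨Y.left, hY⟩ := by
    have h1 : IsSch Y.left (Set.range (Points.ofPt h)) := ⟨H, h, hh, rfl⟩
    refine (show IsSch (⟨Y.left, hY⟩ : Space _).obj _ from h1).subset_locus ?_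
    rw [K647.Pts.ofPt_map]
    exact ⟨_, rfl⟩
  -- the translation element
  obtain ⟨g, hg0⟩ := ha q.ResidueField _ u (x ≫ j)
  obtain ⟨C, pC, hC, hC'⟩ := hG.atlas
  have hCft : LocallyOfFiniteType C.hom := prop_chart hft hC
  have hCfl : Flat C.hom := prop_chart hfl hC
  obtain ⟨l, hl⟩ := exists_lift_chart _ g hC hC'
  obtain ⟨A, _, _, _, _, i, y, hi⟩ := exists_affine_fac C l
  obtain ⟨R₁, hR₁, f, s, t, ht, hts⟩ := hL q A y
  refine ⟨R₁, hR₁, ?_⟩
  let T := alg R (Localization.Away f)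
  let g₁ : (yon _).obj T ⟶ G.left := (yon _).map (algHom s ≫ i) ≫ pC
  let ι : κ ⟶ T := algHom t
  have hg : (yon _).map ι ≫ g₁ = g := by
    rw [← hl, ← Category.assoc, ← Functor.map_comp, ← Category.assoc, ← algHom_comp, hts, hi]
  let ρ : T ⟶ alg R R₁ := algHom (IsScalarTower.toAlgHom R R₁ (Localization.Away f))
  have hρ : IsOpenImmersion ρ.left := by
    change IsOpenImmersion (Spec.map (CommRingCat.ofHom (algebraMap R₁ (Localization.Away f))))
    infer_instance
  have hιρ : ι ≫ ρ = resPt R q ≫ algHom R₁.val := by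
    rw [← algHom_comp, ← algHom_comp]
    congr 1
    ext r
    exact ht r
  let τ : Y.left ⨯ (yon _).obj T ≅ Y.left ⨯ (yon _).obj T := trIso a g₁
  let P₁ : (yon _).obj κ ⟶ Y.left ⨯ (yon _).obj T := prod.lift u ((yon _).map ι)
  have hP₁ : P₁ ≫ τ.hom = prod.lift (x ≫ j) ((yon _).map ι) := by
    have a1 : P₁ ≫ prod.fst = u := prod.lift_fst _ _
    have a2 : P₁ ≫ prod.snd = (yon _).map ι := prod.lift_snd _ _
    have b1 : P₁ ≫ prod.snd ≫ g₁ = g := by
      rw [← Category.assoc, a2]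
      exact hg
    refine (comp_tr a g₁ P₁).trans ?_
    rw [a1, a2, b1, hg0]
  have m₁ : Points.ofPt P₁ t₀ ∈ locus (bc ⟨Y.left, hY⟩ T) := by
    refine mem_locus_of_map (Y := ⟨Y.left, hY⟩) (f := (prod.fst : Y.left ⨯ (yon _).obj T ⟶ Y.left))
      (K625.Prod.repWith_fst ⊤ Y.left T trivial).1 ?_
    rw [Points.map_ofPt, prod.lift_fst]
    exact hu
  have m₂ : Points.ofPt (prod.lift (x ≫ j) ((yon _).map ι)) t₀ ∈ locus (bc ⟨Y.left, hY⟩ T) := by
    rw [← hP₁, ← Points.map_ofPt]
    exact map_iso_mem_locus (Y := bc ⟨Y.left, hY⟩ T) (Y' := bc ⟨Y.left, hY⟩ T) τ m₁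
  have m₃ : Points.ofPt (prod.lift (x ≫ j) ((yon _).map (ι ≫ ρ))) t₀ ∈ locus (bc ⟨Y.left, hY⟩ (alg R R₁)) := by
    have e : prod.lift (x ≫ j) ((yon _).map (ι ≫ ρ)) =
        prod.lift (x ≫ j) ((yon _).map ι) ≫ bcMap Y.left ρ := by
      rw [prod.lift_map, Category.comp_id, Functor.map_comp]
    rw [e, ← Points.map_ofPt]
    exact map_mem_locus (Y := bc ⟨Y.left, hY⟩ (alg R R₁)) (Y' := bc ⟨Y.left, hY⟩ T) (openImm_bcMap Y.left ρ) m₂
  change Points.map (bcMap X.obj (algHom R₁.val)) _ ∈ locus (bc X (alg R R₁))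
  refine mem_locus_of_map (Y := bc ⟨Y.left, hY⟩ (alg R R₁)) (Y' := bc X (alg R R₁))
    (f := prod.map j (𝟙 ((yon _).obj (alg R R₁)))) (openImm_map_left hj _).1 ?_
  rw [Points.map_ofPt, Points.map_ofPt]
  have e : (prod.lift x ((yon _).map (resPt R q)) ≫ bcMap X.obj (algHom R₁.val)) ≫ prod.map j (𝟙 _) =
      prod.lift (x ≫ j) ((yon _).map (ι ≫ ρ)) := by
    rw [prod.lift_map, prod.lift_map, Category.comp_id, Category.comp_id, hιρ, Functor.map_comp]
  rw [e]
  exact m₃

/-- quasi-compact open subspaces of homogeneous spaces become schemes over a finite subalgebra of `B` -/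
theorem exists_isRepresentable [Algebra.IsIntegral R B] (ha : Trans a) (hG : IsAlgSpace G.left)
    (hft : LocP @LocallyOfFiniteType G.hom)
    (hfl : LocP @Flat G.hom) (hY : IsAlgSpace Y.left) (hYft : LocP @LocallyOfFiniteType Y.hom) (hU : MeetsFibres Y)
    (X : Space (Spec (CommRingCat.of R))) (j : X.obj ⟶ Y.left) (hj : RepWith @IsOpenImmersion j)
    (hX : IsQuasiCompactSp X.obj)
    (hB : ∀ (q : Ideal B) [q.IsPrime], IsAlgClosed q.ResidueField) (hL : Lifts R B) :
    ∃ R₁ : Subalgebra R B, Module.Finite R R₁ ∧ (X.obj ⨯ (yon _).obj (alg R R₁)).obj.IsRepresentable := by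
  refine exists_level X hX fun z => ?_
  by_contra hz
  have hZ : IsClosed (WU (B := B) X)ᶜ := (isOpen_WU X).isClosed_compl
  obtain ⟨V, p, hp, hp'⟩ := X.property.atlas
  have hpj : RepWith @Etale (p ≫ j) :=
    MorphismProperty.comp_mem _ _ _ hp (K610.OpenImm.repWith_etale_of_open hj)
  have : LocallyOfFiniteType V.hom := prop_chart hYft hpj
  obtain ⟨q, hq, x, hx⟩ := exists_pt X V p hp' hB _ hZ ⟨z, hz⟩
  obtain ⟨R₁, h₁, hm⟩ := exists_mem_W a ha hG hft hfl hY hYft hU X j hj hB hL q x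
    (IsLocalRing.closedPoint q.ResidueField)
  exact hx _ ⟨R₁, h₁, hm⟩

/-- the schematic locus of a separated space locally of finite type over a Dedekind ring meets every nonempty
fibre -/
theorem meetsFibres [IsDedekindDomain R] (hY : IsAlgSpace Y.left) (hYft : LocP @LocallyOfFiniteType Y.hom)
    (hsep : IsSeparatedSp Y.left) (hC : CodimOne (Spec (CommRingCat.of R))) : MeetsFibres Y := by
  intro V₀ e w
  obtain ⟨V, p, hp, hp'⟩ := hY.atlas
  have : LocallyOfFiniteType V.hom := prop_chart hYft hp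
  obtain ⟨v₀, hv₀⟩ := K647.Pts.exists_ofPt_of_surj hp' (Points.ofPt e w)
  have h1 : V.hom v₀ = V₀.hom w := hom_eq_of_ofPt_eq hv₀
  obtain ⟨v, hv, hd⟩ := exists_point_codim_le_one (R := R) V.hom v₀
  have : IsLocallyNoetherian V.left := LocallyOfFiniteType.isLocallyNoetherian V.hom
  have hx : Points.ofPt p v ∈ locus ⟨Y.left, hY⟩ :=
    hC ⟨Y.left, hY⟩ hsep ⟨V, p, hp, hp', this⟩ _ ⟨V, p, v, hp, rfl, hd⟩
  obtain ⟨H, j, hj, hr⟩ := isSch_locus (⟨Y.left, hY⟩ : Space (Spec (CommRingCat.of R)))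
  rw [← hr] at hx
  obtain ⟨y, hy⟩ := hx
  exact ⟨H, j, hj, y, (hom_eq_of_ofPt_eq hy).trans (hv.trans h1)⟩

/-- Node (W5) for homogeneous spaces -/
theorem main [IsDedekindDomain R] (K : Type u) [Field K] [Algebra R K] [IsFractionRing R K]
    (ha : Trans a) (hG : IsAlgSpace G.left) (hft : LocP @LocallyOfFiniteType G.hom) (hfl : LocP @Flat G.hom)
    (hY : IsAlgSpace Y.left) (hYft : LocP @LocallyOfFiniteType Y.hom)
    (hsep : IsSeparatedSp Y.left) (hC : CodimOne (Spec (CommRingCat.of R)))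
    (X : Space (Spec (CommRingCat.of R))) (j : X.obj ⟶ Y.left) (hj : RepWith @IsOpenImmersion j)
    (hX : IsQuasiCompactSp X.obj) :
    ∃ (K₁ : Type u) (_ : Field K₁) (_ : Algebra K K₁), FiniteDimensional K K₁ ∧
      ∀ (K₂ : Type u) [Field K₂] [Algebra K K₂] [Algebra R K₂] [IsScalarTower R K K₂] (_ : K₁ →ₐ[K] K₂),
        (X.obj ⨯ (yon _).obj (alg R (integralClosure R K₂))).obj.IsRepresentable := by
  let Kb := AlgebraicClosure K
  let B := integralClosure R Kb
  have hinj : ∀ x, algebraMap R Kb x = 0 → x = 0 := fun x hx => by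
    rw [IsScalarTower.algebraMap_apply R K Kb] at hx
    exact (map_eq_zero_iff _ (IsFractionRing.injective R K)).1
      ((map_eq_zero_iff _ (algebraMap K Kb).injective).1 hx)
  have halg : Algebra.IsAlgebraic R Kb := (IsFractionRing.comap_isAlgebraic_iff (A := R) (K := K) (C := Kb)).2 inferInstance
  have : IsFractionRing B Kb := integralClosure.isFractionRing_of_algebraic hinj
  have : IsIntegrallyClosed B := (isIntegrallyClosed_iff_isIntegrallyClosedIn Kb).2 inferInstance
  obtain ⟨R₁, h₁, hR₁⟩ := exists_isRepresentable (R := R) (B := B) a ha hG hft hfl hY hYft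
    (meetsFibres hY hYft hsep hC) X j hj hX (fun q _ => isAlgClosed_residueField Kb q) (lifts R B Kb)
  -- the finite extension
  obtain ⟨s, hs⟩ := (Module.Finite.fg_top : (⊤ : Submodule R R₁).FG)
  let t : Set Kb := (fun r : R₁ => (algebraMap B Kb r)) '' (s : Set R₁)
  have ht : t.Finite := s.finite_toSet.image _
  let E : IntermediateField K Kb := IntermediateField.adjoin K t
  have hE : FiniteDimensional K E := by
    have := ht.to_subtype
    exact IntermediateField.finiteDimensional_adjoin fun x _ => Algebra.IsIntegral.isIntegral x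
  have hm : ∀ r : R₁, algebraMap B Kb r ∈ E := fun r => by
    have hr : r ∈ Submodule.span R (s : Set R₁) := by rw [hs]; trivial
    induction hr using Submodule.span_induction with
    | mem x hx => exact IntermediateField.subset_adjoin K t ⟨x, hx, rfl⟩
    | zero => simp
    | add x y _ _ hx hy =>
      have : algebraMap B Kb ((x + y : R₁) : B) = algebraMap B Kb (x : B) + algebraMap B Kb (y : B) := by simp
      rw [this]
      exact add_mem hx hy
    | smul a x _ hx =>
      have : algebraMap B Kb ((a • x : R₁) : B) = algebraMap K Kb (algebraMap R K a) * algebraMap B Kb (x : B) := by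
        rw [← IsScalarTower.algebraMap_apply, Subalgebra.coe_smul, Algebra.smul_def, map_mul,
          ← IsScalarTower.algebraMap_apply]
      rw [this]
      exact mul_mem (E.algebraMap_mem _) hx
  refine ⟨E, inferInstance, inferInstance, hE, fun K₂ _ _ _ _ φ => ?_⟩
  let ψ₀ : R₁ →ₐ[R] Kb := (Algebra.ofId B Kb).restrictScalars R |>.comp R₁.val
  let ψ₁ : R₁ →ₐ[R] E := AlgHom.codRestrict ψ₀ (E.toSubalgebra.restrictScalars R) hm
  let ψ₂ : R₁ →ₐ[R] K₂ := (φ.restrictScalars R).comp ψ₁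
  let ψ₃ : R₁ →ₐ[R] integralClosure R K₂ := AlgHom.codRestrict ψ₂ _ fun r =>
    (Algebra.IsIntegral.isIntegral (R := R) r).map ψ₂
  exact isRepresentable_of_algHom X.obj ψ₃ hR₁

end K626.HomW5
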