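import Groth.Agent.AlgSp.K613.Basic
import Groth.Agent.AlgSp.K610.Base
import Groth.Agent.AlgSp.K647.Pts
import Groth.Agent.AlgSp.K625.Prod
import Mathlib.AlgebraicGeometry.Limits
import Mathlib.AlgebraicGeometry.Morphisms.Integral

/-!
# Disjoint unions of integral morphisms from schemes to algebraic spaces
-/

set_option autoImplicit false
set_option backward.isDefEq.respectTransparency false
universe u

open CategoryTheory CategoryTheory.Limits AlgebraicGeometry Opposite TopologicalSpace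

namespace K626.IntCov

open AlgSp

variable {S : Scheme.{u}} {X : Sp S}

theorem hom_ext_of_isEmpty {R : Over S} [hR : IsEmpty R.left] (x y : (yon S).obj R ⟶ X) : x = y := by
  obtain ⟨z, -, hz⟩ := K613.Basic.glueFam (S := S) (F := X) (T := R) (ι := PEmpty.{u + 1}) (fun i => i.elim)
    (fun i => i.elim) (fun i => i.elim) (fun i => i.elim) (fun t => (hR.false t).elim) (fun i => i.elim)
    (fun i => i.elim)
  exact (hz x fun i => i.elim).trans (hz y fun i => i.elim).symm

/-- The disjoint union of two schemes over the base. -/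
noncomputable abbrev cop (T₁ T₂ : Over S) : Over S := Over.mk (coprod.desc T₁.hom T₂.hom)

noncomputable abbrev cinl (T₁ T₂ : Over S) : T₁ ⟶ cop T₁ T₂ := Over.homMk coprod.inl (coprod.inl_desc _ _)

noncomputable abbrev cinr (T₁ T₂ : Over S) : T₂ ⟶ cop T₁ T₂ := Over.homMk coprod.inr (coprod.inr_desc _ _)

theorem isOpenImmersion_cinl (T₁ T₂ : Over S) : IsOpenImmersion (cinl T₁ T₂).left :=
  (inferInstance : IsOpenImmersion (coprod.inl : T₁.left ⟶ T₁.left ⨿ T₂.left))

theorem isOpenImmersion_cinr (T₁ T₂ : Over S) : IsOpenImmersion (cinr T₁ T₂).left :=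
  (inferInstance : IsOpenImmersion (coprod.inr : T₂.left ⟶ T₁.left ⨿ T₂.left))

attribute [local instance] isOpenImmersion_cinl isOpenImmersion_cinr

theorem isCompl_cop (T₁ T₂ : Over S) : IsCompl (cinl T₁ T₂).left.opensRange (cinr T₁ T₂).left.opensRange :=
  isCompl_opensRange_inl_inr _ _

theorem mem_cop {T₁ T₂ : Over S} (t : (cop T₁ T₂).left) :
    t ∈ (cinl T₁ T₂).left.opensRange ∨ t ∈ (cinr T₁ T₂).left.opensRange := by
  have h3 : t ∈ (cinl T₁ T₂).left.opensRange ⊔ (cinr T₁ T₂).left.opensRange := by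
    rw [(isCompl_cop T₁ T₂).sup_eq_top]; trivial
  exact h3

theorem mono_of_left {A B : Over S} (f : A ⟶ B) [Mono f.left] : Mono f := by
  have : Mono ((Over.forget S).map f) := (inferInstance : Mono f.left)
  exact (Over.forget S).mono_of_mono_map this

theorem isEmpty_of_inl_inr {T₁ T₂ R : Over S} (a : R ⟶ T₁) (b : R ⟶ T₂) (h : a ≫ cinl T₁ T₂ = b ≫ cinr T₁ T₂) :
    IsEmpty R.left := by
  refine ⟨fun r => ?_⟩
  have h1 := (isCompl_cop T₁ T₂).inf_eq_bot
  have h2 : (cinl T₁ T₂).left (a.left r) ∈ (cinl T₁ T₂).left.opensRange ⊓ (cinr T₁ T₂).left.opensRange := by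
    refine ⟨⟨_, rfl⟩, ⟨b.left r, ?_⟩⟩
    have h4 := congrArg (fun m : R ⟶ cop T₁ T₂ => m.left r) h
    simp only [Over.comp_left, Scheme.Hom.comp_apply] at h4
    exact h4.symm
  rw [h1] at h2
  exact h2

theorem exists_desc {T₁ T₂ : Over S} (g₁ : (yon S).obj T₁ ⟶ X) (g₂ : (yon S).obj T₂ ⟶ X) :
    ∃ g : (yon S).obj (cop T₁ T₂) ⟶ X, (yon S).map (cinl T₁ T₂) ≫ g = g₁ ∧ (yon S).map (cinr T₁ T₂) ≫ g = g₂ := by
  let F : ULift.{u} Bool → Over S := fun b => match b with | ⟨true⟩ => T₁ | ⟨false⟩ => T₂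
  let c : ∀ b, F b ⟶ cop T₁ T₂ := fun b => match b with | ⟨true⟩ => cinl T₁ T₂ | ⟨false⟩ => cinr T₁ T₂
  let x : ∀ b, (yon S).obj (F b) ⟶ X := fun b => match b with | ⟨true⟩ => g₁ | ⟨false⟩ => g₂
  have hop : ∀ b, IsOpenImmersion (c b).left := fun b => match b with
    | ⟨true⟩ => isOpenImmersion_cinl _ _
    | ⟨false⟩ => isOpenImmersion_cinr _ _
  obtain ⟨g, hg, -⟩ := K613.Basic.glueFam (S := S) (F := X) (T := cop T₁ T₂) F c
    (fun b => by have := hop b; infer_instance) (fun b => by have := hop b; infer_instance)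
    (fun t => by
      rcases mem_cop t with ⟨y, hy⟩ | ⟨y, hy⟩
      · exact ⟨⟨true⟩, y, hy⟩
      · exact ⟨⟨false⟩, y, hy⟩) x
    (fun i j R a b hab => by
      match i, j with
      | ⟨true⟩, ⟨true⟩ =>
        have : Mono (cinl T₁ T₂) := mono_of_left _
        rw [(cancel_mono (cinl T₁ T₂)).1 hab]
      | ⟨false⟩, ⟨false⟩ =>
        have : Mono (cinr T₁ T₂) := mono_of_left _
        rw [(cancel_mono (cinr T₁ T₂)).1 hab]
      | ⟨true⟩, ⟨false⟩ =>
        have := isEmpty_of_inl_inr a b hab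
        exact hom_ext_of_isEmpty _ _
      | ⟨false⟩, ⟨true⟩ =>
        have := isEmpty_of_inl_inr b a hab.symm
        exact hom_ext_of_isEmpty _ _)
  exact ⟨g, hg ⟨true⟩, hg ⟨false⟩⟩

/-- Integrality of a morphism from a disjoint union. -/
theorem repWith_cop (hX : Representable (Limits.diag X)) {T₁ T₂ : Over S} (g : (yon S).obj (cop T₁ T₂) ⟶ X)
    (h₁ : RepWith @IsIntegralHom ((yon S).map (cinl T₁ T₂) ≫ g))
    (h₂ : RepWith @IsIntegralHom ((yon S).map (cinr T₁ T₂) ≫ g)) : RepWith @IsIntegralHom g := by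
  refine ⟨Functor.relativelyRepresentable.of_diag hX g, ?_⟩
  intro T V x fst snd sq
  obtain ⟨d, rfl⟩ := (yon S).map_surjective fst
  have key : ∀ (T' : Over S) (i : T' ⟶ cop T₁ T₂) [IsOpenImmersion i.left],
      RepWith @IsIntegralHom ((yon S).map i ≫ g) → IsIntegralHom (pullback.fst d.left i.left ≫ snd.left) := by
    intro T' i _ hi
    let P : Over S := Over.mk (pullback.fst d.left i.left ≫ V.hom)
    let a : P ⟶ V := Over.homMk (pullback.fst d.left i.left) rfl
    let b : P ⟶ T' := Over.homMk (pullback.snd d.left i.left) (by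
      change pullback.snd d.left i.left ≫ T'.hom = pullback.fst d.left i.left ≫ V.hom
      rw [← Over.w i, ← Over.w d, ← pullback.condition_assoc])
    have hsq : IsPullback b a i d := by
      refine IsPullback.of_map (Over.forget S) ?_ ?_
      · ext1
        exact pullback.condition.symm
      · exact (IsPullback.of_hasPullback d.left i.left).flip
    have h1 := (hsq.map (yon S)).paste_vert sq
    rw [← Functor.map_comp] at h1
    exact hi.2 _ _ _ h1
  have k₁ := key T₁ (cinl T₁ T₂) h₁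
  have k₂ := key T₂ (cinr T₁ T₂) h₂
  let i₁ := pullback.fst d.left (cinl T₁ T₂).left
  let i₂ := pullback.fst d.left (cinr T₁ T₂).left
  have hc : IsCompl i₁.opensRange i₂.opensRange := by
    rw [Scheme.Hom.opensRange_pullbackFst, Scheme.Hom.opensRange_pullbackFst]
    have h3 := isCompl_cop T₁ T₂
    refine ⟨?_, ?_⟩
    · rw [disjoint_iff, ← Scheme.Hom.preimage_inf, h3.inf_eq_bot]
      rfl
    · rw [codisjoint_iff, ← Scheme.Hom.preimage_sup, h3.sup_eq_top]
      rfl
  obtain ⟨hcol⟩ := nonempty_isColimit_binaryCofanMk_of_isCompl i₁ i₂ hc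
  let e := (colimit.isColimit (pair (pullback d.left (cinl T₁ T₂).left) (pullback d.left (cinr T₁ T₂).left))).coconePointUniqueUpToIso hcol
  have he₁ : coprod.inl ≫ e.hom = i₁ :=
    (colimit.isColimit _).comp_coconePointUniqueUpToIso_hom hcol ⟨WalkingPair.left⟩
  have he₂ : coprod.inr ≫ e.hom = i₂ :=
    (colimit.isColimit _).comp_coconePointUniqueUpToIso_hom hcol ⟨WalkingPair.right⟩
  change IsIntegralHom snd.left
  rw [← MorphismProperty.cancel_left_of_respectsIso (P := @IsIntegralHom) e.hom snd.left]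
  have h4 : e.hom ≫ snd.left = coprod.desc (i₁ ≫ snd.left) (i₂ ≫ snd.left) := by
    apply coprod.hom_ext
    · rw [coprod.inl_desc, ← Category.assoc]
      exact congrArg (fun f => f ≫ snd.left) he₁
    · rw [coprod.inr_desc, ← Category.assoc]
      exact congrArg (fun f => f ≫ snd.left) he₂
  rw [h4]
  infer_instance

/-- a piece of an integral covering of `X` by a scheme in which finite sets of closed points have preimages in
affine opens -/
def Piece (X : Sp S) (A : Set (Points X)) : Prop :=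
  ∃ (Z : Over S) (π : (yon S).obj Z ⟶ X), RepWith @IsIntegralHom π ∧ A ⊆ Set.range (Points.ofPt π) ∧
    ∀ E : Set (Points X), E.Finite → (∀ x ∈ E, IsClosed ({x} : Set (Points X))) →
      ∃ U : Z.left.Opens, IsAffineOpen U ∧ ∀ z : ↥Z.left, Points.ofPt π z ∈ E → z ∈ U

theorem Piece.union (hX : Representable (Limits.diag X)) {A B : Set (Points X)} (hA : Piece X A) (hB : Piece X B) :
    Piece X (A ∪ B) := by
  obtain ⟨Z₁, π₁, h₁, hA, hE₁⟩ := hA
  obtain ⟨Z₂, π₂, h₂, hB, hE₂⟩ := hB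
  obtain ⟨π, hl, hr⟩ := exists_desc π₁ π₂
  refine ⟨cop Z₁ Z₂, π, repWith_cop hX π (by rwa [hl]) (by rwa [hr]), ?_, fun E hE hEc => ?_⟩
  · rintro x (hx | hx)
    · obtain ⟨z, rfl⟩ := hA hx
      refine ⟨(cinl Z₁ Z₂).left z, ?_⟩
      rw [← K647.Pts.ofPt_map, hl]
    · obtain ⟨z, rfl⟩ := hB hx
      refine ⟨(cinr Z₁ Z₂).left z, ?_⟩
      rw [← K647.Pts.ofPt_map, hr]
  · obtain ⟨U₁, hU₁, h1⟩ := hE₁ E hE hEc
    obtain ⟨U₂, hU₂, h2⟩ := hE₂ E hE hEc
    refine ⟨(cinl Z₁ Z₂).left ''ᵁ U₁ ⊔ (cinr Z₁ Z₂).left ''ᵁ U₂,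
      (hU₁.image_of_isOpenImmersion _).sup_of_disjoint (hU₂.image_of_isOpenImmersion _) ?_, fun z hz => ?_⟩
    · refine (isCompl_cop Z₁ Z₂).disjoint.mono ?_ ?_
      · rintro _ ⟨w, -, rfl⟩
        exact ⟨w, rfl⟩
      · rintro _ ⟨w, -, rfl⟩
        exact ⟨w, rfl⟩
    · rcases mem_cop z with ⟨w, rfl⟩ | ⟨w, rfl⟩
      · left
        refine ⟨w, h1 w ?_, rfl⟩
        rwa [← hl, K647.Pts.ofPt_map]
      · right
        refine ⟨w, h2 w ?_, rfl⟩
        rwa [← hr, K647.Pts.ofPt_map]

theorem Piece.biUnion (hX : Representable (Limits.diag X)) {A₀ : Set (Points X)} (h₀ : Piece X A₀) {ι : Type*}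
    (s : Finset ι) (A : ι → Set (Points X)) (hA : ∀ i, Piece X (A i)) : Piece X (A₀ ∪ ⋃ i ∈ s, A i) := by
  classical
  induction s using Finset.induction with
  | empty => simpa using h₀
  | insert a s ha ih =>
    have h1 := ih.union hX (hA a)
    have e : A₀ ∪ ⋃ i ∈ insert a s, A i = (A₀ ∪ ⋃ i ∈ s, A i) ∪ A a := by
      rw [Finset.set_biUnion_insert, Set.union_comm (A a), Set.union_assoc]
    rwa [e]

theorem Piece.mono {A B : Set (Points X)} (h : Piece X A) (hB : B ⊆ A) : Piece X B := by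
  obtain ⟨Z, π, h1, h2, h3⟩ := h
  exact ⟨Z, π, h1, hB.trans h2, h3⟩

/-- push forward along an integral morphism which is injective on closed points in the sense that finite sets of
closed points have finite sets of closed points as preimages -/
theorem Piece.map {X' : Sp S} {c : X' ⟶ X} (hc : RepWith @IsIntegralHom c) (hinj : Function.Injective (Points.map c))
    {A : Set (Points X')} (h : Piece X' A) : Piece X (Points.map c '' A) := by
  obtain ⟨Z, π, h1, h2, h3⟩ := h
  refine ⟨Z, π ≫ c, MorphismProperty.comp_mem (RepWith @IsIntegralHom) _ _ h1 hc, ?_, fun E hE hEc => ?_⟩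
  · rintro _ ⟨x, hx, rfl⟩
    obtain ⟨z, rfl⟩ := h2 hx
    exact ⟨z, rfl⟩
  · obtain ⟨U, hU, hz⟩ := h3 (Points.map c ⁻¹' E) (hE.preimage hinj.injOn) (fun x hx => by
      have := (hEc _ hx).preimage (Points.continuous_map c)
      have e : ({x} : Set (Points X')) = Points.map c ⁻¹' {Points.map c x} := by
        ext y
        exact ⟨fun h => by rw [h]; rfl, fun h => hinj h⟩
      rwa [e])
    exact ⟨U, hU, fun z h => hz z h⟩

end K626.IntCov
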