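import Groth.Agent.AlgSp.K621.QFin
import Groth.Agent.AlgSp.K621.Generic
import Groth.Agent.AlgSp.K617.Sober
/-!
# Generic points of integral algebraic spaces and dominant morphisms
-/

set_option autoImplicit false
universe u
open CategoryTheory CategoryTheory.Limits AlgebraicGeometry Topology TopologicalSpace Opposite
open AlgSp

namespace K626.IntSp

open K621.Generic K621.Decent

variable {S : Scheme.{u}}

/-- The codimension zero points of an irreducible decent space: only the generic point. -/
theorem codimZero_iff_eq_generic {X : Sp S} (hX : IsAlgSpace X) (hd : IsDecent X) {x : Points X}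
    (hx : IsGenericPoint x (Set.univ : Set (Points X))) {x' : Points X} :
    CodimZero X x' ↔ x' = x := by
  have hf := fun x => finFibres_of_isDecent hd x
  constructor
  · intro h
    refine (h.eq_of_specializes hX (hf x) ?_).symm
    rw [specializes_iff_mem_closure, hx.def]
    trivial
  · rintro rfl
    refine codimZero_of_isGenericPoint hX hf (T := Set.univ) ⟨?_, fun _ _ _ => Set.subset_univ _⟩ hx
    rw [← hx.def]
    exact isIrreducible_singleton.closure

theorem eq_generic {X : Sp S} (hX : IsAlgSpace X) (hd : IsDecent X) {x x' : Points X}
    (hx : IsGenericPoint x (Set.univ : Set (Points X)))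
    (hx' : IsGenericPoint x' (Set.univ : Set (Points X))) : x' = x :=
  (codimZero_iff_eq_generic hX hd hx).1 ((codimZero_iff_eq_generic hX hd hx').2 rfl)

/-- Dominant morphisms map the generic point to the generic point. -/
theorem isGenericPoint_map {X Y : Sp S} {f : X ⟶ Y} (hf : IsDominantMor f) {x : Points X}
    (hx : IsGenericPoint x (Set.univ : Set (Points X))) :
    IsGenericPoint (Points.map f x) (Set.univ : Set (Points Y)) := by
  have h1 := hx.image (Points.continuous_map f)
  rw [Set.image_univ] at h1
  have h2 : closure (Set.range (Points.map f)) = Set.univ := hf.closure_range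
  rwa [h2] at h1

theorem map_generic {X Y : Sp S} (hY : IsAlgSpace Y) (hd : IsDecent Y) {f : X ⟶ Y}
    (hf : IsDominantMor f) {x : Points X} {y : Points Y}
    (hx : IsGenericPoint x (Set.univ : Set (Points X)))
    (hy : IsGenericPoint y (Set.univ : Set (Points Y))) : Points.map f x = y :=
  eq_generic hY hd hy (isGenericPoint_map hf hx)

end K626.IntSp
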