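import Groth.Agent.AlgSp.K609.Points
import Groth.Prelude.Def_AlgSpDec

set_option autoImplicit false

universe u

open CategoryTheory CategoryTheory.Limits AlgebraicGeometry Opposite AlgSp TopologicalSpace

namespace K626.LocNoeth

/-- A space covered by open Noetherian subspaces: every closed subset has a locally finite family of irreducible
components. -/
theorem locallyFinite_irreducibleComponents {Y : Type*} [TopologicalSpace Y]
    (hY : ∀ y : Y, ∃ W : Set Y, IsOpen W ∧ y ∈ W ∧ NoetherianSpace W) (T : Set Y) :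
    LocallyFinite (fun Z : ↥(irreducibleComponents ↥T) => ((↑) : ↥T → Y) '' (Z : Set ↥T)) := by
  intro y
  obtain ⟨W, hW, hy, hN⟩ := hY y
  refine ⟨W, hW.mem_nhds hy, ?_⟩
  -- the trace of `W` on `T`, a Noetherian space
  let W' : Set T := (↑) ⁻¹' W
  have hW' : IsOpen W' := hW.preimage continuous_subtype_val
  have hN' : NoetherianSpace W' := by
    have h0 : Topology.IsInducing (fun x : W' => (x.1.1 : Y)) :=
      Topology.IsInducing.subtypeVal.comp Topology.IsInducing.subtypeVal
    have hi : Topology.IsInducing (fun x : W' => (⟨x.1.1, x.2⟩ : W)) :=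
      Topology.IsInducing.of_comp (h0.continuous.subtype_mk _) continuous_subtype_val h0
    exact hi.noetherianSpace
  have hfin : (irreducibleComponents W').Finite := NoetherianSpace.finite_irreducibleComponents
  refine Set.Finite.of_injOn (f := fun Z : ↥(irreducibleComponents ↥T) => ((↑) ⁻¹' (Z : Set T) : Set W'))
    (t := irreducibleComponents W') ?_ ?_ hfin
  · rintro ⟨Z, hZ⟩ ⟨_, ⟨z, hz, rfl⟩, hzW⟩
    refine preimage_mem_irreducibleComponents hZ hW'.isOpenEmbedding_subtypeVal ⟨z, hz, ?_⟩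
    exact ⟨⟨z, hzW⟩, rfl⟩
  · have key : ∀ Z : ↥(irreducibleComponents ↥T), ((((↑) : ↥T → Y) '' (Z : Set ↥T)) ∩ W).Nonempty →
        (Z : Set T) = closure ((Z : Set T) ∩ W') := by
      rintro ⟨Z, hZ⟩ ⟨_, ⟨z, hz, rfl⟩, hzW⟩
      apply subset_antisymm
      · exact subset_closure_inter_of_isPreirreducible_of_isOpen hZ.1.2 hW' ⟨z, hz, hzW⟩
      · exact closure_minimal Set.inter_subset_left (isClosed_of_mem_irreducibleComponents _ hZ)
    intro Z hZ Z' hZ' h
    apply Subtype.ext
    rw [key Z hZ, key Z' hZ']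
    congr 1
    ext t
    constructor
    · rintro ⟨h1, h2⟩
      have : (⟨t, h2⟩ : W') ∈ ((↑) ⁻¹' (Z : Set T) : Set W') := h1
      have h' : ((↑) ⁻¹' (Z : Set T) : Set W') = ((↑) ⁻¹' (Z' : Set T) : Set W') := h
      rw [h'] at this
      exact ⟨this, h2⟩
    · rintro ⟨h1, h2⟩
      have : (⟨t, h2⟩ : W') ∈ ((↑) ⁻¹' (Z' : Set T) : Set W') := h1
      have h' : ((↑) ⁻¹' (Z : Set T) : Set W') = ((↑) ⁻¹' (Z' : Set T) : Set W') := h
      rw [← h'] at this
      exact ⟨this, h2⟩

variable {S : Scheme.{u}} {X : Sp S}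

/-- The space of points of a locally Noetherian sheaf is covered by open Noetherian subspaces. -/
theorem exists_open_noetherian (hX : IsLocNoethSp X) (x : Points X) :
    ∃ W : Set (Points X), IsOpen W ∧ x ∈ W ∧ NoetherianSpace W := by
  obtain ⟨U, p, hp, hps, hU⟩ := hX
  obtain ⟨u, rfl⟩ := K609.Points.surjective_ofPt_of_repWith_surjective hps x
  obtain ⟨V, hV, huV, -⟩ := Opens.isBasis_iff_nbhd.1 U.left.isBasis_affineOpens (Opens.mem_top u)
  have hVN : NoetherianSpace {v : U.left // v ∈ V} := by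
    have : IsLocallyNoetherian (V : Scheme.{u}) := inferInstance
    have : IsAffine (V : Scheme.{u}) := hV
    have : IsNoetherian (V : Scheme.{u}) := {}
    exact inferInstanceAs (NoetherianSpace (V : Scheme.{u}))
  refine ⟨Points.ofPt p '' V, K609.Points.isOpenMap_ofPt hp _ V.isOpen, ⟨u, huV, rfl⟩, ?_⟩
  have hf : Continuous (fun v : {v : U.left // v ∈ V} => (⟨Points.ofPt p v.1, ⟨v.1, v.2, rfl⟩⟩ : (Points.ofPt p '' (V : Set U.left)))) :=
    ((Points.continuous_ofPt p).comp continuous_subtype_val).subtype_mk _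
  refine @noetherianSpace_of_surjective _ _ _ _ hVN _ hf ?_
  rintro ⟨_, ⟨v, hv, rfl⟩⟩
  exact ⟨⟨v, hv⟩, rfl⟩

end K626.LocNoeth
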