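import Groth.Agent.AlgSp.K626.IntSp
import Groth.Agent.Props.K592.NormComp
import Groth.Agent.S2102
/-!
# Integral affine étale charts of integral algebraic spaces whose charts have domain stalks
-/

set_option autoImplicit false
universe u
open CategoryTheory CategoryTheory.Limits AlgebraicGeometry Topology TopologicalSpace Opposite
open AlgSp

namespace K626.NormChart

/-- On an affine scheme with finitely many minimal points and domain stalks every point lies in an
integral affine open. -/
theorem exists_integral_open {W : Scheme.{u}} [IsAffine W]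
    (hW : ∀ w : W, IsDomain (W.presheaf.stalk w))
    (hfin : {w : W | ∀ v : W, v ⤳ w → v = w}.Finite) (u : W) :
    ∃ O : W.Opens, u ∈ O ∧ IsAffineOpen O ∧ IsIntegral (O : Scheme.{u}) := by
  have h1 : (irreducibleComponents (W : Type u)).Finite := by
    refine Set.Finite.subset (hfin.image fun w => closure {w}) ?_
    intro Z hZ
    obtain ⟨z, hz⟩ := QuasiSober.sober hZ.1 (isClosed_of_mem_irreducibleComponents Z hZ)
    refine ⟨z, fun v hv => ?_, hz.def⟩
    exact (hv.antisymm (K621.Generic.specializes_of_isGenericPoint_component hZ hz hv)).eq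
  have hZ := irreducibleComponent_mem_irreducibleComponents u
  have hO := K592.NormComp.isOpen_of_finite h1 hW hZ
  let O : W.Opens := ⟨irreducibleComponent u, hO⟩
  have hcl : IsClosedImmersion O.ι := by
    refine IsClosedImmersion.of_isPreimmersion _ ?_
    rw [Scheme.Opens.range_ι]
    exact isClosed_of_mem_irreducibleComponents _ hZ
  have haff : IsAffine (O : Scheme.{u}) := isAffine_of_isAffineHom O.ι
  have : Nonempty (O : Scheme.{u}) := ⟨⟨u, mem_irreducibleComponent⟩⟩
  have hirr : IrreducibleSpace (O : Scheme.{u}) := by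
    have : IrreducibleSpace ↥(irreducibleComponent u) :=
      Subtype.irreducibleSpace hZ.1
    exact this
  have hred : ∀ x : (O : Scheme.{u}), IsDomain ((O : Scheme.{u}).presheaf.stalk x) := by
    intro x
    have := hW (O.ι x)
    exact MulEquiv.isDomain (W.presheaf.stalk (O.ι x))
      (asIso (O.ι.stalkMap x)).commRingCatIsoToRingEquiv.symm.toMulEquiv
  have : IsReduced (O : Scheme.{u}) :=
    @isReduced_of_isReduced_stalk _ (fun x => have := hred x; inferInstance)
  exact ⟨O, mem_irreducibleComponent, haff, isIntegral_of_irreducibleSpace_of_isReduced _⟩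

variable {S : Scheme.{u}}

/-- In an integral space whose chart has domain stalks, every point of the chart lies in an integral
affine open of the chart. -/
theorem exists_integral_chart {X : Sp S} (hX : IsAlgSpace X) (hd : IsDecent X)
    [IrreducibleSpace (Points X)] {U : Over S} (a : (yon S).obj U ⟶ X) (ha : RepWith @Etale a)
    (hU : ∀ u : ↥U.left, IsDomain ↥(U.left.presheaf.stalk u)) (u : ↥U.left) :
    ∃ O : U.left.Opens, u ∈ O ∧ IsAffineOpen O ∧ IsIntegral (O : Scheme.{u}) := by
  have hqs := K617.Sober.quasiSober hX hd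
  obtain ⟨η, hη⟩ := QuasiSober.sober (IrreducibleSpace.isIrreducible_univ (Points X)) isClosed_univ
  obtain ⟨W, huW, -, hW⟩ := K621.Base.exists_affine_openChart u ⊤ trivial
  have hWe := K621.Base.repWith_openChart ha W
  have hWa : IsAffine (W : Scheme.{u}) := hW
  obtain ⟨O, huO, hOa, hOi⟩ := exists_integral_open (W := (W : Scheme.{u})) (fun w => by
      have := hU (W.ι w)
      exact MulEquiv.isDomain (U.left.presheaf.stalk (W.ι w))
        (asIso (W.ι.stalkMap w)).commRingCatIsoToRingEquiv.symm.toMulEquiv) (by
    have hf := K621.Decent.finFibres_of_isDecent hd η (K621.Base.openChart U W) _ hW hWe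
    refine hf.subset fun w hw => ?_
    exact (K626.IntSp.codimZero_iff_eq_generic hX hd hη).1 ((K621.Generic.codimZero_iff hX hWe).2 hw))
    ⟨u, huW⟩
  refine ⟨W.ι ''ᵁ O, ⟨⟨u, huW⟩, huO, rfl⟩, hOa.image_of_isOpenImmersion W.ι, ?_⟩
  have e : (O : Scheme.{u}) ≅ ((W.ι ''ᵁ O : U.left.Opens) : Scheme.{u}) := (W.ι.isoImage O)
  have : Nonempty ((W.ι ''ᵁ O : U.left.Opens) : Scheme.{u}) := ⟨⟨u, ⟨u, huW⟩, huO, rfl⟩⟩
  exact isIntegral_of_isOpenImmersion e.inv

end K626.NormChart
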