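import Groth.Agent.AlgSp.K626.PinchSch
import Groth.Agent.AlgSp.K651.Pinch
import Groth.Agent.AlgSp.K651.AffDesc
import Groth.Agent.AlgSp.K650.Sat
import Groth.Agent.AlgSp.K620.Dec
import Groth.Agent.AlgSp.K647.Pts

/-!
# Pinching for fpqc sheaves

`main`: `G ⟶ h_Z` an fpqc sheaf over an affine scheme `Z` which becomes a scheme after an affine fpqc base change;
`D ⟶ Z` integral surjective with finite fibres and `C ⊆ Z` closed such that `D ⟶ Z` is universally injective outside
`C`; if `G ×_Z D` and `G ×_Z C` are schemes in which finite sets of points lie in affine opens, then finite sets of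
points of `G` lie in affine open subsheaves.
-/

set_option autoImplicit false
set_option backward.isDefEq.respectTransparency false
universe u

open CategoryTheory CategoryTheory.Limits AlgebraicGeometry Opposite TopologicalSpace

namespace K626.Pinch

open AlgSp K613.Basic K628.Fqc K651.FpqcSh K651.Pinch K610.Base

variable {S : Scheme.{u}} {G : Sp S} {Z Z' X' : Over S} {f : G ⟶ (yon S).obj Z} {c : Z' ⟶ Z}
  {p : (yon S).obj X' ⟶ G} {q : X' ⟶ Z'} {D GD : Over S} {d : D ⟶ Z} {j : (yon S).obj GD ⟶ G} {δ : GD ⟶ D}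

/-- the common refinement of two base changes -/
theorem exists_refine (sq : IsPullback p ((yon S).map q) f ((yon S).map c))
    (sqD : IsPullback j ((yon S).map δ) f ((yon S).map d)) :
    ∃ (W : Over S) (ρ : W ⟶ GD) (ι : W ⟶ X') (z : W ⟶ Z'), IsPullback ((yon S).map ρ) ((yon S).map ι) j p ∧
      IsPullback ρ.left z.left (δ ≫ d).left c.left ∧ IsPullback ι.left (ρ ≫ δ).left (q ≫ c).left d.left := by
  have hj : j ≫ f = (yon S).map (δ ≫ d) := by rw [sqD.w, Functor.map_comp]
  have hp : p ≫ f = (yon S).map (q ≫ c) := by rw [sq.w, Functor.map_comp]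
  let ρ := pullback.fst (δ ≫ d) c
  let z := pullback.snd (δ ≫ d) c
  have sq0 : IsPullback ρ z (δ ≫ d) c := IsPullback.of_hasPullback _ _
  have hw : ((yon S).map ρ ≫ j) ≫ f = (yon S).map z ≫ (yon S).map c := by
    rw [Category.assoc, hj, ← Functor.map_comp, ← Functor.map_comp, sq0.w]
  obtain ⟨ι, hι⟩ := (yon S).map_surjective (sq.lift _ _ hw)
  have hι1 : (yon S).map ι ≫ p = (yon S).map ρ ≫ j := by rw [hι, sq.lift_fst]
  have hι2 : (yon S).map ι ≫ (yon S).map q = (yon S).map z := by rw [hι, sq.lift_snd]
  have sq1 : IsPullback ((yon S).map ι) ((yon S).map ρ) p j := by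
    refine IsPullback.of_right (h₁₂ := (yon S).map q) (v₁₃ := (yon S).map c) (h₂₂ := f) ?_ hι1 sq.flip
    rw [hι2, hj]
    exact (sq0.map (yon S)).flip
  have sq2 : IsPullback ((yon S).map ι) ((yon S).map (ρ ≫ δ)) ((yon S).map (q ≫ c)) ((yon S).map d) := by
    rw [← hp, Functor.map_comp]
    exact sq1.paste_vert sqD
  refine ⟨_, ρ, ι, z, sq1.flip, sq0.map (Over.forget S), ?_⟩
  exact (IsPullback.of_map (yon S) (by
    apply (yon S).map_injective
    rw [Functor.map_comp, Functor.map_comp]; exact sq2.w) sq2).map (Over.forget S)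

/-- The image of a stable affine open. -/
theorem inAffine_of_stable (hG : IsFpqcSh G) (hc : FqC c) (hZ : IsAffine Z.left) (hZ' : IsAffine Z'.left)
    (sq : IsPullback p ((yon S).map q) f ((yon S).map c))
    (sqD : IsPullback j ((yon S).map δ) f ((yon S).map d)) [IsIntegralHom d.left] [Surjective d.left]
    (V : GD.left.Opens) (hV : IsAffineOpen V) (hst : Stable j (V : Set GD.left)) :
    K650.Sat.InAffine G (Points.ofPt j '' V) := by
  obtain ⟨W, ρ, ι, z, sqW, sqρ, sqι⟩ := exists_refine sq sqD
  have hιi : IsIntegralHom ι.left := MorphismProperty.of_isPullback sqι.flip ‹_›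
  have hιs : Surjective ι.left := MorphismProperty.of_isPullback sqι.flip ‹_›
  have hca : IsAffineHom c.left := isAffineHom_of_isAffine c.left
  have hρa : IsAffineHom ρ.left := MorphismProperty.of_isPullback sqρ.flip hca
  have hρs : Surjective ρ.left := MorphismProperty.of_isPullback sqρ.flip hc.surj
  let F : Set X'.left := ι.left '' (ρ.left ⁻¹' (V : Set GD.left)ᶜ)
  have hF : IsClosed F := ι.left.isClosedMap _ ((V.2.preimage ρ.left.continuous).isClosed_compl)
  have hFst : Stable p F := stable_image sqW _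
  let O : X'.left.Opens := ⟨Fᶜ, hF.isOpen_compl⟩
  have hO : Stable p (O : Set X'.left) := hFst.compl
  have hpre : ι.left ⁻¹ᵁ O = ρ.left ⁻¹ᵁ V := by
    apply le_antisymm
    · intro w hw
      by_contra hwV
      exact hw ⟨w, hwV, rfl⟩
    · rintro w hw ⟨w', hw', hww'⟩
      obtain ⟨r, hr1, hr2⟩ := Scheme.exists_preimage_of_isPullback
        ((IsPullback.of_hasPullback ι ι).map (Over.forget S)) w w' hww'.symm
      have hr1 : (pullback.fst ι ι).left r = w := hr1
      have hr2 : (pullback.snd ι ι).left r = w' := hr2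
      have h1 := hst _ (pullback.fst ι ι ≫ ρ) (pullback.snd ι ι ≫ ρ) (by
        rw [Functor.map_comp, Functor.map_comp, Category.assoc, Category.assoc, sqW.w, ← Category.assoc,
          ← Category.assoc, ← Functor.map_comp, ← Functor.map_comp, pullback.condition]) r (by
        change ρ.left ((pullback.fst ι ι).left r) ∈ (V : Set GD.left)
        rw [hr1]
        exact hw)
      change ρ.left ((pullback.snd ι ι).left r) ∈ (V : Set GD.left) at h1
      rw [hr2] at h1
      exact hw' h1
  have hOa : IsAffineOpen O := by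
    have h1 : IsAffineOpen (ι.left ⁻¹ᵁ O) := by
      rw [hpre]
      exact hV.preimage ρ.left
    have h2 : IsAffine (ι.left ⁻¹ᵁ O : Scheme.{u}) := h1
    have h3 : Surjective (ι.left ∣_ O) := IsZariskiLocalAtTarget.restrict hιs O
    have h4 : IsIntegralHom (ι.left ∣_ O) := inferInstance
    exact Groth.Agent.S0593.result _ _ (ι.left ∣_ O)
  have hOa' : IsAffine (O : Scheme.{u}) := hOa
  have hOh : IsAffineHom (O.ι ≫ q.left) := isAffineHom_of_isAffine _
  obtain ⟨U, ⟨e⟩⟩ := exists_rep_opn hG hc sq O hO
    ⟨inferInstance, fun V hV => by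
      have : IsAffine ((O.ι ≫ q.left) ⁻¹ᵁ V : Scheme.{u}) := hV.preimage (O.ι ≫ q.left)
      infer_instance⟩
  let Q := opn p (O : Set X'.left)
  let i : opnObj O ⟶ X' := opnInc O
  obtain ⟨fst, hfst⟩ := Q.isPullback p i (fun R r => by rw [opnInc_iff, opn_pr_iff _ hO])
  have hu : RepWith @IsOpenImmersion (e.hom ≫ Q.ι) :=
    (MorphismProperty.cancel_left_of_respectsIso (RepWith @IsOpenImmersion) _ _).2 (repWith_opn hc sq O hO)
  obtain ⟨g, hg⟩ := (yon S).map_surjective (fst ≫ e.inv)
  obtain ⟨m, hm⟩ := (yon S).map_surjective ((e.hom ≫ Q.ι) ≫ f)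
  have sqU : IsPullback ((yon S).map g) ((yon S).map (i ≫ q)) ((yon S).map m) ((yon S).map c) := by
    have sq1 : IsPullback fst ((yon S).map (i ≫ q)) (Q.ι ≫ f) ((yon S).map c) := by
      rw [Functor.map_comp]
      exact hfst.paste_vert sq
    rw [hg, hm]
    exact IsPullback.of_iso sq1 (Iso.refl _) e.symm (Iso.refl _) (Iso.refl _) (by simp) (by simp) (by simp) (by simp)
  refine ⟨U, e.hom ≫ Q.ι, ?_, hu, ?_⟩
  · have h2 : IsPullback g.left (i ≫ q).left m.left c.left :=
      (IsPullback.of_map (yon S) (by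
        apply (yon S).map_injective
        rw [Functor.map_comp, Functor.map_comp]; exact sqU.w) sqU).map (Over.forget S)
    have := Groth.Agent.Desc.MorDescent.descendsAlong_isAffineHom.{u}
    have hma : IsAffineHom m.left := MorphismProperty.of_isPullback_of_descendsAlong (P := @IsAffineHom)
      (Q := @Surjective ⊓ @Flat ⊓ @QuasiCompact) h2.flip hc.mem hOh
    exact isAffine_of_isAffineHom m.left
  · rintro _ ⟨v, hv, rfl⟩
    obtain ⟨w, rfl⟩ := hρs.surj v
    have hwO : ι.left w ∈ O := by
      have : w ∈ ι.left ⁻¹ᵁ O := by rw [hpre]; exact hv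
      exact this
    obtain ⟨o, ho⟩ : ι.left w ∈ Set.range i.left := by
      rw [range_opnInc]
      exact hwO
    refine ⟨g.left o, ?_⟩
    rw [← K647.Pts.ofPt_map, hg, Category.assoc, e.inv_hom_id_assoc, hfst.w, K647.Pts.ofPt_map, ho,
      ← K647.Pts.ofPt_map, ← sqW.w, K647.Pts.ofPt_map]

theorem ofPt_injective_of_mono {Y : Over S} {j : (yon S).obj Y ⟶ G} (h : Mono j) :
    Function.Injective (Points.ofPt j) := by
  intro a b hab
  rw [Points.ofPt_eq_map_ofScheme, Points.ofPt_eq_map_ofScheme] at hab
  exact (Points.schemeEquiv Y).injective (K620.Dec.injective_map_of_mono _ h hab)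

/-- **Pinching for fpqc sheaves.** -/
theorem main (hG : IsFpqcSh G) (hc : FqC c) (hZ : IsAffine Z.left) (hZ' : IsAffine Z'.left)
    (sq : IsPullback p ((yon S).map q) f ((yon S).map c))
    (sqD : IsPullback j ((yon S).map δ) f ((yon S).map d)) [IsIntegralHom d.left] [Surjective d.left]
    (hD : K622.AnDefs.FinAff GD.left)
    {C GC : Over S} {i : C ⟶ Z} {jC : (yon S).obj GC ⟶ G} {γ : GC ⟶ C}
    (sqC : IsPullback jC ((yon S).map γ) f ((yon S).map i)) [IsClosedImmersion i.left]
    (hC : K622.AnDefs.FinAff GC.left)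
    (hfin : ∀ x : Points G, {y : GD.left | Points.ofPt j y = x}.Finite)
    (hinj : ∀ (K : Type u) [Field K] (a b : Spec (CommRingCat.of K) ⟶ D.left), a ≫ d.left = b ≫ d.left →
      (∀ t, (a ≫ d.left) t ∉ Set.range i.left) → a = b)
    (E : Set (Points G)) (hE : E.Finite) : K650.Sat.InAffine G E := by
  have hi : Mono i := by
    have : Mono ((Over.forget S).map i) := inferInstanceAs (Mono i.left)
    exact (Over.forget S).mono_of_mono_map this
  have hjC : Mono jC := by
    have : Mono ((yon S).map i) := inferInstance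
    exact MorphismProperty.of_isPullback (P := MorphismProperty.monomorphisms (Sp S)) sqC.flip
      (MorphismProperty.monomorphisms.infer_property _)
  have hinjC := ofPt_injective_of_mono hjC
  -- `Y = GD ×_G GC`
  obtain ⟨Y, k, π, z, sqY, sqk, sqπ⟩ := exists_refine sqC sqD
  have hk : IsClosedImmersion k.left := MorphismProperty.of_isPullback sqk.flip ‹_›
  have hπ : IsIntegralHom π.left := MorphismProperty.of_isPullback sqπ.flip ‹_›
  have hkπ : ∀ y : Y.left, Points.ofPt j (k.left y) = Points.ofPt jC (π.left y) := fun y => by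
    rw [← K647.Pts.ofPt_map, sqY.w, K647.Pts.ofPt_map]
  have hj : j ≫ f = (yon S).map (δ ≫ d) := by rw [sqD.w, Functor.map_comp]
  -- the finite sets
  let EG : Set GD.left := {y | Points.ofPt j y ∈ E}
  have hEG : EG.Finite := by
    have h1 : EG = ⋃ x ∈ E, {y : GD.left | Points.ofPt j y = x} := by
      ext y
      simp [EG]
    rw [h1]
    exact hE.biUnion fun x _ => hfin x
  let T : Set GC.left := {t | Points.ofPt jC t ∈ E}
  have hT : T.Finite := hE.preimage hinjC.injOn
  obtain ⟨U, hU, hEU⟩ := hD EG hEG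
  have hTk : ∀ y : Y.left, π.left y ∈ T ↔ k.left y ∈ EG := fun y => by
    change Points.ofPt jC (π.left y) ∈ E ↔ Points.ofPt j (k.left y) ∈ E
    rw [hkπ]
  have hπT : (π.left ⁻¹' T).Finite := by
    refine (hEG.preimage (f := k.left) k.left.isClosedEmbedding.injective.injOn).subset fun y hy => ?_
    exact (hTk y).1 hy
  obtain ⟨V, W, hV, hVU, hTW, hVW, hPV⟩ := K626.PinchSch.pinch k.left π.left hU hC T hT hπT
    (fun y hy => hEU ((hTk y).1 hy)) (EG \ Set.range k.left) (hEG.subset Set.sdiff_subset)
    (fun y hy => hEU hy.1) (fun y hy => hy.2)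
  have hEV : EG ⊆ V := by
    intro y hy
    by_cases h : y ∈ Set.range k.left
    · obtain ⟨w, rfl⟩ := h
      have h1 : w ∈ π.left ⁻¹ᵁ W := hTW ((hTk w).2 hy)
      rw [← hVW] at h1
      exact h1
    · exact hPV ⟨hy, h⟩
  have hst : Stable j (V : Set GD.left) := by
    intro R a b hab r har
    have hZab : (a.left ≫ (δ ≫ d).left) = (b.left ≫ (δ ≫ d).left) := by
      have e : ∀ x : R ⟶ GD, (yon S).map (x ≫ δ ≫ d) = ((yon S).map x ≫ j) ≫ f := fun x => by
        rw [Category.assoc, hj, ← Functor.map_comp]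
      have : a ≫ δ ≫ d = b ≫ δ ≫ d := by
        apply (yon S).map_injective
        rw [e, e, hab]
      exact congrArg (fun f => f.left) this
    have hpt : Points.ofPt j (a.left r) = Points.ofPt j (b.left r) := by
      rw [← K647.Pts.ofPt_map, hab, K647.Pts.ofPt_map]
    by_cases h : (δ ≫ d).left (a.left r) ∈ Set.range i.left
    · -- both points lie over `C`
      have hlift : ∀ x : GD.left, (δ ≫ d).left x ∈ Set.range i.left → ∃ y : Y.left, k.left y = x := by
        rintro x ⟨t, ht⟩
        obtain ⟨y, hy, -⟩ := Scheme.exists_preimage_of_isPullback sqk x t ht.symm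
        exact ⟨y, hy⟩
      obtain ⟨y₁, hy₁⟩ := hlift _ h
      have h' : (δ ≫ d).left (b.left r) ∈ Set.range i.left := by
        have := congrArg (fun f : R.left ⟶ Z.left => f r) hZab
        rw [Scheme.Hom.comp_apply, Scheme.Hom.comp_apply] at this
        rwa [← this]
      obtain ⟨y₂, hy₂⟩ := hlift _ h'
      have h3 : π.left y₁ = π.left y₂ := hinjC (by rw [← hkπ, ← hkπ, hy₁, hy₂, hpt])
      have h4 : y₁ ∈ k.left ⁻¹ᵁ V := by
        change k.left y₁ ∈ V
        rw [hy₁]
        exact har
      rw [hVW] at h4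
      have h5 : y₂ ∈ π.left ⁻¹ᵁ W := by
        change π.left y₂ ∈ W
        rw [← h3]
        exact h4
      rw [← hVW] at h5
      have h6 : k.left y₂ ∈ V := h5
      rwa [hy₂] at h6
    · let K := R.left.residueField r
      let R' : Over S := Over.mk (R.left.fromSpecResidueField r ≫ R.hom)
      let ρ : R' ⟶ R := Over.homMk (R.left.fromSpecResidueField r) rfl
      have hd : (ρ ≫ a ≫ δ).left = (ρ ≫ b ≫ δ).left := by
        refine hinj K _ _ ?_ fun t => ?_
        · have h7 : R.left.fromSpecResidueField r ≫ a.left ≫ (δ ≫ d).left =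
            R.left.fromSpecResidueField r ≫ b.left ≫ (δ ≫ d).left := by rw [hZab]
          exact h7
        · have h8 : (R.left.fromSpecResidueField r) t = r := by
            have : (R.left.fromSpecResidueField r) t ∈ Set.range (R.left.fromSpecResidueField r) := ⟨t, rfl⟩
            rw [Scheme.range_fromSpecResidueField] at this
            exact this
          have h9 : ((ρ ≫ a ≫ δ).left ≫ d.left) t = (δ ≫ d).left (a.left r) := by
            rw [← h8]
            rfl
          exact fun hm => h ((congrArg (· ∈ Set.range i.left) h9).mp hm)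
      have hρ : ρ ≫ a = ρ ≫ b := by
        apply (yon S).map_injective
        apply sqD.hom_ext
        · rw [Functor.map_comp, Functor.map_comp, Category.assoc, Category.assoc, hab]
        · rw [← Functor.map_comp, ← Functor.map_comp]
          congr 1
          ext1
          rw [Category.assoc, Category.assoc]
          exact hd
      obtain ⟨t⟩ : Nonempty (Spec (CommRingCat.of K)) := inferInstance
      have h8 : (R.left.fromSpecResidueField r) t = r := by
        have : (R.left.fromSpecResidueField r) t ∈ Set.range (R.left.fromSpecResidueField r) := ⟨t, rfl⟩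
        rw [Scheme.range_fromSpecResidueField] at this
        exact this
      have h10 := congrArg (fun f : R' ⟶ GD => f.left t) hρ
      have h11 : a.left ((R.left.fromSpecResidueField r) t) = b.left ((R.left.fromSpecResidueField r) t) := h10
      rw [h8] at h11
      rw [← h11]
      exact har
  refine (inAffine_of_stable hG hc hZ hZ' sq sqD V hV hst).mono fun x hx => ?_
  -- every point of `G` comes from `GD`
  obtain ⟨y, hy⟩ : ∃ y : GD.left, Points.ofPt j y = x := by
    obtain ⟨R, g, t, rfl⟩ := exists_ofPt_eq x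
    obtain ⟨τ, hτ⟩ := (yon S).map_surjective (g ≫ f)
    obtain ⟨t', ht'⟩ := d.left.surjective (τ.left t)
    obtain ⟨w, hw1, hw2⟩ := Scheme.exists_preimage_of_isPullback
      ((IsPullback.of_hasPullback τ d).map (Over.forget S)) t t' ht'.symm
    have hw1 : (pullback.fst τ d).left w = t := hw1
    have hl : ((yon S).map (pullback.fst τ d) ≫ g) ≫ f = (yon S).map (pullback.snd τ d) ≫ (yon S).map d := by
      rw [Category.assoc, ← hτ, ← Functor.map_comp, ← Functor.map_comp, pullback.condition]
    obtain ⟨l, hl'⟩ := (yon S).map_surjective (sqD.lift _ _ hl)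
    refine ⟨l.left w, ?_⟩
    rw [← K647.Pts.ofPt_map, hl', sqD.lift_fst, K647.Pts.ofPt_map, hw1]
  exact ⟨y, hEV (by change Points.ofPt j y ∈ E; rwa [hy]), hy⟩

end K626.Pinch
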