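import Groth.Agent.S1442
import Groth.Agent.S16030
import Groth.Agent.AlgSp.K622.AnDefs

/-!
# Pinching: affine neighbourhoods of finite sets with prescribed traces
-/

set_option autoImplicit false
universe u

open CategoryTheory CategoryTheory.Limits AlgebraicGeometry Opposite TopologicalSpace

namespace K626.PinchSch

/-- **Prime avoidance for cosets.** -/
theorem exists_add_notMem {A : Type*} [CommRing A] (I : Ideal A) (a : A) (s : Finset (PrimeSpectrum A))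
    (hs : ∀ p ∈ s, ¬ I ≤ p.asIdeal) : ∃ x ∈ I, ∀ p ∈ s, a + x ∉ p.asIdeal := by
  classical
  induction s using Finset.strongInduction with
  | H s ih =>
    -- remove non maximal elements
    by_cases hmax : ∃ p ∈ s, ∃ q ∈ s, p ≠ q ∧ p.asIdeal ≤ q.asIdeal
    · obtain ⟨p, hp, q, hq, hpq, hle⟩ := hmax
      obtain ⟨x, hx, hx'⟩ := ih (s.erase p) (Finset.erase_ssubset hp) (fun r hr => hs r (Finset.mem_of_mem_erase hr))
      refine ⟨x, hx, fun r hr => ?_⟩
      by_cases hrp : r = p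
      · subst hrp
        exact fun h => hx' q (Finset.mem_erase.2 ⟨hpq.symm, hq⟩) (hle h)
      · exact hx' r (Finset.mem_erase.2 ⟨hrp, hr⟩)
    · push Not at hmax
      let s1 := s.filter fun p => a ∈ p.asIdeal
      let s2 := s.filter fun p => a ∉ p.asIdeal
      let J : Ideal A := I ⊓ s2.inf (fun p => p.asIdeal)
      have hJ : ∀ p ∈ s1, ¬ J ≤ p.asIdeal := by
        intro p hp hle
        have hps := (Finset.mem_filter.1 hp)
        rcases (p.isPrime.inf_le).1 hle with h | h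
        · exact hs p hps.1 h
        · obtain ⟨q, hq, hq'⟩ := (Ideal.IsPrime.inf_le' p.isPrime).1 h
          have hqs := Finset.mem_filter.1 hq
          refine hmax q hqs.1 p hps.1 ?_ hq'
          rintro rfl
          exact hqs.2 hps.2
      obtain ⟨x, hxJ, hx⟩ : ∃ x ∈ J, ∀ p ∈ s1, x ∉ p.asIdeal := by
        by_contra hcon
        push Not at hcon
        by_cases hne : s1.Nonempty
        · obtain ⟨m0, hm0⟩ := hne
          have hsub : (J : Set A) ⊆ ⋃ m ∈ (s1 : Set (PrimeSpectrum A)), (m.asIdeal : Set A) := by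
            intro g hg
            obtain ⟨m, hm, hgm⟩ := hcon g hg
            simp only [Set.mem_iUnion]
            exact ⟨m, hm, hgm⟩
          rw [Ideal.subset_union_prime m0 m0 (fun m _ _ _ => m.isPrime)] at hsub
          obtain ⟨m, hm, hm'⟩ := hsub
          exact hJ m hm hm'
        · obtain ⟨m, hm, -⟩ := hcon 0 J.zero_mem
          exact hne ⟨m, hm⟩
      refine ⟨x, hxJ.1, fun p hp h => ?_⟩
      by_cases hap : a ∈ p.asIdeal
      · exact hx p (Finset.mem_filter.2 ⟨hp, hap⟩) ((Submodule.add_mem_iff_right _ hap).1 h)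
      · have hxp : x ∈ p.asIdeal := (Finset.inf_le (f := fun p : PrimeSpectrum A => p.asIdeal)
          (Finset.mem_filter.2 ⟨hp, hap⟩ : p ∈ s2)) hxJ.2
        exact hap ((Submodule.add_mem_iff_left _ hxp).1 h)

/-- A finite subset of an open subset of an affine open is contained in a basic open subset. -/
theorem exists_basicOpen_of_finite {X : Scheme.{u}} {U : X.Opens} (hU : IsAffineOpen U) (W : X.Opens) (F : Set X)
    (hF : F.Finite) (hFU : F ⊆ U) (hFW : F ⊆ W) : ∃ f : Γ(X, U), F ⊆ (X.basicOpen f : Set X) ∧ X.basicOpen f ≤ W := by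
  obtain ⟨b, hb1, hb2⟩ := Groth.Agent.S16030.result Γ(X, U) (hU.fromSpec ⁻¹' F)
    (hF.preimage hU.fromSpec.isOpenEmbedding.injective.injOn) (hU.fromSpec ⁻¹ᵁ W) (fun q hq => hFW hq)
  have hbo := hU.fromSpec_preimage_basicOpen b
  refine ⟨b, fun x hx => ?_, fun x hx => ?_⟩
  · obtain ⟨q, rfl⟩ : x ∈ Set.range hU.fromSpec := by
      rw [hU.range_fromSpec]
      exact hFU hx
    have h1 : q ∈ hU.fromSpec ⁻¹ᵁ X.basicOpen b := by
      rw [hbo]
      exact hb1 hx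
    exact h1
  · obtain ⟨q, rfl⟩ : x ∈ Set.range hU.fromSpec := by
      rw [hU.range_fromSpec]
      exact X.basicOpen_le b hx
    have h1 : q ∈ hU.fromSpec ⁻¹ᵁ X.basicOpen b := hx
    rw [hbo] at h1
    exact hb2 h1

/-- Lifting functions from a closed subscheme without zeros at given points outside. -/
theorem exists_lift_avoid {X Z : Scheme.{u}} (i : Z ⟶ X) [IsClosedImmersion i] {U : X.Opens} (hU : IsAffineOpen U)
    (a : Γ(Z, i ⁻¹ᵁ U)) (P : Set X) (hP : P.Finite) (hPU : P ⊆ U) (hPi : ∀ x ∈ P, x ∉ Set.range i) :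
    ∃ f : Γ(X, U), i.app U f = a ∧ P ⊆ (X.basicOpen f : Set X) := by
  classical
  obtain ⟨f₀, hf₀⟩ := i.app_surjective U hU a
  let I : Ideal Γ(X, U) := RingHom.ker (i.app U).hom
  let P' : Set (PrimeSpectrum Γ(X, U)) := hU.fromSpec ⁻¹' P
  have hP' : P'.Finite := hP.preimage hU.fromSpec.isOpenEmbedding.injective.injOn
  have hI : ∀ p ∈ hP'.toFinset, ¬ I ≤ p.asIdeal := by
    intro p hp hle
    have hpP : hU.fromSpec p ∈ P := hP'.mem_toFinset.1 hp
    apply hPi _ hpP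
    -- the points of `U` containing `I` are in the range of `i`
    obtain ⟨q, hq⟩ : p ∈ Set.range (PrimeSpectrum.comap (i.app U).hom) := by
      rw [range_comap_of_surjective _ _ (i.app_surjective U hU)]
      exact hle
    have h1 := IsAffineOpen.SpecMap_appLE_fromSpec i hU (hU.preimage i) le_rfl
    rw [Scheme.Hom.appLE_eq_app] at h1
    refine ⟨(hU.preimage i).fromSpec q, ?_⟩
    have h2 := congrArg (fun f : _ ⟶ X => f q) h1
    refine h2.symm.trans ?_
    rw [Scheme.Hom.comp_apply]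
    exact congrArg hU.fromSpec hq
  obtain ⟨x, hx, hx'⟩ := exists_add_notMem I f₀ hP'.toFinset hI
  refine ⟨f₀ + x, ?_, fun y hy => ?_⟩
  · have h1 : i.app U x = 0 := hx
    rw [map_add, hf₀, h1, add_zero]
  · obtain ⟨q, rfl⟩ : y ∈ Set.range hU.fromSpec := by
      rw [hU.range_fromSpec]
      exact hPU hy
    have h1 : q ∈ hU.fromSpec ⁻¹ᵁ X.basicOpen (f₀ + x) := by
      rw [hU.fromSpec_preimage_basicOpen]
      exact hx' q (hP'.mem_toFinset.2 hy)
    exact h1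

open K622.AnDefs in
/-- **Pinching.** -/
theorem pinch {X Y Z : Scheme.{u}} (i : Z ⟶ X) [IsClosedImmersion i] (j : Z ⟶ Y) [IsIntegralHom j] {U : X.Opens}
    (hU : IsAffineOpen U) (hY : FinAff Y) (T : Set Y) (hT : T.Finite) (hfin : (j ⁻¹' T).Finite)
    (hTU : j ⁻¹' T ⊆ (i ⁻¹ᵁ U : Set Z)) (P : Set X) (hP : P.Finite) (hPU : P ⊆ U) (hPi : ∀ x ∈ P, x ∉ Set.range i) :
    ∃ (V : X.Opens) (W : Y.Opens), IsAffineOpen V ∧ V ≤ U ∧ T ⊆ W ∧ i ⁻¹ᵁ V = j ⁻¹ᵁ W ∧ P ⊆ V := by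
  have hop : ∀ W : Z.Opens, j ⁻¹' T ⊆ (W : Set Z) → ∃ V : Y.Opens, T ⊆ V ∧ j ⁻¹ᵁ V ≤ W := by
    intro W h
    refine ⟨⟨(j '' (W : Set Z)ᶜ)ᶜ, (j.isClosedMap _ W.isOpen.isClosed_compl).isOpen_compl⟩, ?_, ?_⟩
    · rintro y hy ⟨z, hz, hzy⟩
      exact hz (h (by change j z ∈ T; rwa [hzy]))
    · intro z hz
      by_contra hzW
      exact hz ⟨z, hzW, rfl⟩
  obtain ⟨V₀, hTV₀, hV₀⟩ := hop (i ⁻¹ᵁ U) hTU
  obtain ⟨A, hA, hTA⟩ := hY T hT
  obtain ⟨r, hTr, hr⟩ := exists_basicOpen_of_finite hA V₀ T hT hTA hTV₀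
  let W₁ := Y.basicOpen r
  have hW₁ : IsAffineOpen W₁ := hA.basicOpen r
  obtain ⟨a, hTa, ha⟩ := exists_basicOpen_of_finite (hU.preimage i) (j ⁻¹ᵁ W₁) (j ⁻¹' T) hfin hTU
    (fun z hz => hTr hz)
  obtain ⟨f, hf, hPf⟩ := exists_lift_avoid i hU a P hP hPU hPi
  have hU₁ : IsAffineOpen (X.basicOpen f) := hU.basicOpen f
  have hU₁eq : i ⁻¹ᵁ (X.basicOpen f) = Z.basicOpen a := by
    rw [Scheme.preimage_basicOpen, hf]
  obtain ⟨V₁, hTV₁, hV₁⟩ := hop (i ⁻¹ᵁ (X.basicOpen f)) (by rw [hU₁eq]; exact hTa)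
  obtain ⟨g, hTg, hgV₁⟩ := exists_basicOpen_of_finite hW₁ V₁ T hT hTr hTV₁
  have hle : i ⁻¹ᵁ (X.basicOpen f) ≤ j ⁻¹ᵁ W₁ := by rw [hU₁eq]; exact ha
  obtain ⟨f', hf', hPf'⟩ := exists_lift_avoid i hU₁ (j.appLE W₁ _ hle g) P hP hPf hPi
  refine ⟨X.basicOpen f', Y.basicOpen g, hU₁.basicOpen f', (X.basicOpen_le f').trans (X.basicOpen_le f), hTg, ?_, hPf'⟩
  rw [Scheme.preimage_basicOpen, hf', Scheme.basicOpen_appLE]
  apply inf_eq_right.mpr
  exact le_trans ((TopologicalSpace.Opens.map j.base).monotone hgV₁) hV₁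

end K626.PinchSch
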