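import Groth.Agent.AlgSp.K609.Points
import Groth.Prelude.Def_AlgSp3
import Groth.Agent.S1535
import Groth.Agent.S1550

/-!
# Charts of algebraic spaces smooth over a field
-/

set_option autoImplicit false

universe u

open CategoryTheory CategoryTheory.Limits AlgebraicGeometry Opposite AlgSp TopologicalSpace

namespace K626.SmoothField

variable (k : Type u) [Field k] {X : Sp (Spec (CommRingCat.of k))}

/-- The structure morphism of an etale chart of a space smooth over a field is smooth. -/
theorem smooth_hom (p : X ⟶ (yon (Spec (CommRingCat.of k))).obj (Over.mk (𝟙 _))) (hp : LocP @Smooth p)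
    {U : Over (Spec (CommRingCat.of k))} (a : (yon _).obj U ⟶ X) (ha : RepWith @Etale a) : Smooth U.hom := by
  obtain ⟨h, hh⟩ := (yon _).map_surjective (a ≫ p)
  have hsm : Smooth h.left := hp a (𝟙 _) h ha (repWith_id _ _) (by rw [Category.comp_id, hh])
  have e : h.left = U.hom := by
    have := Over.w h
    simpa using this
  rwa [e] at hsm

/-- Changing the structure morphism in a field-valued point. -/
theorem exists_mk_eq {F : Sp (Spec (CommRingCat.of k))} (K : Type u) [Field K]
    (str str' : Spec (CommRingCat.of K) ⟶ Spec (CommRingCat.of k)) (h : str' = str)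
    (v : F.obj.obj (op (Over.mk str))) :
    ∃ v' : F.obj.obj (op (Over.mk str')), Points.mk ⟨K, str', v'⟩ = Points.mk ⟨K, str, v⟩ := by
  subst h
  exact ⟨v, rfl⟩

end K626.SmoothField
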