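import Groth.Agent.AlgSp.K616.NearDim
import Groth.Agent.AlgSp.K616.DimInv
import Groth.Agent.AlgSp.K626.IntSp
/-!
# Quasi-finiteness and transcendence degree at points of codimension zero
-/

set_option autoImplicit false
universe u
open CategoryTheory CategoryTheory.Limits AlgebraicGeometry Topology TopologicalSpace Opposite
open AlgSp

namespace K626.TrdegQF

open K621.QFin

/-- At a point without proper generizations the local ring of the fibre has dimension zero. -/
theorem fibreStalkDim_eq_zero {U V : Scheme.{u}} (h : U ⟶ V) {u : U} (hu : Min u) :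
    ringKrullDim ↥((h.fiber (h u)).presheaf.stalk (h.asFiber u)) = 0 := by
  rw [K621.Generic.ringKrullDim_stalk_eq_zero_iff]
  intro y hy
  apply (h.fiberι (h u)).isEmbedding.injective
  rw [h.fiberι_asFiber u]
  refine hu _ ?_
  have := hy.map (h.fiberι (h u)).continuous
  rwa [h.fiberι_asFiber u] at this

theorem fibreDimAt_eq_zero_iff_resTrdeg {U V : Scheme.{u}} (h : U ⟶ V) [LocallyOfFiniteType h] {u : U}
    (hu : Min u) : FlatMor.fibreDimAt h u = 0 ↔ Dual3.resTrdeg h u = 0 := by
  rw [K616.DimInv.fibreDimAt_eq_add, fibreStalkDim_eq_zero h hu, zero_add]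
  rw [← Cardinal.toENat_eq_zero, ← WithBot.coe_zero, WithBot.coe_inj]

theorem qf_iff_resTrdeg {U V : Scheme.{u}} (h : U ⟶ V) [LocallyOfFiniteType h] {u : U}
    (hu : Min u) : QF U V h u ↔ Dual3.resTrdeg h u = 0 :=
  (K616.NearDim.near_lqf_iff h u).trans (fibreDimAt_eq_zero_iff_resTrdeg h hu)

/-- For spaces: at a codimension zero point, quasi-finite iff transcendence degree zero. -/
theorem hasAtMor_iff {S : Scheme.{u}} {X Y : Sp S} (hX : IsAlgSpace X) (hY : IsAlgSpace Y) (f : X ⟶ Y)
    (hf : LocP @LocallyOfFiniteType f) {x : Points X} (hx : K621.Generic.CodimZero X x) :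
    HasAtMor (fun U _ h u => ∃ W : U.Opens, u ∈ W ∧ LocallyQuasiFinite (W.ι ≫ h) ∧
      LocallyOfFiniteType (W.ι ≫ h)) f x ↔ HasAtMor (fun _ _ h u => Dual3.resTrdeg h u = 0) f x := by
  obtain ⟨U, V, a, b, h, u, ha, hb, w, rfl⟩ := K616.Inv.exists_diagram hX hY f x
  have hlft : LocallyOfFiniteType h.left := hf a b h ha hb w
  have hmin : Min u := fun v hv => hx.chart hX ha hv
  exact (K616.Inv.hasAtMor_iff etInvOn_qf hf a b h ha hb w u).trans ((qf_iff_resTrdeg h.left hmin).trans
    (K616.Inv.hasAtMor_iff (K616.DimInv.etInvOn_resTrdeg (fun c => c = 0)) (K616.Inv.locP_top f) a b h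
    ha hb w u).symm)

end K626.TrdegQF
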