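import Groth.Agent.AlgSp.K626.W5Loc
import Groth.Agent.AlgSp.K626.W5Rat
import Groth.Agent.AlgSp.K608.Comp
import Groth.Agent.AlgSp.K610.Noeth
import Mathlib.RingTheory.LocalRing.ResidueField.Ideal

/-!
# Affine test schemes over an affine base, base change of algebraic spaces to them
-/

set_option autoImplicit false
set_option backward.isDefEq.respectTransparency false
universe u

open CategoryTheory CategoryTheory.Limits AlgebraicGeometry Opposite TopologicalSpace

namespace K626.W5

open AlgSp K610.SchLocus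

section prod

variable {S : Scheme.{u}}

theorem isAlgSpace_prod {X : Sp S} (hX : IsAlgSpace X) (T : Over S) : IsAlgSpace (X ⨯ (yon S).obj T) :=
  K608.Comp.isAlgSpace_of_isPullback (K625.Prod.isPullback_prod X ((yon S).obj T)) hX
    (IsAlgSpace.yon_obj _) (IsAlgSpace.yon_obj _)

/-- base change of an algebraic space to a test scheme -/
noncomputable abbrev bc (X : Space S) (T : Over S) : Space S := ⟨X.obj ⨯ (yon S).obj T, isAlgSpace_prod X.property T⟩

theorem isQuasiCompactSp_prod {X : Sp S} (hX : IsQuasiCompactSp X) (A : Over S) [hA : QuasiCompact A.hom] :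
    IsQuasiCompactSp (X ⨯ (yon S).obj A) := by
  obtain ⟨U, a, ha, ha', hU⟩ := hX
  have hf := K625.Prod.repWith_fst @QuasiCompact X A hA
  obtain ⟨W, snd, fst, sq⟩ := hf.1 a
  have : QuasiCompact snd.left := hf.2 _ _ _ sq
  exact ⟨W, fst, MorphismProperty.of_isPullback sq.flip ha, MorphismProperty.of_isPullback sq.flip ha',
    QuasiCompact.compactSpace_of_compactSpace snd.left⟩

/-- the map `X ⨯ h_T ⟶ X ⨯ h_T'` -/
noncomputable abbrev bcMap (X : Sp S) {T T' : Over S} (φ : T ⟶ T') :
    X ⨯ (yon S).obj T ⟶ X ⨯ (yon S).obj T' := prod.map (𝟙 X) ((yon S).map φ)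

theorem representable_bcMap (X : Sp S) {T T' : Over S} (φ : T ⟶ T') : Representable (bcMap X φ) := by
  obtain ⟨h1, -⟩ := K625.Prod.repWith_map_right ⊤ X φ trivial
  exact h1

theorem surjective_bcMap (X : Sp S) {T T' : Over S} (φ : T ⟶ T') [hφ : Surjective φ.left] :
    Function.Surjective (Points.map (bcMap X φ)) :=
  K625.Prod.surjective_of_repWith (K625.Prod.repWith_map_right @Surjective X φ hφ)

theorem openImm_bcMap (X : Sp S) {T T' : Over S} (φ : T ⟶ T') [hφ : IsOpenImmersion φ.left] :
    RepWith @IsOpenImmersion (bcMap X φ) :=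
  K625.Prod.repWith_map_right @IsOpenImmersion X φ hφ

theorem openImm_map_left {X Y : Sp S} {j : X ⟶ Y} (hj : RepWith @IsOpenImmersion j) (T : Over S) :
    RepWith @IsOpenImmersion (prod.map j (𝟙 ((yon S).obj T))) :=
  MorphismProperty.of_isPullback (K625.Prod.isPullback_map_left ((yon S).obj T) j) hj

end prod

section alg

variable (R : Type u) [CommRing R]

/-- `Spec A` over `Spec R` -/
noncomputable abbrev alg (A : Type u) [CommRing A] [Algebra R A] : Over (Spec (CommRingCat.of R)) :=
  Over.mk (Spec.map (CommRingCat.ofHom (algebraMap R A)))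

variable {R} {A B C : Type u} [CommRing A] [Algebra R A] [CommRing B] [Algebra R B] [CommRing C] [Algebra R C]

/-- the morphism of test schemes given by an algebra map -/
noncomputable def algHom (φ : A →ₐ[R] B) : alg R B ⟶ alg R A :=
  Over.homMk (Spec.map (CommRingCat.ofHom φ.toRingHom)) (by
    simp only [Over.mk_left, Over.mk_hom, ← Spec.map_comp, ← CommRingCat.ofHom_comp]
    congr 2
    exact φ.comp_algebraMap)

theorem algHom_left (φ : A →ₐ[R] B) : (algHom φ).left = Spec.map (CommRingCat.ofHom φ.toRingHom) := rfl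

theorem algHom_comp (φ : A →ₐ[R] B) (ψ : B →ₐ[R] C) : algHom (ψ.comp φ) = algHom ψ ≫ algHom φ := by
  ext1
  rw [Over.comp_left, algHom_left, algHom_left, algHom_left, ← Spec.map_comp]
  rfl

theorem exists_algHom (g : alg R B ⟶ alg R A) : ∃ φ : A →ₐ[R] B, g = algHom φ := by
  obtain ⟨φ, hφ⟩ := Spec.map_surjective g.left
  have hw : CommRingCat.ofHom (algebraMap R A) ≫ φ = CommRingCat.ofHom (algebraMap R B) := by
    apply Spec.map_injective
    rw [Spec.map_comp, hφ]
    exact Over.w g
  refine ⟨⟨φ.hom, fun r => ?_⟩, ?_⟩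
  · exact congrArg (fun f => f.hom r) hw
  · apply Over.OverMorphism.ext
    rw [← hφ]
    rfl

end alg

end K626.W5
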