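import Mathlib.Algebra.Polynomial.GroupRingAction
import Mathlib.RingTheory.IntegralClosure.IntegralRestrict
import Mathlib.FieldTheory.PurelyInseparable.PerfectClosure
import Mathlib.RingTheory.DedekindDomain.Basic

/-!
# Ring maps from an integral closure into a field which agree on the base are conjugate
-/

set_option autoImplicit false
universe u v w

open Polynomial

namespace K626.W5

/-- `B` with an action of a finite group: two maps into a domain agreeing on the invariants are conjugate. -/
theorem exists_smul_of_invariants {G : Type*} [Group G] [Finite G] {B : Type*} [CommRing B] [MulSemiringAction G B]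
    {Ω : Type*} [CommRing Ω] [IsDomain Ω] (φ ψ : B →+* Ω) (h : ∀ b : B, (∀ g : G, g • b = b) → φ b = ψ b) :
    ∃ g : G, ∀ b, ψ b = φ (g • b) := by
  classical
  have := Fintype.ofFinite G
  by_contra hne
  push Not at hne
  choose b hb using hne
  let e : G ≃ Fin (Fintype.card G) := Fintype.equivFin G
  let β : B[X] := ∑ g : G, C (b g) * X ^ (e g : ℕ)
  have hβ : ∀ (g : G) (x : G), (x • β).coeff (e g : ℕ) = x • b g := by
    intro g x
    rw [coeff_smul]
    congr 1
    simp only [β, finsetSum_coeff, coeff_C_mul, coeff_X_pow]
    rw [Finset.sum_eq_single g]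
    · simp
    · intro g' _ hg'
      rw [if_neg, mul_zero]
      intro hh
      exact hg' (e.injective (Fin.ext hh)).symm
    · simp
  let F := prodXSubSMul G B[X] β
  have hF : F.map (mapRingHom φ) = F.map (mapRingHom ψ) := by
    ext n m
    simp only [coeff_map, coe_mapRingHom]
    apply h
    intro g
    rw [← coeff_smul, prodXSubSMul.coeff]
  have h1 : (F.map (mapRingHom ψ)).eval (mapRingHom ψ β) = 0 := by
    rw [eval_map, eval₂_at_apply, prodXSubSMul.eval, map_zero]
  rw [← hF] at h1
  simp only [F, prodXSubSMul, Polynomial.map_prod, eval_prod, Polynomial.map_sub, map_X, map_C, eval_sub, eval_X,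
    eval_C] at h1
  obtain ⟨q, -, hq⟩ := Finset.prod_eq_zero_iff.1 h1
  induction q using QuotientGroup.induction_on with | H x =>
  rw [MulAction.ofQuotientStabilizer_mk, sub_eq_zero] at hq
  have h2 := congrArg (fun p => coeff p (e x : ℕ)) hq
  simp only [coe_mapRingHom, coeff_map, hβ] at h2
  apply hb x
  rw [← h2]
  congr 1
  have := hβ x 1
  rw [one_smul, one_smul] at this
  exact this.symm

/-- an element of a normal extension fixed by all automorphisms has a `q`-power in the base field -/
theorem pow_mem_of_fixed (K L : Type*) [Field K] [Field L] [Algebra K L] [Normal K L] (q : ℕ) [ExpChar K q] (x : L)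
    (hx : ∀ σ : L ≃ₐ[K] L, σ x = x) : ∃ n : ℕ, x ^ q ^ n ∈ (algebraMap K L).range := by
  classical
  rw [← mem_perfectClosure_iff_pow_mem, mem_perfectClosure_iff_natSepDegree_eq_one,
    natSepDegree_eq_of_splits _ (Normal.splits inferInstance x), Finset.card_eq_one]
  have hint : IsIntegral K x := Normal.isIntegral inferInstance x
  refine ⟨x, ?_⟩
  ext y
  simp only [Multiset.mem_toFinset, mem_aroots, Finset.mem_singleton]
  constructor
  · rintro ⟨-, h⟩
    obtain ⟨σ, rfl⟩ := minpoly.exists_algEquiv_of_root' hint.isAlgebraic h
    exact hx σ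
  · rintro rfl
    exact ⟨minpoly.ne_zero hint, minpoly.aeval K y⟩

section

variable (R K K' : Type*) [CommRing R] [IsIntegrallyClosed R] [IsDomain R] [Field K] [Algebra R K] [IsFractionRing R K]
  [Field K'] [Algebra K K'] [Algebra R K'] [IsScalarTower R K K']

/-- the automorphism of the integral closure -/
noncomputable abbrev act {K : Type*} {K' : Type*} [Field K] [Algebra R K] [Field K'] [Algebra K K'] [Algebra R K']
    [IsScalarTower R K K'] (σ : K' ≃ₐ[K] K') : integralClosure R K' ≃ₐ[R] integralClosure R K' :=
  (σ.restrictScalars R).mapIntegralClosure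

variable {R K K'} in
/-- Two ring maps from the integral closure of a normal domain in a finite normal extension into a field which agree
on the base are conjugate. -/
theorem exists_conj [FiniteDimensional K K'] [Normal K K'] {Ω : Type*} [Field Ω] (φ ψ : integralClosure R K' →+* Ω)
    (h : φ.comp (algebraMap R (integralClosure R K')) = ψ.comp (algebraMap R (integralClosure R K'))) :
    ∃ σ : K' ≃ₐ[K] K', ∀ b, ψ b = φ (act R σ b) := by
  let _ : MulSemiringAction (K' ≃ₐ[K] K') (integralClosure R K') :=
    { smul := fun σ b => act R σ b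
      one_smul := fun b => Subtype.ext rfl
      mul_smul := fun σ τ b => Subtype.ext rfl
      smul_zero := fun σ => map_zero (act R σ)
      smul_add := fun σ => map_add (act R σ)
      smul_one := fun σ => map_one (act R σ)
      smul_mul := fun σ => map_mul (act R σ) }
  refine exists_smul_of_invariants (G := K' ≃ₐ[K] K') φ ψ fun b hb => ?_
  obtain ⟨q, hq⟩ := ExpChar.exists K
  have hb' : ∀ σ : K' ≃ₐ[K] K', σ (b : K') = b := fun σ => congrArg Subtype.val (hb σ)
  obtain ⟨n, y, hy⟩ := pow_mem_of_fixed K K' q (b : K') hb'
  have hyi : IsIntegral R y := by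
    have h1 : IsIntegral R (algebraMap K K' y) := by
      rw [hy]
      exact b.2.pow _
    exact (isIntegral_algebraMap_iff (algebraMap K K').injective).1 h1
  obtain ⟨r, rfl⟩ := IsIntegrallyClosed.isIntegral_iff.1 hyi
  have h2 : b ^ q ^ n = algebraMap R (integralClosure R K') r := by
    apply Subtype.ext
    rw [SubmonoidClass.coe_pow, ← hy, ← IsScalarTower.algebraMap_apply]
    rfl
  have h3 : φ b ^ q ^ n = ψ b ^ q ^ n := by
    rw [← map_pow, ← map_pow, h2]
    exact RingHom.congr_fun h r
  rcases hq with _ | hp
  · simpa using h3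
  · have hpR : (q : R) = 0 := by
      apply IsFractionRing.injective R K
      rw [map_natCast, map_zero, CharP.cast_eq_zero]
    have hpΩ : (q : Ω) = 0 := by
      rw [← map_natCast (φ.comp (algebraMap R (integralClosure R K'))) q, hpR, map_zero]
    have hcp : CharP Ω q := (CharP.charP_iff_prime_eq_zero hp).2 hpΩ
    have : ExpChar Ω q := ExpChar.prime hp
    exact iterateFrobenius_inj Ω q n h3

end

end K626.W5
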