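import Groth.Agent.AlgSp.K626.W5Base
import Mathlib.RingTheory.IntegralClosure.IsIntegralClosure.Basic

/-!
# Levels of an integral extension: a space which is a scheme locally at finite levels is one at a finite level
-/

set_option autoImplicit false
set_option backward.isDefEq.respectTransparency false
universe u

open CategoryTheory CategoryTheory.Limits AlgebraicGeometry Opposite TopologicalSpace

namespace K626.W5

open AlgSp K610.SchLocus

variable {R : Type u} [CommRing R] {B : Type u} [CommRing B] [Algebra R B]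

/-- the preimage in `|X_B|` of the schematic locus of `X_{R₁}` -/
def W (X : Space (Spec (CommRingCat.of R))) (R₁ : Subalgebra R B) : Set (Points (X.obj ⨯ (yon _).obj (alg R B))) :=
  Points.map (bcMap X.obj (algHom R₁.val)) ⁻¹' locus (bc X (alg R R₁))

variable (X : Space (Spec (CommRingCat.of R)))

theorem isOpen_W (R₁ : Subalgebra R B) : IsOpen (W X R₁) :=
  (isOpen_locus _).preimage (Points.continuous_map _)

theorem W_mono {R₁ R₂ : Subalgebra R B} (h : R₁ ≤ R₂) : W X R₁ ⊆ W X R₂ := by
  intro z hz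
  change Points.map (bcMap X.obj (algHom R₂.val)) z ∈ locus (bc X (alg R R₂))
  have e : bcMap X.obj (algHom R₂.val) ≫ bcMap X.obj (algHom (Subalgebra.inclusion h)) =
      bcMap X.obj (algHom R₁.val) := by
    rw [prod.map_map, Category.comp_id, ← Functor.map_comp, ← algHom_comp]
    rfl
  refine mem_locus_of_map (Y := bc X (alg R R₁)) (Y' := bc X (alg R R₂))
    (f := bcMap X.obj (algHom (Subalgebra.inclusion h))) (representable_bcMap _ _) ?_
  rw [← Points.map_comp, e]
  exact hz

theorem finite_sup [Algebra.IsIntegral R B] {R₁ R₂ : Subalgebra R B} (h₁ : Module.Finite R R₁) (h₂ : Module.Finite R R₂) :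
    Module.Finite R (R₁ ⊔ R₂ : Subalgebra R B) := by
  have f₁ : R₁.toSubmodule.FG := Module.Finite.iff_fg.1 h₁
  have f₂ : R₂.toSubmodule.FG := Module.Finite.iff_fg.1 h₂
  obtain ⟨s₁, hs₁⟩ := Subalgebra.fg_of_fg_toSubmodule f₁
  obtain ⟨s₂, hs₂⟩ := Subalgebra.fg_of_fg_toSubmodule f₂
  have e : R₁ ⊔ R₂ = Algebra.adjoin R ((s₁ : Set B) ∪ s₂) := by
    rw [Algebra.adjoin_union, hs₁, hs₂]
  rw [e]
  exact Module.Finite.iff_fg.2 (fg_adjoin_of_finite (s₁.finite_toSet.union s₂.finite_toSet)
    fun x _ => Algebra.IsIntegral.isIntegral x)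

theorem surjective_algHom [Algebra.IsIntegral R B] (R₁ : Subalgebra R B) : Surjective (algHom R₁.val).left := by
  have h1 : (R₁.val.toRingHom : R₁ →+* B).IsIntegral := by
    intro b
    have : IsIntegral R b := Algebra.IsIntegral.isIntegral b
    have h2 : IsIntegral R₁ b := this.tower_top
    exact h2
  exact ⟨h1.comap_surjective Subtype.val_injective⟩

theorem exists_level [Algebra.IsIntegral R B] (hqc : IsQuasiCompactSp X.obj)
    (hcov : ∀ z : Points (X.obj ⨯ (yon _).obj (alg R B)), ∃ R₁ : Subalgebra R B, Module.Finite R R₁ ∧ z ∈ W X R₁) :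
    ∃ R₁ : Subalgebra R B, Module.Finite R R₁ ∧ (X.obj ⨯ (yon _).obj (alg R R₁)).obj.IsRepresentable := by
  have hc : CompactSpace (Points (X.obj ⨯ (yon _).obj (alg R B))) := by
    have : QuasiCompact (alg R B).hom := by
      change QuasiCompact (Spec.map _)
      infer_instance
    exact K610.Noeth.compactSpace_points (isQuasiCompactSp_prod hqc _)
  let ι := {R₁ : Subalgebra R B // Module.Finite R R₁}
  have : Nonempty ι := ⟨⊥, inferInstance⟩
  obtain ⟨⟨R₁, h₁⟩, hR⟩ := isCompact_univ.elim_directed_cover (fun i : ι => W X i.1) (fun i => isOpen_W X i.1)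
    (fun z _ => by
      obtain ⟨R₁, h₁, hz⟩ := hcov z
      exact Set.mem_iUnion.2 ⟨⟨R₁, h₁⟩, hz⟩)
    (fun i j => ⟨⟨i.1 ⊔ j.1, finite_sup i.2 j.2⟩, W_mono X le_sup_left, W_mono X le_sup_right⟩)
  refine ⟨R₁, h₁, ?_⟩
  have := surjective_algHom R₁
  have hu : locus (bc X (alg R R₁)) = Set.univ := by
    refine Set.eq_univ_of_forall fun y => ?_
    obtain ⟨z, rfl⟩ := surjective_bcMap X.obj (algHom R₁.val) y
    exact hR (Set.mem_univ z)
  exact isSch_univ_iff.1 (hu ▸ isSch_locus (bc X (alg R R₁)))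

end K626.W5
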