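import Groth.Agent.AlgSp.K610.SchLocus
import Groth.Agent.AlgSp.K647.FibNoeth
import Groth.Agent.AlgSp.K625.Prod

/-!
# The schematic locus: inverse images, images under open immersions; rational points of closed subsets
-/

set_option autoImplicit false
set_option backward.isDefEq.respectTransparency false
universe u

open CategoryTheory CategoryTheory.Limits AlgebraicGeometry Opposite TopologicalSpace

namespace K626.W5

open AlgSp K610.SchLocus

variable {S : Scheme.{u}} {X X' : Sp S}

theorem isSch_preimage {f : X' ⟶ X} (hf : Representable f) {W : Set (Points X)} (h : IsSch X W) :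
    IsSch X' (Points.map f ⁻¹' W) := by
  obtain ⟨H, g, hg, rfl⟩ := h
  obtain ⟨Z, snd, fst, sq⟩ := hf g
  refine ⟨Z, fst, MorphismProperty.of_isPullback sq.flip hg, ?_⟩
  rw [range_ofPt, range_ofPt]
  ext x
  constructor
  · rintro ⟨y, rfl⟩
    refine ⟨Points.map ((yon S).map snd) y, ?_⟩
    rw [← Points.map_comp, ← sq.w, Points.map_comp]
  · rintro ⟨y, hy⟩
    obtain ⟨w, hw, -⟩ := K647.Pts.exists_point sq x y hy.symm
    exact ⟨w, hw⟩

theorem isSch_image {j : X' ⟶ X} (hj : RepWith @IsOpenImmersion j) {W : Set (Points X')} (h : IsSch X' W) :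
    IsSch X (Points.map j '' W) := by
  obtain ⟨H, g, hg, rfl⟩ := h
  refine ⟨H, g ≫ j, MorphismProperty.comp_mem _ _ _ hg hj, ?_⟩
  ext x
  constructor
  · rintro ⟨t, rfl⟩
    exact ⟨Points.ofPt g t, ⟨t, rfl⟩, rfl⟩
  · rintro ⟨_, ⟨t, rfl⟩, rfl⟩
    exact ⟨t, rfl⟩

theorem mem_locus_of_map {Y Y' : Space S} {f : Y'.obj ⟶ Y.obj} (hf : Representable f) {y : Points Y'.obj}
    (hy : Points.map f y ∈ locus Y) : y ∈ locus Y' :=
  (isSch_preimage hf (isSch_locus Y)).subset_locus hy

theorem map_mem_locus {Y Y' : Space S} {j : Y'.obj ⟶ Y.obj} (hj : RepWith @IsOpenImmersion j) {y : Points Y'.obj}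
    (hy : y ∈ locus Y') : Points.map j y ∈ locus Y :=
  (isSch_image hj (isSch_locus Y')).subset_locus ⟨y, hy, rfl⟩

theorem representable_of_iso {Y Y' : Sp S} (e : Y' ≅ Y) : Representable e.hom :=
  (MorphismProperty.of_isIso (P := RepWith @IsOpenImmersion) e.hom).1

theorem map_iso_mem_locus {Y Y' : Space S} (e : Y'.obj ≅ Y.obj) {y : Points Y'.obj}
    (hy : y ∈ locus Y') : Points.map e.hom y ∈ locus Y :=
  map_mem_locus (j := e.hom) (MorphismProperty.of_isIso (P := RepWith @IsOpenImmersion) e.hom) hy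

end K626.W5
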