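import Groth.Agent.AlgSp.K626.W5Core

/-!
# Quasi-compact open subspaces of flat group algebraic spaces become schemes after a finite extension
-/

set_option autoImplicit false
set_option backward.isDefEq.respectTransparency false
universe u

open CategoryTheory CategoryTheory.Limits AlgebraicGeometry Opposite TopologicalSpace

namespace K626.W5

open AlgSp K610.SchLocus

variable {R : Type u} [CommRing R] {B : Type u} [CommRing B] [Algebra R B]

/-- the union of all levels -/
def WU (X : Space (Spec (CommRingCat.of R))) : Set (Points (X.obj ⨯ (yon _).obj (alg R B))) :=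
  {z | ∃ R₁ : Subalgebra R B, Module.Finite R R₁ ∧ z ∈ W X R₁}

theorem isOpen_WU (X : Space (Spec (CommRingCat.of R))) : IsOpen (WU (B := B) X) := by
  have e : WU (B := B) X = ⋃ i : {R₁ : Subalgebra R B // Module.Finite R R₁}, W X i.1 := by
    ext z
    simp only [Set.mem_iUnion]
    constructor
    · rintro ⟨R₁, h, hz⟩
      exact ⟨⟨R₁, h⟩, hz⟩
    · rintro ⟨⟨R₁, h⟩, hz⟩
      exact ⟨R₁, h, hz⟩
  rw [e]
  exact isOpen_iUnion fun i => isOpen_W X i.1

/-- `G` a group algebraic space, flat and locally of finite type over `R`, whose schematic locus meets every fibre;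
`B` integral over `R` with algebraically closed residue fields and the lifting property: every quasi-compact open
subspace of `G` becomes a scheme over a finite subalgebra of `B`. -/
theorem exists_isRepresentable [Algebra.IsIntegral R B]
    (G : Over ((yon (Spec (CommRingCat.of R))).obj (Over.mk (𝟙 (Spec (CommRingCat.of R)))))) [GrpObj G]
    (hG : IsAlgSpace G.left) (hft : LocP @LocallyOfFiniteType G.hom) (hfl : LocP @Flat G.hom)
    (hU : ∀ s : ↥(Spec (CommRingCat.of R)), ∃ (H : Over (Spec (CommRingCat.of R))) (h : (yon _).obj H ⟶ G.left),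
      RepWith @IsOpenImmersion h ∧ s ∈ Set.range H.hom)
    (X : Space (Spec (CommRingCat.of R))) (j : X.obj ⟶ G.left) (hj : RepWith @IsOpenImmersion j)
    (hX : IsQuasiCompactSp X.obj)
    (hB : ∀ (q : Ideal B) [q.IsPrime], IsAlgClosed q.ResidueField) (hL : Lifts R B) :
    ∃ R₁ : Subalgebra R B, Module.Finite R R₁ ∧ (X.obj ⨯ (yon _).obj (alg R R₁)).obj.IsRepresentable := by
  refine exists_level X hX fun z => ?_
  by_contra hz
  have hZ : IsClosed (WU (B := B) X)ᶜ := (isOpen_WU X).isClosed_compl
  obtain ⟨V, p, hp, hp'⟩ := X.property.atlas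
  have hpj : RepWith @Etale (p ≫ j) :=
    MorphismProperty.comp_mem _ _ _ hp (K610.OpenImm.repWith_etale_of_open hj)
  have : LocallyOfFiniteType V.hom := prop_chart hft hpj
  obtain ⟨q, hq, x, hx⟩ := exists_pt X V p hp' hB _ hZ ⟨z, hz⟩
  obtain ⟨R₁, h₁, hm⟩ := exists_mem_W G hG hft hfl hU X j hj hB hL q x (IsLocalRing.closedPoint q.ResidueField)
  exact hx _ ⟨R₁, h₁, hm⟩

/-- base change: representable over `R₁` implies representable over every `R₁`-algebra -/
theorem isRepresentable_of_algHom (X : Sp (Spec (CommRingCat.of R))) {A A' : Type u} [CommRing A] [Algebra R A]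
    [CommRing A'] [Algebra R A'] (φ : A →ₐ[R] A') (h : (X ⨯ (yon _).obj (alg R A)).obj.IsRepresentable) :
    (X ⨯ (yon _).obj (alg R A')).obj.IsRepresentable := by
  rw [K610.ZarGlue.isRepresentable_iff] at h ⊢
  obtain ⟨H, ⟨e⟩⟩ := h
  obtain ⟨Z, snd, fst, sq⟩ := representable_bcMap X (algHom φ) e.hom
  have : IsIso fst := MorphismProperty.of_isPullback (P := MorphismProperty.isomorphisms _) sq.flip
    (inferInstanceAs (IsIso e.hom))
  exact ⟨Z, ⟨asIso fst⟩⟩

end K626.W5
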