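import Groth.Agent.AlgSp.K626.W5Level

/-!
# Points of `X_B` with values in residue fields of `B`
-/

set_option autoImplicit false
set_option backward.isDefEq.respectTransparency false
universe u

open CategoryTheory CategoryTheory.Limits AlgebraicGeometry Opposite TopologicalSpace

namespace K626.W5

open AlgSp K610.SchLocus

variable {R : Type u} [CommRing R] {B : Type u} [CommRing B] [Algebra R B]

/-- the canonical point of `Spec B` with values in the residue field -/
noncomputable abbrev resPt (R : Type u) [CommRing R] {B : Type u} [CommRing B] [Algebra R B] (q : Ideal B) [q.IsPrime] :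
    alg R q.ResidueField ⟶ alg R B :=
  algHom (IsScalarTower.toAlgHom R B q.ResidueField)

/-- a scheme locally of finite type over `R` with a point over `q`: it has a `κ(q)`-point when `κ(q)` is
algebraically closed, in any closed subset of the fibre -/
theorem exists_pt_chart (q : Ideal B) [q.IsPrime] [IsAlgClosed q.ResidueField] (V : Over (Spec (CommRingCat.of R)))
    [LocallyOfFiniteType V.hom] (F : Over (Spec (CommRingCat.of R))) (f₁ : F ⟶ V) (f₂ : F ⟶ alg R q.ResidueField)
    (sq : IsPullback f₁.left f₂.left V.hom (alg R q.ResidueField).hom) (C : Set F.left) (hC : IsClosed C)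
    (hne : C.Nonempty) :
    ∃ σ : alg R q.ResidueField ⟶ F, σ ≫ f₂ = 𝟙 _ ∧ ∀ t, σ.left t ∈ C := by
  have : LocallyOfFiniteType f₂.left := MorphismProperty.of_isPullback sq ‹_›
  have h2 : f₂.left = (f₂.left : F.left ⟶ Spec (CommRingCat.of q.ResidueField)) := rfl
  obtain ⟨σ, h1, h2⟩ := exists_ratPt (K := q.ResidueField) (f₂.left : F.left ⟶ Spec (CommRingCat.of q.ResidueField)) C hC hne
  refine ⟨Over.homMk σ ?_, ?_, h2⟩
  · rw [← Over.w f₂, reassoc_of% h1]
  · ext1
    exact h1

/-- every nonempty closed subset of `|X_B|` contains a point with values in a residue field of `B` -/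
theorem exists_pt (X : Space (Spec (CommRingCat.of R))) (V : Over (Spec (CommRingCat.of R)))
    (p : (yon _).obj V ⟶ X.obj) (hp' : RepWith @Surjective p) [LocallyOfFiniteType V.hom]
    (hB : ∀ (q : Ideal B) [q.IsPrime], IsAlgClosed q.ResidueField)
    (Z : Set (Points (X.obj ⨯ (yon _).obj (alg R B)))) (hZ : IsClosed Z) (hne : Z.Nonempty) :
    ∃ (q : Ideal B) (_ : q.IsPrime) (x : (yon _).obj (alg R q.ResidueField) ⟶ X.obj),
      ∀ t, Points.ofPt (prod.lift x ((yon _).map (resPt R q))) t ∈ Z := by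
  obtain ⟨z, hz⟩ := hne
  have hs : RepWith @Surjective (prod.map p (𝟙 ((yon _).obj (alg R B)))) :=
    MorphismProperty.of_isPullback (K625.Prod.isPullback_map_left ((yon _).obj (alg R B)) p) hp'
  obtain ⟨z', rfl⟩ := K625.Prod.surjective_of_repWith hs z
  induction z' using Points.ind with | h ζ => ?_
  obtain ⟨v, hv⟩ := (yon _).map_surjective (ζ.toHom ≫ prod.fst)
  obtain ⟨w, hw⟩ := (yon _).map_surjective (ζ.toHom ≫ prod.snd)
  obtain ⟨φ, hφ⟩ := Spec.map_surjective (R := CommRingCat.of B) (S := CommRingCat.of ζ.K) w.left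
  let q : Ideal B := RingHom.ker φ.hom
  have hq : q.IsPrime := RingHom.ker_isPrime φ.hom
  have := hB q
  have hun : q.primeCompl ≤ (IsUnit.submonoid ζ.K).comap φ.hom := fun b hb => by
    rw [Submonoid.mem_comap, IsUnit.mem_submonoid_iff]
    exact Ne.isUnit hb
  let ψ : q.ResidueField →+* ζ.K := Ideal.ResidueField.lift q φ.hom le_rfl hun
  have hψ : CommRingCat.ofHom (algebraMap B q.ResidueField) ≫ CommRingCat.ofHom ψ = φ := by
    ext b
    exact Ideal.ResidueField.lift_algebraMap q φ.hom le_rfl hun b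
  have hres : (resPt R q).left = Spec.map (CommRingCat.ofHom (algebraMap B q.ResidueField)) := rfl
  have e1 : Spec.map (CommRingCat.ofHom ψ) ≫ (resPt R q).left = w.left := by
    rw [hres, ← Spec.map_comp, hψ, hφ]
  let κ := alg R q.ResidueField
  have e2 : v.left ≫ V.hom = Spec.map (CommRingCat.ofHom ψ) ≫ κ.hom := by
    rw [Over.w v, ← Over.w (resPt R q), reassoc_of% e1, Over.w w]
  let F : Over (Spec (CommRingCat.of R)) := Over.mk (pullback.fst V.hom κ.hom ≫ V.hom)
  let f₁ : F ⟶ V := Over.homMk (pullback.fst V.hom κ.hom) rfl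
  let f₂ : F ⟶ κ := Over.homMk (pullback.snd V.hom κ.hom) pullback.condition.symm
  let l : ζ.pt ⟶ F := Over.homMk (pullback.lift v.left (Spec.map (CommRingCat.ofHom ψ)) e2) (by
    change pullback.lift _ _ _ ≫ pullback.fst V.hom κ.hom ≫ V.hom = _
    rw [pullback.lift_fst_assoc, Over.w v])
  have l1 : l ≫ f₁ = v := by
    ext1
    exact pullback.lift_fst _ _ _
  have l2 : l ≫ f₂ ≫ resPt R q = w := by
    ext1
    change pullback.lift _ _ _ ≫ pullback.snd V.hom κ.hom ≫ (resPt R q).left = _
    rw [pullback.lift_snd_assoc, e1]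
  let g : (yon _).obj F ⟶ X.obj ⨯ (yon _).obj (alg R B) :=
    prod.lift ((yon _).map f₁ ≫ p) ((yon _).map (f₂ ≫ resPt R q))
  have hg : (yon _).map l ≫ g = ζ.toHom ≫ prod.map p (𝟙 _) := by
    apply Limits.prod.hom_ext
    · rw [Category.assoc, Category.assoc, prod.lift_fst, prod.map_fst, ← Category.assoc, ← Functor.map_comp, l1, hv,
        Category.assoc]
    · rw [Category.assoc, Category.assoc, prod.lift_snd, prod.map_snd, Category.comp_id, ← Functor.map_comp, l2, hw]
  obtain ⟨σ, h1, h2⟩ := exists_pt_chart q V F f₁ f₂ (IsPullback.of_hasPullback _ _) {f | Points.ofPt g f ∈ Z}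
    (hZ.preimage (Points.continuous_ofPt g)) ⟨l.left (IsLocalRing.closedPoint ζ.K), by
      change Points.ofPt g _ ∈ Z
      rw [← K647.Pts.ofPt_map, hg, ← Points.map_ofPt, K647.FibNoeth.ofPt_toHom]
      exact hz⟩
  refine ⟨q, hq, (yon _).map (σ ≫ f₁) ≫ p, fun t => ?_⟩
  have e3 : prod.lift ((yon _).map (σ ≫ f₁) ≫ p) ((yon _).map (resPt R q)) = (yon _).map σ ≫ g := by
    apply Limits.prod.hom_ext
    · rw [prod.lift_fst, Category.assoc, prod.lift_fst, Functor.map_comp, Category.assoc]
    · rw [prod.lift_snd, Category.assoc, prod.lift_snd, ← Functor.map_comp, reassoc_of% h1]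
  rw [e3, K647.Pts.ofPt_map]
  exact h2 t

end K626.W5
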